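import Cfsg.Agent.H0.CenI
import Cfsg.Agent.H0.Pc
import Cfsg.Agent.H1.Fitting
import Cfsg.Prelude.Def_CaseTheorems

/-! Extraspecial 2-subgroups given by letters, and centralisers `Q : K` with `K` simple. -/

namespace H0
open BN Subgroup Cfsg
open scoped commutatorElement
variable {G : Type*} [Group G]

structure XS2 (Q : Subgroup G) (z : G) : Prop where
  zm : z ∈ Q
  oz : orderOf z = 2
  comm : ∀ a ∈ Q, ∀ b ∈ Q, ⁅a, b⁆ ∈ zpowers z
  pow : ∀ a ∈ Q, a ^ 2 ∈ zpowers z
  ctr : ∀ a ∈ Q, (∀ b ∈ Q, b * a = a * b) ↔ a ∈ zpowers z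
  nc : ∃ a ∈ Q, a ∉ zpowers z

theorem zp2 {z a : G} (h : orderOf z = 2) : a ∈ zpowers z ↔ a = 1 ∨ a = z := by
  classical
  rw [(orderOf_pos_iff.1 (by omega : 0 < orderOf z)).mem_zpowers_iff_mem_range_orderOf, h]
  simp [Finset.range_add_one, eq_comm, or_comm]

theorem XS2.es {Q : Subgroup G} {z : G} (h : XS2 Q z) {P : Type*} [Group P] [Finite P] (f : P →* G)
    (hf : Function.Injective f) (hr : f.range = Q) : IsExtraspecial 2 P := by
  obtain ⟨y, rfl⟩ := hr.ge h.zm
  have m : ∀ x, f x ∈ Q := fun x => hr.le ⟨x, rfl⟩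
  have e : ∀ x, x ∈ center P ↔ f x ∈ zpowers (f y) := fun x => by
    rw [← h.ctr _ (m x), mem_center_iff]
    exact ⟨fun a b hb => by obtain ⟨b, rfl⟩ := hr.ge hb; rw [← map_mul, a, map_mul], fun a b => hf (by
      rw [map_mul, map_mul, a _ (m b)])⟩
  have oy : orderOf y = 2 := (orderOf_injective f hf y).symm.trans h.oz
  have c : center P = zpowers y := by
    ext x; rw [e, ← MonoidHom.map_zpowers, mem_map_iff_mem hf]
  have d : commutator P ≤ center P := commutator_le.2 fun a _ b _ => by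
    rw [e, map_commutatorElement]; exact h.comm _ (m a) _ (m b)
  have p : ∀ x : P, x ^ 2 ∈ center P := fun x => by rw [e, map_pow]; exact h.pow _ (m x)
  have pg : IsPGroup 2 P := fun x => ⟨2, by
    rcases (zp2 oy).1 (c.le (p x)) with a | a
    · rw [show 2 ^ 2 = 2 * 2 from rfl, pow_mul, a, one_pow]
    · rw [show 2 ^ 2 = 2 * 2 from rfl, pow_mul, a, ← oy, pow_orderOf_eq_one]⟩
  have d2 : center P ≤ commutator P := by
    obtain ⟨a, ha, n⟩ := h.nc
    obtain ⟨a, rfl⟩ := hr.ge ha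
    rw [← e, mem_center_iff, not_forall] at n
    obtain ⟨b, n⟩ := n
    have k : ⁅b, a⁆ ∈ commutator P := commutator_mem_commutator (mem_top _) (mem_top _)
    rw [c, zpowers_le]
    exact ((zp2 oy).1 (c.le (d k))).resolve_left (mt commutatorElement_eq_one_iff_mul_comm.1 n) ▸ k
  haveI := pg.isNilpotent
  exact ⟨⟨pg, le_antisymm (H1.frattini_le_of_elementary_quotient Nat.prime_two d p)
    (d2.trans H1.commutator_le_frattini_of_isNilpotent), le_antisymm d d2⟩, by rw [c, Nat.card_zpowers, oy]⟩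

noncomputable def ne2 (R : Rep) (b : ℕ) (u v : List ℕ) : Bool := wpt R u b fun y => wpt R v b fun y' => !Nat.beq y y'

theorem Model.ne2_of (m : Model G) {b : ℕ} {u v : List ℕ} (h : ne2 m.R b u v = true) : ev m.g u ≠ ev m.g v := fun e => by
  rw [ne2, wpt_eq, wpt_eq, ← m.φ_ev, ← m.φ_ev, e] at h
  simp at h

def xsE (l : List ℕ) (z : ℕ) (T : List (List ℕ)) : List (List ℕ × List ℕ) :=
  ([z, z], []) :: l.map (fun x => ([x, z], [z, x])) ++ l.flatMap fun x => l.map fun y =>
    ([x, y], List.replicate ((T.getD (l.idxOf x) []).getD (l.idxOf y) 0) z ++ if x = y then [] else [y, x])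

noncomputable def ctrB (R : Rep) (b : ℕ) (l : List ℕ) (z : ℕ) (L : List (List ℕ)) : Bool :=
  allL (fun w => w == [] || w == [z] || l.any fun y => ne2 R b (y :: w) (w ++ [y])) L

theorem gl_let (g : ℕ → G) {l : List ℕ} {x : ℕ} (h : x ∈ l) : g x ∈ gl g l := by
  simpa using mem_gl g (l := l) (w := [x]) (by simpa using h)

theorem xs2_of [Finite G] {g : ℕ → G} {L : List ℕ} {z : ℕ} (oz : orderOf (g z) = 2) (hz : ∀ x ∈ L, g x * g z = g z * g x)
    (hp : ∀ x ∈ L, g x * g x ∈ zpowers (g z)) (hc : ∀ x ∈ L, ∀ y ∈ L, ⁅g x, g y⁆ ∈ zpowers (g z))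
    (ctr : ∀ a ∈ gl g (L ++ [z]), (∀ y ∈ L, g y * a = a * g y) → a ∈ zpowers (g z)) (nc : ∃ x ∈ L, g x ∉ zpowers (g z)) :
    XS2 (gl g (L ++ [z])) (g z) := by
  have mz : g z ∈ gl g (L ++ [z]) := gl_let g (by simp)
  have mL : ∀ x ∈ L, g x ∈ gl g (L ++ [z]) := fun x hx => gl_let g (by simp [hx])
  have cz : ∀ a ∈ gl g (L ++ [z]), ∀ c ∈ zpowers (g z), a * c = c * a := fun a ha c hc => by
    have : a * g z = g z * a := gl_ind (P := fun a => a * g z = g z * a) (by simp) (fun x hx a h => by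
      rcases List.mem_append.1 hx with hx | hx
      · rw [mul_assoc, h, ← mul_assoc, hz x hx, mul_assoc]
      · rw [List.mem_singleton.1 hx, mul_assoc, h]) a ha
    rcases (zp2 oz).1 hc with rfl | rfl
    exacts [by simp, this]
  have c1 : ∀ y ∈ gl g (L ++ [z]), (∀ x ∈ L, ⁅g x, y⁆ ∈ zpowers (g z)) → ∀ a ∈ gl g (L ++ [z]), ⁅a, y⁆ ∈ zpowers (g z) :=
    fun y hy h => gl_ind (by simp) fun x hx a ha => by
      rw [show ⁅g x * a, y⁆ = g x * ⁅a, y⁆ * (g x)⁻¹ * ⁅g x, y⁆ by simp only [commutatorElement_def]; group,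
        cz _ (gl_let g hx) _ ha, mul_inv_cancel_right]
      refine mul_mem ha ?_
      rcases List.mem_append.1 hx with hx | hx
      · exact h x hx
      · rw [List.mem_singleton.1 hx, commutatorElement_eq_one_iff_mul_comm.2 (cz y hy _ (mem_zpowers _)).symm]
        exact one_mem _
  have c2 : ∀ a ∈ gl g (L ++ [z]), ∀ b ∈ gl g (L ++ [z]), ⁅a, b⁆ ∈ zpowers (g z) := fun a ha b hb =>
    c1 b hb (fun x hx => commutatorElement_inv b (g x) ▸ inv_mem (c1 _ (mL x hx) (fun y hy => hc y hy x hx) b hb)) a ha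
  refine ⟨mz, oz, c2, fun a ha => (gl_ind (P := fun a => a ∈ gl g (L ++ [z]) ∧ a ^ 2 ∈ zpowers (g z)) (by simp)
    (fun x hx a h => ⟨mul_mem (gl_let g hx) h.1, ?_⟩) a ha).2,
    fun a ha => ⟨fun h => ctr a ha fun y hy => h _ (mL y hy), fun h b hb => cz b hb a h⟩,
    nc.elim fun x hx => ⟨_, mL x hx.1, hx.2⟩⟩
  rw [show (g x * a) ^ 2 = g x * g x * ⁅(g x)⁻¹, a⁆ * a ^ 2 by simp only [commutatorElement_def, sq]; group]
  refine mul_mem (mul_mem ?_ (c2 _ (inv_mem (gl_let g hx)) _ h.1)) h.2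
  rcases List.mem_append.1 hx with hx | hx
  · exact hp x hx
  · rw [List.mem_singleton.1 hx]; exact mul_mem (mem_zpowers _) (mem_zpowers _)

theorem Model.xs2 [Finite G] (m : Model G) {x0 z b b' b'' : ℕ} {L : List ℕ} {T W}
    (hE : ∀ e ∈ pcE 2 (L ++ [z]) W, ev m.g e.1 = ev m.g e.2) (h1 : ∀ e ∈ xsE L z T, ev m.g e.1 = ev m.g e.2)
    (h2 : (pcOK (L ++ [z]) W && L.contains x0 && ne2 m.R b [z] [] && ne2 m.R b' [x0] [] && ne2 m.R b'' [x0] [z]) = true)
    (h3 : ctrB m.R b L z (nfW 2 (L ++ [z])) = true) : XS2 (gl m.g (L ++ [z])) (m.g z) := by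
  simp only [Bool.and_eq_true, List.contains_iff_mem] at h2
  obtain ⟨⟨⟨⟨hW, h0⟩, n1⟩, n2⟩, n3⟩ := h2
  have oz : orderOf (m.g z) = 2 :=
    orderOf_eq_prime (by simpa [sq] using h1 _ List.mem_cons_self) (by simpa using m.ne2_of n1)
  have k : ∀ x ∈ L, ∀ y ∈ L, ∃ c ∈ zpowers (m.g z), m.g x * m.g y = c * if x = y then 1 else m.g y * m.g x := fun x hx y hy => by
    have := h1 _ (List.mem_cons_of_mem _ (List.mem_append_right _ (List.mem_flatMap.2 ⟨x, hx, List.mem_map_of_mem hy⟩)))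
    refine ⟨_, npow_mem_zpowers _ ((T.getD (L.idxOf x) []).getD (L.idxOf y) 0), ?_⟩
    rw [ev_append, ev_rep] at this
    split_ifs at this ⊢ <;> simpa using this
  refine xs2_of oz (fun x hx => by
      simpa using h1 _ (List.mem_cons_of_mem _ (List.mem_append_left _ (List.mem_map_of_mem hx))))
    (fun x hx => ?_) (fun x hx y hy => ?_) (fun a ha h => ?_)
    ⟨x0, h0, by rw [zp2 oz]; exact not_or.2 ⟨by simpa using m.ne2_of n2, by simpa using m.ne2_of n3⟩⟩
  · obtain ⟨c, hc, e⟩ := k x hx x hx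
    rwa [e, if_pos rfl, mul_one]
  · obtain ⟨c, hc, e⟩ := k x hx y hy
    split_ifs at e with q
    · rw [q, commutatorElement_self]; exact one_mem _
    · rwa [commutatorElement_def, e, show c * (m.g y * m.g x) * (m.g x)⁻¹ * (m.g y)⁻¹ = c by group]
  · obtain ⟨w, hw, rfl⟩ := pc_nf two_pos hE hW a ha
    have := allL_spec h3 w hw
    simp only [Bool.or_eq_true, beq_iff_eq, List.any_eq_true] at this
    rcases this with (rfl | rfl) | ⟨y, hy, n⟩
    exacts [one_mem _, by simp, (m.ne2_of n (by simpa [ev_append] using h y hy)).elim]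

/-- structure of a centraliser `Q : K` -/
theorem cent_str [Finite G] {t : G} {Q K C : Subgroup G} {A : Type*} [Group A] (hx : XS2 Q t) (hC : C = Q ⊔ K)
    (hn : K ≤ normalizer Q) (e : Nonempty (A ≃* K)) (hs : IsSimpleGroup A) (hA : 3 ∣ Nat.card A) :
    ∃ _ : (Q.subgroupOf C).Normal, IsExtraspecial 2 (Q.subgroupOf C) ∧ Nat.card (Q.subgroupOf C) = Nat.card Q ∧
      (Q.subgroupOf C).IsComplement' (K.subgroupOf C) ∧ Nonempty (C ⧸ Q.subgroupOf C ≃* A) ∧ pCore 2 C = Q.subgroupOf C := by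
  obtain ⟨e⟩ := e
  have q : Q ≤ C := hC ▸ le_sup_left
  have k : K ≤ C := hC ▸ le_sup_right
  have : Finite A := .of_equiv _ e.symm.toEquiv
  have nA : ¬ IsPGroup 2 A := fun h => by
    obtain ⟨n, hn⟩ := IsPGroup.iff_card.1 h
    exact absurd (Nat.Prime.dvd_of_dvd_pow Nat.prime_three (hn ▸ hA)) (by decide)
  have nm : (Q.subgroupOf C).Normal := (normal_subgroupOf_iff_le_normalizer q).2 (hC ▸ sup_le le_normalizer hn)
  have es := hx.es (C.subtype.comp (Q.subgroupOf C).subtype) (C.subtype_injective.comp (subtype_injective _)) (by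
    rw [MonoidHom.range_comp, range_subtype, subgroupOf_map_subtype, inf_eq_left.2 q])
  have f := (e.trans (subgroupOfEquivOfLe k).symm)
  have : IsSimpleGroup (K.subgroupOf C) := f.symm.isSimpleGroup
  have dj : Disjoint (Q.subgroupOf C) (K.subgroupOf C) := by
    rcases (nm.subgroupOf (K.subgroupOf C)).eq_bot_or_eq_top with h | h
    · exact subgroupOf_eq_bot.1 h
    · exact (nA ((es.1.1.to_le (subgroupOf_eq_top.1 h)).of_equiv f.symm)).elim
  have co : (Q.subgroupOf C).IsComplement' (K.subgroupOf C) := isComplement'_of_disjoint_and_mul_eq_univ dj (by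
    rw [← normal_mul, ← subgroupOf_sup q k, ← hC, subgroupOf_self, coe_top])
  have g := co.symm.QuotientMulEquiv.trans f.symm
  refine ⟨nm, es, Nat.card_congr (subgroupOfEquivOfLe q).toEquiv, co, ⟨g⟩, le_antisymm ?_ (H1.le_pCore es.1.1)⟩
  have : IsSimpleGroup (C ⧸ Q.subgroupOf C) := g.isSimpleGroup
  rcases ((pCore_normal 2 C).map _ (QuotientGroup.mk'_surjective (Q.subgroupOf C))).eq_bot_or_eq_top with h | h
  · rwa [Subgroup.map_eq_bot_iff, QuotientGroup.ker_mk'] at h
  · exact (nA (((h ▸ H1.isPGroup_pCore.map _ : IsPGroup 2 (⊤ : Subgroup _)).of_equiv topEquiv).of_equiv g)).elim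

def nrmE (l ks : List ℕ) (T : List (List (List ℕ))) : List (List ℕ × List ℕ) :=
  ks.flatMap fun k => l.map fun x => ([k, x], (T.getD (ks.idxOf k) []).getD (l.idxOf x) [] ++ [k])

theorem gl_nrm [Finite G] {g : ℕ → G} {l ks : List ℕ} {T} (h : ∀ e ∈ nrmE l ks T, ev g e.1 = ev g e.2)
    (h1 : (T.all fun t => t.all (·.all l.contains)) = true) : gl g ks ≤ normalizer (gl g l) := by
  refine gen_le fun w hw => ?_
  obtain ⟨k, hk, rfl⟩ := List.mem_map.1 hw
  refine mem_normalizer_fintype (gl_ind (by simp) fun x hx a ha => ?_)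
  have := h _ (List.mem_flatMap.2 ⟨k, hk, List.mem_map_of_mem hx⟩)
  simp only [ev_append, ev_cons, ev_nil, mul_one] at this ha ⊢
  rw [show g k * (g x * a) * (g k)⁻¹ = g k * g x * (g k)⁻¹ * (g k * a * (g k)⁻¹) by group, this, mul_inv_cancel_right]
  refine mul_mem (mem_gl g ?_) ha
  simp only [List.getD_eq_getElem?_getD]
  cases a : T[ks.idxOf k]? with
  | none => simp
  | some t =>
    cases b : t[l.idxOf x]? with
    | none => simp [b]
    | some u => simpa [b] using List.all_eq_true.1 (List.all_eq_true.1 h1 t (List.mem_of_getElem? a)) u (List.mem_of_getElem? b)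

noncomputable def minB (R : Rep) (b z : ℕ) (N : List (List ℕ)) : Bool :=
  allL (fun w => w == [] || w == [z] || ne2 R b (w ++ w) [] ||
    allL (fun v => v == [] || v == [z] || v == w || v == w ++ [z] || w == v ++ [z] || ne2 R b (v ++ v) [] || ne2 R b (v ++ w) (w ++ v)) N) N

theorem Model.minus [Finite G] (m : Model G) {z b : ℕ} {L : List ℕ} {W} (oz : orderOf (m.g z) = 2)
    (hE : ∀ e ∈ pcE 2 L W, ev m.g e.1 = ev m.g e.2) (h : (pcOK L W && minB m.R b z (nfW 2 L)) = true)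
    {P : Type*} [Group P] (f : P →* G) (hf : Function.Injective f) (hr : ∀ x, f x ∈ gl m.g L) (E : Subgroup P)
    (hE' : IsElementaryAbelian 2 E) : Nat.card E ≤ 2 ^ 2 := by
  classical
  rw [Bool.and_eq_true] at h
  have sq : ∀ a ∈ E, f a * f a = 1 := fun a ha => by rw [← map_mul, ← sq, hE'.2 a ha, map_one]
  have zz : m.g z * m.g z = 1 := by rw [← pow_two, ← oz, pow_orderOf_eq_one]
  obtain ⟨a, ha⟩ : ∃ a : G, ∀ x ∈ E, f x ∈ ({1, m.g z, a, a * m.g z} : Finset G) := by
    by_cases q : ∃ x ∈ E, f x ≠ 1 ∧ f x ≠ m.g z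
    · obtain ⟨x, hx, q⟩ := q
      refine ⟨f x, fun y hy => ?_⟩
      obtain ⟨w, hw, e⟩ := pc_nf two_pos hE h.1 _ (hr x)
      obtain ⟨v, hv, e'⟩ := pc_nf two_pos hE h.1 _ (hr y)
      have c : f y * f x = f x * f y := by
        rw [← map_mul, ← map_mul]; exact congrArg f (congrArg Subtype.val (hE'.1.is_comm.comm (⟨y, hy⟩ : E) ⟨x, hx⟩))
      have := allL_spec h.2 w hw
      simp only [Bool.or_eq_true, beq_iff_eq] at this
      rcases this with ((rfl | rfl) | n) | n
      · exact (q.1 e).elim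
      · exact (q.2 (by simpa using e)).elim
      · exact (m.ne2_of n (by rw [ev_append, ← e, sq x hx, ev_nil])).elim
      have := allL_spec n v hv
      simp only [Bool.or_eq_true, beq_iff_eq] at this
      rcases this with (((((rfl | rfl) | rfl) | rfl) | rfl) | n) | n
      · simp [e']
      · simp [e']
      · simp [e, e']
      · simp [e, e', ev_append]
      · simp [e, e', ev_append, mul_assoc, zz]
      · exact (m.ne2_of n (by rw [ev_append, ← e', sq y hy, ev_nil])).elim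
      · exact (m.ne2_of n (by rw [ev_append, ev_append, ← e, ← e', c])).elim
    · exact ⟨1, fun y hy => by
        by_contra n
        exact q ⟨y, hy, fun e => n (by simp [e]), fun e => n (by simp [e])⟩⟩
  calc Nat.card E ≤ Nat.card ({1, m.g z, a, a * m.g z} : Finset G) :=
        Nat.card_le_card_of_injective (fun x => ⟨f x, ha x x.2⟩) fun x y e => Subtype.ext (hf (congrArg Subtype.val e))
    _ ≤ 2 ^ 2 := by rw [Nat.card_eq_finsetCard]; exact Finset.card_le_four

theorem cent_sup {g : ℕ → G} {z : ℕ} {l ks : List ℕ} {Cg : List (List ℕ)} (h1 : centralizer {ev g [z]} ≤ gen g Cg)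
    (h2 : (Cg.all (·.all (l ++ ks).contains)) = true) (h3 : ∀ e ∈ cmE z ((l ++ ks).map fun x => [x]), ev g e.1 = ev g e.2) :
    centralizer {g z} = gl g l ⊔ gl g ks := by
  rw [gl, gl, ← Model.gen_append, ← List.map_append]
  exact le_antisymm (le_trans (by simpa using h1) (gen_le fun w hw => mem_gl g (List.all_eq_true.1 h2 w hw))) (gen_le_cent h3)

theorem gl_sh (g : ℕ → G) {off k : ℕ} {ks : List ℕ} (h : ((lets k).map (sh off) == ks.map fun x => [x]) = true) :
    gen g ((lets k).map (sh off)) = gl g ks := congrArg (gen g) (eq_of_beq h)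

end H0
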