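import Cfsg.Agent.H0.StA

/-! Uniqueness of the binary Golay code. -/

set_option maxRecDepth 100000
namespace H0.St
open Finset Cfsg H6

variable {ι : Type*} [Fintype ι] [DecidableEq ι]

theorem norm_eq (u : ι → ZMod 2) : hammingNorm u = (support₂ u).card := rfl
theorem mem_supp {u : ι → ZMod 2} {i : ι} : i ∈ support₂ u ↔ u i ≠ 0 := by simp [support₂]

theorem supp_sub (u w : ι → ZMod 2) : support₂ (u - w) = symmDiff (support₂ u) (support₂ w) := by
  ext i
  simp only [mem_symmDiff, mem_supp, Pi.sub_apply]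
  generalize u i = a; generalize w i = b; revert a b; decide

theorem exists_supp (s : Finset ι) : ∃ u : ι → ZMod 2, support₂ u = s :=
  ⟨fun i => if i ∈ s then 1 else 0, by ext i; simp [mem_supp]⟩

theorem card_norm (k : ℕ) : #{u : ι → ZMod 2 | hammingNorm u = k} = (Fintype.card ι).choose k := by
  rw [← card_univ, ← card_powersetCard]
  refine card_bij (fun u _ => support₂ u) (fun u hu => mem_powersetCard_univ.2 (mem_filter.1 hu).2)
    (fun _ _ _ _ h => support₂_inj h) fun s hs => ?_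
  obtain ⟨u, rfl⟩ := exists_supp s
  exact ⟨u, mem_filter.2 ⟨mem_univ _, mem_powersetCard_univ.1 hs⟩, rfl⟩

theorem even_of_orth {u : ι → ZMod 2} (h : ∑ i, u i * u i = 0) : hammingNorm u % 2 = 0 := by
  have : ((hammingNorm u : ℕ) : ZMod 2) = ∑ i, u i * u i := by
    rw [hammingNorm, card_filter, Nat.cast_sum]
    refine sum_congr rfl fun i _ => ?_
    generalize u i = a; revert a; decide
  exact Nat.mod_eq_zero_of_dvd ((ZMod.natCast_eq_zero_iff _ _).1 (this.trans h))

variable {C : Submodule (ZMod 2) (ι → ZMod 2)}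

theorem cosets (hι : Fintype.card ι = 24) (hC : Nat.card C = 4096) (hmin : ∀ w ∈ C, w ≠ 0 → 8 ≤ hammingNorm w)
    (w : ι → ZMod 2) : (∃ u, {u | u - w ∈ C ∧ hammingNorm u ≤ 4} = {u} ∧ hammingNorm u ≤ 3) ∨
      ({u | u - w ∈ C ∧ hammingNorm u ≤ 4}.ncard = 6 ∧ ∀ u ∈ {u | u - w ∈ C ∧ hammingNorm u ≤ 4}, hammingNorm u = 4 ∧
        ∀ u' ∈ {u | u - w ∈ C ∧ hammingNorm u ≤ 4}, u ≠ u' → Disjoint (support₂ u) (support₂ u')) := by
  classical
  let c : ℕ → ℕ := fun k => if k ≤ 3 then 6 else if k = 4 then 1 else 0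
  have h1 : ∀ {w u u' : ι → ZMod 2}, u - w ∈ C → u' - w ∈ C → u ≠ u' →
      8 + 2 * (support₂ u ∩ support₂ u').card ≤ hammingNorm u + hammingNorm u' := fun {w u u'} h h' hn => by
    have := hmin (u - u') (by simpa using C.sub_mem h h') (sub_ne_zero.2 hn)
    rw [norm_eq, supp_sub] at this
    have h2 := card_symmDiff_eq (support₂ u) (support₂ u')
    rw [norm_eq, norm_eq]; omega
  have h2 : ∀ w : ι → ZMod 2, ((∃ u, {u | u - w ∈ C ∧ hammingNorm u ≤ 4} = {u} ∧ hammingNorm u ≤ 3) ∧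
      ∑ u with u - w ∈ C, c (hammingNorm u) = 6) ∨ ((∀ u ∈ {u | u - w ∈ C ∧ hammingNorm u ≤ 4}, hammingNorm u = 4 ∧
        ∀ u' ∈ {u | u - w ∈ C ∧ hammingNorm u ≤ 4}, u ≠ u' → Disjoint (support₂ u) (support₂ u')) ∧
      ∑ u with u - w ∈ C, c (hammingNorm u) = {u | u - w ∈ C ∧ hammingNorm u ≤ 4}.ncard ∧
        {u | u - w ∈ C ∧ hammingNorm u ≤ 4}.ncard ≤ 6) := fun w => by
    by_cases h : ∃ u, u - w ∈ C ∧ hammingNorm u ≤ 3
    · obtain ⟨u, h3, h4⟩ := h
      have h5 : ∀ u', u' - w ∈ C → u' ≠ u → 4 < hammingNorm u' := fun u' h h' => by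
        have := h1 h h3 h'; omega
      refine Or.inl ⟨⟨u, Set.eq_singleton_iff_unique_mem.2 ⟨⟨h3, by omega⟩, fun u' h => by
        by_contra h'; exact absurd (h5 u' h.1 h') (not_lt.2 h.2)⟩, h4⟩, ?_⟩
      rw [sum_eq_single_of_mem u (by simpa using h3) fun u' h h' => by
        have := h5 u' (by simpa using h) h'
        simp only [c]; rw [if_neg (by omega), if_neg (by omega)]]
      exact if_pos h4
    · have h3 : ∀ u, u - w ∈ C → 3 < hammingNorm u := fun u hu => not_le.1 fun h' => h ⟨u, hu, h'⟩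
      have h4 : ∀ u ∈ {u | u - w ∈ C ∧ hammingNorm u ≤ 4}, hammingNorm u = 4 ∧
          ∀ u' ∈ {u | u - w ∈ C ∧ hammingNorm u ≤ 4}, u ≠ u' → Disjoint (support₂ u) (support₂ u') :=
        fun u hu => ⟨le_antisymm hu.2 (h3 u hu.1), fun u' hu' hn => by
          have := h1 hu.1 hu'.1 hn
          have h5 := hu.2
          have h6 := hu'.2
          rw [disjoint_iff_inter_eq_empty, ← card_eq_zero]; omega⟩
      have h5 : {u | u - w ∈ C ∧ hammingNorm u ≤ 4}.ncard = #{u | u - w ∈ C ∧ hammingNorm u ≤ 4} := by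
        rw [← Set.ncard_coe_finset]; simp
      refine Or.inr ⟨h4, ?_, ?_⟩
      · rw [h5, ← filter_filter, card_filter]
        refine sum_congr rfl fun u hu => ?_
        have := h3 u (by simpa using hu)
        simp only [c]; split_ifs <;> omega
      · have := card_le_univ (({u | u - w ∈ C ∧ hammingNorm u ≤ 4} : Finset _).biUnion support₂)
        rw [card_biUnion fun u hu u' hu' hn => (h4 u (by simpa using hu)).2 u' (by simpa using hu') hn,
          sum_const_nat (m := 4) (f := fun u => (support₂ u).card) fun u hu => (h4 u (by exact (mem_filter.1 hu).2)).1,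
          hι] at this
        omega
  have h3 : ∑ w : ι → ZMod 2, ∑ u with u - w ∈ C, c (hammingNorm u) = ∑ _w : ι → ZMod 2, 6 := by
    rw [sum_comm' (t' := univ) (s' := fun u => univ.filter fun w => u - w ∈ C) (by simp)]
    have : ∀ u : ι → ZMod 2, #{w | u - w ∈ C} = 4096 := fun u => by
      rw [← hC, ← Fintype.card_subtype, ← Nat.card_eq_fintype_card]
      exact Nat.card_congr ((Equiv.subLeft u).subtypeEquiv fun _ => Iff.rfl)
    simp only [sum_const, this, card_univ, Fintype.card_fun, ZMod.card, hι, smul_eq_mul, ← mul_sum]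
    rw [← sum_fiberwise_of_maps_to (t := range 25) (g := hammingNorm) fun u _ =>
      mem_range.2 (Nat.lt_succ_of_le (hι ▸ hammingNorm_le_card_fintype)),
      sum_congr rfl fun k _ => (sum_const_nat (m := c k) fun u hu => by rw [(mem_filter.1 hu).2]).trans
        (by rw [card_norm, hι])]
    decide +kernel
  have h4 := (sum_eq_sum_iff_of_le fun w _ => (h2 w).elim (fun h => h.2.le) fun h => h.2.1.trans_le h.2.2).1 h3 w
    (mem_univ w)
  exact (h2 w).imp And.left fun h => ⟨h.2.1.symm.trans h4, h.1⟩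

theorem coset_ne (hι : Fintype.card ι = 24) (hC : Nat.card C = 4096) (hmin : ∀ w ∈ C, w ≠ 0 → 8 ≤ hammingNorm w)
    (w : ι → ZMod 2) : ∃ u, u - w ∈ C ∧ hammingNorm u ≤ 4 := by
  rcases cosets hι hC hmin w with ⟨u, h, -⟩ | h
  · exact ⟨u, (h.ge rfl :)⟩
  · exact Set.nonempty_of_ncard_ne_zero (s := {u | u - w ∈ C ∧ hammingNorm u ≤ 4}) (by rw [h.1]; decide)

theorem code_stein (hι : Fintype.card ι = 24) (hC : Nat.card C = 4096) (hmin : ∀ w ∈ C, w ≠ 0 → 8 ≤ hammingNorm w)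
    (hev : ∀ w ∈ C, hammingNorm w % 2 = 0) : IsSteinerSystem 5 8 (wordsOfWeight (C : Set (ι → ZMod 2)) 8) := by
  refine stein_of (fun b hb => hb.2) (fun s hs => ?_) ?_
  · obtain ⟨w, rfl⟩ := exists_supp s
    obtain ⟨u, h1, h2⟩ := coset_ne hι hC hmin w
    have h3 := hmin _ h1 (sub_ne_zero.2 fun h => by rw [h, norm_eq] at h2; omega)
    have h4 := hev _ h1
    have h5 := card_symmDiff_eq (support₂ u) (support₂ w)
    rw [norm_eq] at h2
    rw [norm_eq, supp_sub] at h3 h4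
    refine ⟨_, ⟨⟨_, h1, rfl⟩, by rw [supp_sub]; omega⟩, fun x hx => ?_⟩
    have h6 : support₂ u ∩ support₂ w = ∅ := card_eq_zero.1 (by omega)
    rw [supp_sub, mem_symmDiff]
    exact Or.inr ⟨hx, fun h => notMem_empty x (h6 ▸ mem_inter.2 ⟨h, hx⟩)⟩
  · rintro _ ⟨⟨u, hu, rfl⟩, h1⟩ _ ⟨⟨w, hw, rfl⟩, h2⟩ h3
    by_contra hn
    have h4 := hmin _ (C.sub_mem hu hw) (sub_ne_zero.2 fun h => hn (h ▸ rfl))
    have h5 := card_symmDiff_eq (support₂ u) (support₂ w)
    rw [norm_eq, supp_sub] at h4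
    omega

theorem supp_comp (e : GolayPt ≃ ι) (w : GolayPt → ZMod 2) : support₂ (fun i => w (e.symm i)) = (support₂ w).image e := by
  ext i; obtain ⟨p, rfl⟩ := e.surjective i; simp [mem_supp]

theorem code_ind (N : Submodule (ZMod 2) (GolayPt → ZMod 2)) (h : ∀ w, support₂ w ∈ octads → w ∈ N) :
    golayCode ≤ N := fun w hw => by
  obtain ⟨n, hn, rfl⟩ := mem_code_iff.1 hw
  rw [(cw_spec hn).1]
  refine xlin_induction (fun m => decW m ∈ N) (decW_zero ▸ N.zero_mem) (fun a b ha hb => decW_xor a b ▸ N.add_mem ha hb)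
    _ _ _ fun j hj => ?_
  exact h _ (support_decW _ ▸ dec_mem_octads (allLt_iff.1 (by decide +kernel :
    allLt 12 (fun j => isCw (bas j) && Nat.beq (pc (bas j)) 8) = true) j hj))

theorem card_golay : Nat.card golayCode = 4096 := by
  rw [← ncard_CC_all]; exact (Set.ncard_image_of_injective _ support₂_inj).symm

theorem golay_min : ∀ w ∈ golayCode, w ≠ 0 → 8 ≤ hammingNorm w := fun w hw h => by
  have := CC_card (mem_code_iff_support.1 hw)
  have h2 := hammingNorm_pos_iff.2 h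
  rw [norm_eq] at h2 ⊢; omega

theorem code_iso (hι : Fintype.card ι = 24) (hC : Nat.card C = 4096) (hmin : ∀ w ∈ C, w ≠ 0 → 8 ≤ hammingNorm w)
    (hev : ∀ w ∈ C, hammingNorm w % 2 = 0) : ∃ e : GolayPt ≃ ι, ∀ w, w ∈ golayCode ↔ (fun i => w (e.symm i)) ∈ C := by
  obtain ⟨e, he⟩ := oct_iso hι (code_stein hι hC hmin hev)
  let Φ := LinearEquiv.funCongrLeft (ZMod 2) (ZMod 2) e.symm
  have h1 : golayCode ≤ C.comap Φ.toLinearMap := code_ind _ fun w hw => by
    obtain ⟨⟨u, hu, h⟩, -⟩ := he.le (Set.mem_image_of_mem _ hw)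
    rw [← supp_comp] at h
    exact (support₂_inj h ▸ hu : (fun i => w (e.symm i)) ∈ C)
  have h2 : Nat.card (C.comap Φ.toLinearMap) = 4096 :=
    (Nat.card_congr (Φ.toEquiv.subtypeEquiv fun _ => Iff.rfl)).trans hC
  have h3 := Set.eq_of_subset_of_ncard_le (s := (golayCode : Set (GolayPt → ZMod 2)))
    (t := (C.comap Φ.toLinearMap : Set (GolayPt → ZMod 2))) h1 (h2.trans card_golay.symm).le
  exact ⟨e, fun w => Set.ext_iff.1 h3 w⟩

theorem card_of_rank (h : Module.finrank (ZMod 2) C = 12) : Nat.card C = 4096 := by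
  rw [Module.natCard_eq_pow_finrank (K := ZMod 2), h, Nat.card_zmod]; rfl

end H0.St
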