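import Cfsg.Agent.H0.JV
import Cfsg.Agent.H6.More
import Cfsg.Agent.H1.Gaschutz

/-! Extensions of `M23` by the code module: tails of a power-commutator presentation as linear forms. -/

namespace H0.H2M
open BN Subgroup Cfsg H6
variable {E : Type*} [Group E]

abbrev Wd := GolayPt → ZMod 2
noncomputable def forceL {β : Type} (l : List ℕ) : (List ℕ → β) → β :=
  List.rec (motive := fun _ => (List ℕ → β) → β) (fun c => c []) (fun a _ ih c => force a fun a' => ih fun l' => c (a' :: l')) l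
theorem forceL_eq {β : Type} : ∀ (l : List ℕ) (c : List ℕ → β), forceL l c = c l
  | [], _ => rfl
  | a :: l, c => (force_eq a fun a' => forceL l fun l' => c (a' :: l')).trans (forceL_eq l _)
def gd (F : List ℕ) (j : ℕ) : ℕ := F.getD j 0
noncomputable def st (f : ℕ → ℕ) (k : ℕ) : List ℕ × ℕ := forceL ((List.range 24).map f) fun F => force k fun k' => (F, k')
theorem st_eq (f k) : st f k = ((List.range 24).map f, k) := by rw [st, forceL_eq, force_eq]

structure Dat where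
  ts : List ℕ
  FT : ℕ → ℕ → ℕ
  L : ℕ → List ℕ
  R : ℕ → List ℕ
namespace Dat
variable (D : Dat)
def t (x : ℕ) : ℕ := D.ts.getD x idT
noncomputable def step (mu : ℕ → ℕ → List ℕ × ℕ) (x : ℕ) (s : List ℕ × ℕ) : List ℕ × ℕ :=
  Prod.rec (fun F k => Bool.rec (st (fun j => Nat.xor (D.FT x j) (gd F j)) k)
    (Prod.rec (fun C k' => force (D.t x) fun t => st (fun j => Nat.xor (gd F (ap t j)) (gd C j)) k') (mu x k)) (Nat.blt x 11)) s
noncomputable def evw (mu : ℕ → ℕ → List ℕ × ℕ) (s : List ℕ × ℕ) (w : List ℕ) : List ℕ × ℕ :=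
  List.rec (motive := fun _ => List ℕ × ℕ) s (fun x _ ih => D.step mu x ih) w
def Rw (x y : ℕ) : List ℕ := if x = y then D.R (11 + 7 * x + y) else (D.R (11 + 7 * x + y)).tail
noncomputable def mu (l : List ℕ) : ℕ → ℕ → List ℕ × ℕ :=
  List.rec (motive := fun _ => ℕ → ℕ → List ℕ × ℕ) (fun _ _ => ([], 0)) (fun y _ ih x k => force (k / 2) fun k1 =>
    if k % 2 = 0 then (if x = y then ([], k + 1) else Prod.rec (fun F k2 => force (2 * k2) fun k3 => (F, k3)) (ih x k1))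
    else Prod.rec (fun F k2 => force (11 + 7 * x + y) fun i => if x = y then st (fun j => Nat.xor (D.FT i j) (gd F j)) (2 * k2) else
      force (D.t y) fun t => st (fun j => Nat.xor (D.FT i j) (gd F (ap t j))) (2 * k2 + 1)) (D.evw ih ([], k1) (D.Rw x y))) l
def okH : List ℕ → Bool
  | [] => true
  | y :: l => (y :: l).all (fun x => Nat.blt (11 + 7 * x + y) 70 && D.L (11 + 7 * x + y) == [x, y] &&
      D.R (11 + 7 * x + y) == (if x = y then [] else [y]) ++ D.Rw x y && (D.Rw x y).all l.contains) && okH l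
def l7 : List ℕ := [0, 1, 2, 3, 4, 5, 6]
noncomputable def ev7 (w : List ℕ) : List ℕ × ℕ := D.evw (D.mu l7) ([], 0) w
def okW (w : List ℕ) : Bool := w.all fun z => l7.contains z || Nat.ble 11 z && Nat.blt z 77
/-- two words with the same normal form, and the difference of their forms -/
noncomputable def dif (u v : List ℕ) (c : List ℕ → Bool) : Bool :=
  okW u && okW v && Prod.rec (fun F k => Prod.rec (fun G k' => Nat.beq k k' &&
    forceL ((List.range 24).map fun j => Nat.xor (gd F j) (gd G j)) c) (D.ev7 v)) (D.ev7 u)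
noncomputable def evI (w : List ℕ) : ℕ := List.rec (motive := fun _ => ℕ) idT (fun x _ ih => force ih fun y => mulT y (D.t x)) w
end Dat

def lam (x : ℕ → ZMod 2) (m : ℕ) : ZMod 2 := ∑ b ∈ Finset.range 840, if m.testBit b then x b else 0
theorem lam_xor (x) (a b : ℕ) : lam x (Nat.xor a b) = lam x a + lam x b := by
  rw [lam, lam, lam, ← Finset.sum_add_distrib]
  refine Finset.sum_congr rfl fun i _ => ?_
  rw [Nat.xor_eq, Nat.testBit_xor]
  cases a.testBit i <;> cases b.testBit i <;> simp [CharTwo.add_self_eq_zero]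
theorem lam_zero (x) : lam x 0 = 0 := by simp [lam]
theorem lam_pow (x) {b : ℕ} (h : b < 840) : lam x (2 ^ b) = x b := by simp [lam, Nat.testBit_two_pow, h]
theorem lam_lin (x) : ∀ (Z : List ℕ), (∀ z ∈ Z, lam x z = 0) → ∀ m, lam x (lin Z m) = 0
  | [], _, _ => lam_zero x
  | z :: Z, h, m => by
    rw [lin_cons, ← Nat.xor_eq, lam_xor, lam_lin x Z (fun y hy => h y (List.mem_cons_of_mem _ hy)), add_zero]
    rcases Nat.mod_two_eq_zero_or_one m with e | e <;> simp [e, lam_zero, h z]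
def corF : List (ℕ × ℕ) → ℕ → ℕ
  | [], _ => 0
  | e :: l, j => Nat.xor (if e.1.testBit j then e.2 else 0) (corF l j)
theorem lam_cor (x) {j : ℕ} (hj : j < 24) : ∀ l : List (ℕ × ℕ), (l.map fun e => lam x e.2 • decW e.1).sum (pt j) = lam x (corF l j)
  | [] => (lam_zero x).symm
  | e :: l => by
    rw [List.map_cons, List.sum_cons, Pi.add_apply, lam_cor x hj l, corF, lam_xor, Pi.smul_apply, decW, idx_pt hj]
    split_ifs <;> simp [lam_zero]

structure Ctx (E : Type*) [Group E] (D : Dat) where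
  N : Subgroup E
  nrm : N.Normal
  π : E →* Equiv.Perm GolayPt
  ψ : Additive N →+ Wd
  inj : Function.Injective ψ
  hψ : ∀ (g : E) (n : N), ψ (Additive.ofMul ⟨g * n * g⁻¹, nrm.conj_mem n n.2 g⟩) = ψ (Additive.ofMul n) ∘ ⇑(π g)⁻¹
  x : ℕ → ZMod 2
  g : ℕ → E
  hg : ∀ y < 11, IsP (D.t y) ∧ (π (g y))⁻¹ = P (D.t y)
  hr : ∀ i, 11 ≤ i → i < 70 → ev g (D.L i) = g i * ev g (D.R i)
  hF : ∀ i, 11 ≤ i → i < 77 → ∃ h : g i ∈ N, ∀ j < 24, ψ (Additive.ofMul ⟨g i, h⟩) (pt j) = lam x (D.FT i j)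

namespace Ctx
variable {D : Dat} (C : Ctx E D)
def Sem (n : E) (f : ℕ → ℕ) : Prop := ∃ h : n ∈ C.N, ∀ j < 24, C.ψ (Additive.ofMul ⟨n, h⟩) (pt j) = lam C.x (f j)
variable {C}
theorem Sem.one : C.Sem 1 (gd []) := ⟨one_mem _, fun j _ => (congrFun (map_zero C.ψ) _).trans (lam_zero _).symm⟩
theorem Sem.mul {a b f f'} (h : C.Sem a f) (h' : C.Sem b f') : C.Sem (a * b) fun j => Nat.xor (f j) (f' j) :=
  ⟨mul_mem h.1 h'.1, fun j hj => by rw [lam_xor, ← h.2 j hj, ← h'.2 j hj, ← Pi.add_apply, ← map_add]; rfl⟩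
theorem Sem.conj {a f y} (h : C.Sem a f) (hy : y < 11) : C.Sem (C.g y * a * (C.g y)⁻¹) fun j => f (ap (D.t y) j) :=
  ⟨C.nrm.conj_mem _ h.1 _, fun j hj => by
    rw [C.hψ _ ⟨a, h.1⟩, (C.hg y hy).2, Function.comp_apply, P_pt (C.hg y hy).1 hj, h.2 _ ((C.hg y hy).1.1 j hj)]⟩
theorem Sem.ls {a f} (h : C.Sem a f) : C.Sem a (gd ((List.range 24).map f)) := ⟨h.1, fun j hj => by rw [h.2 j hj]; simp [gd, hj]⟩
theorem Sem.eq {a f} (h : C.Sem a f) : a = 1 ↔ ∀ j < 24, lam C.x (f j) = 0 :=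
  ⟨fun e j hj => by subst e; rw [← h.2 j hj]; exact congrFun (map_zero C.ψ) _, fun e => congrArg Subtype.val (show (⟨a, h.1⟩ : C.N) = 1 from
    C.inj (a₁ := Additive.ofMul _) (a₂ := 0) (funext (forall_pt fun j hj => by rw [h.2 j hj, e j hj, map_zero]; rfl)))⟩
theorem Sem.sq {a f} (h : C.Sem a f) : a * a = 1 := (h.mul h).eq.2 fun j _ => by rw [lam_xor, CharTwo.add_self_eq_zero]
variable (C) in
def St (l : List ℕ) (e : E) (s : List ℕ × ℕ) : Prop := ∃ n, C.Sem n (gd s.1) ∧ e = n * ev C.g (wd 2 l s.2)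

theorem evw_ok {l mu} (h : ∀ x ∈ l, ∀ k, C.St l (C.g x * ev C.g (wd 2 l k)) (mu x k)) {e s} (hs : C.St l e s) :
    ∀ w : List ℕ, (∀ z ∈ w, z ∈ l ∧ z < 11 ∨ 11 ≤ z ∧ z < 77) → C.St l (ev C.g w * e) (D.evw mu s w)
  | [], _ => (one_mul e).symm ▸ hs
  | x :: w, hw => by
    obtain ⟨n, h1, h2⟩ := evw_ok h hs w fun z hz => hw z (List.mem_cons_of_mem _ hz)
    show C.St l _ (D.step mu x (D.evw mu s w))
    rw [ev_cons, mul_assoc, h2]
    generalize D.evw mu s w = s' at *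
    obtain ⟨F, k⟩ := s'
    rcases hw x List.mem_cons_self with q | q
    · obtain ⟨c, h3, h4⟩ := h x q.1 k
      rw [Dat.step, show Nat.blt x 11 = true by simpa using q.2]
      dsimp only
      generalize mu x k = s2 at *
      obtain ⟨F2, k2⟩ := s2
      dsimp only
      rw [force_eq, st_eq]
      exact ⟨_, ((h1.conj q.2).mul h3).ls, by rw [mul_assoc, ← h4]; group⟩
    · rw [Dat.step, show Nat.blt x 11 = false from Bool.eq_false_iff.2 (by simpa using q.1)]
      dsimp only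
      rw [st_eq]
      exact ⟨_, (Sem.mul (C.hF x q.1 q.2) h1).ls, (mul_assoc ..).symm⟩

theorem mu_ok : ∀ {l : List ℕ}, (∀ z ∈ l, z < 11) → D.okH l = true → ∀ x ∈ l, ∀ k, C.St l (C.g x * ev C.g (wd 2 l k)) (D.mu l x k)
  | [], _, _ => by simp
  | y :: l, hl, h => fun x hx k => by
    simp only [Dat.okH, Bool.and_eq_true, List.all_eq_true, beq_iff_eq, Nat.blt_eq, List.contains_iff_mem] at h
    have ih := mu_ok (fun z hz => hl z (List.mem_cons_of_mem _ hz)) h.2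
    obtain ⟨⟨⟨a1, a2⟩, a3⟩, a4⟩ := h.1 x hx
    have r := C.hr _ (by omega) a1
    have f := C.hF _ (by omega) (a1.trans (by decide))
    obtain ⟨n, h1, h2⟩ := evw_ok ih (e := ev C.g (wd 2 l (k / 2))) (s := ([], k / 2)) ⟨1, Sem.one, (one_mul _).symm⟩ (D.Rw x y)
      fun z hz => .inl ⟨a4 z hz, hl z (List.mem_cons_of_mem _ (a4 z hz))⟩
    rw [a2, a3, ev_append, ev_cons, ev_cons, ev_nil, mul_one] at r
    have e : D.mu (y :: l) x k = force (k / 2) fun k1 => if k % 2 = 0 then (if x = y then ([], k + 1) else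
      Prod.rec (fun F k2 => force (2 * k2) fun k3 => (F, k3)) (D.mu l x k1)) else Prod.rec (fun F k2 => force (11 + 7 * x + y) fun i =>
        if x = y then st (fun j => Nat.xor (D.FT i j) (gd F j)) (2 * k2) else
      force (D.t y) fun t => st (fun j => Nat.xor (D.FT i j) (gd F (ap t j))) (2 * k2 + 1)) (D.evw (D.mu l) ([], k1) (D.Rw x y)) := rfl
    rw [e, force_eq, wd_cons, ev_append, ev_rep]
    generalize D.evw (D.mu l) ([], k / 2) (D.Rw x y) = s' at *
    obtain ⟨F, k2⟩ := s'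
    simp only [force_eq, st_eq]
    split_ifs with q1 q2 q2
    · exact ⟨1, Sem.one, by simp [wd_cons, ev_rep, q1, q2, show (k + 1) % 2 = 1 by omega, show (k + 1) / 2 = k / 2 by omega]⟩
    · obtain ⟨c, h3, h4⟩ := ih x ((List.mem_cons.1 hx).resolve_left q2) (k / 2)
      exact ⟨c, h3, by simp [wd_cons, q1, h4]⟩
    · refine ⟨_, (Sem.mul f h1).ls, ?_⟩
      rw [show k % 2 = 1 by omega, pow_one, ← mul_assoc, r, if_pos q2, ev_nil, one_mul, mul_assoc, h2]
      simp [wd_cons, mul_assoc]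
    · refine ⟨_, (Sem.mul f (h1.conj (hl y List.mem_cons_self))).ls, ?_⟩
      rw [show k % 2 = 1 by omega, pow_one, ← mul_assoc, r, if_neg q2, mul_assoc, mul_assoc, h2]
      simp [wd_cons, mul_assoc, show (2 * k2 + 1) / 2 = k2 by omega]

theorem dif_ok (h : D.okH Dat.l7 = true) {u v c} (e : D.dif u v c = true) : ∃ F, c F = true ∧ C.Sem (ev C.g u * (ev C.g v)⁻¹) (gd F) := by
  have k : ∀ w, Dat.okW w = true → C.St Dat.l7 (ev C.g w) (D.ev7 w) := fun w hw => by
    rw [← mul_one (ev C.g w)]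
    refine evw_ok (mu_ok (by decide) h) (s := ([], 0)) ⟨1, Sem.one, by simp [wd_zero]⟩ w fun z hz => ?_
    have := List.all_eq_true.1 hw z hz
    simp only [Bool.or_eq_true, Bool.and_eq_true, Nat.blt_eq, Nat.ble_eq, List.contains_iff_mem] at this
    exact this.imp_left fun q => ⟨q, (by decide : ∀ z ∈ Dat.l7, z < 11) z q⟩
  simp only [Dat.dif, Bool.and_eq_true] at e
  obtain ⟨a, h1, h2⟩ := k u e.1.1
  obtain ⟨b, h3, h4⟩ := k v e.1.2
  generalize D.ev7 u = s at *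
  generalize D.ev7 v = s' at *
  obtain ⟨F, i⟩ := s
  obtain ⟨G, j⟩ := s'
  simp only [forceL_eq, Bool.and_eq_true, Nat.beq_eq] at e
  obtain rfl := e.2.1
  exact ⟨_, e.2.2, by rw [h2, h4, _root_.mul_inv_rev, mul_assoc, mul_inv_cancel_left, inv_eq_of_mul_eq_one_left h3.sq]; exact (h1.mul h3).ls⟩

theorem zl {f : ℕ → ℕ} {Z : List ℕ} (e : ((List.range 24).map f == Z) = true) (h : ∀ j < 24, lam C.x (f j) = 0) : ∀ z ∈ Z, lam C.x z = 0 := by
  rw [← eq_of_beq e]; simpa using h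

end Ctx
namespace Dat
variable (D : Dat)
noncomputable def tA (T : ℕ × ℕ × List ℕ) : Bool :=
  Nat.ble 11 T.1 && Nat.blt T.1 70 && D.dif (D.L T.1 ++ [T.2.1]) (T.1 :: (D.R T.1 ++ [T.2.1])) fun F => (List.range 24).map (gd F) == T.2.2
def su (w : List ℕ) : List ℕ := w.flatMap fun i => (D.L i).tail
def sv (w : List ℕ) : List ℕ := w.flatMap fun i => i :: (D.R i).dropLast
noncomputable def tB (T : ℕ × List ℕ × List ℕ × List ℕ) : Bool :=
  Nat.blt T.1 11 && (T.2.1 ++ T.2.2.1).all (fun i => Nat.ble 11 i && Nat.blt i 70 && D.L i == T.1 :: (D.L i).tail && D.R i == (D.R i).dropLast ++ [T.1]) &&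
    D.dif (D.su T.2.1) (D.su T.2.2.1) fun F => D.dif (D.sv T.2.1) (D.sv T.2.2.1) fun G =>
      (List.range 24).map (fun j => Nat.xor (gd F (ap (D.t T.1) j)) (gd G j)) == T.2.2.2
def ex (w : List ℕ) : List ℕ := w.flatMap fun x => [70 + x, x]
noncomputable def tC (Z : List ℕ) (T : (List ℕ × List ℕ) × List ℕ) : Bool :=
  D.dif (ex T.1.1) (ex T.1.2) fun F => allN (fun j => Nat.beq (gd F j) (lin Z (gd T.2 j))) 24
end Dat
namespace Ctx
variable {D : Dat} {C : Ctx E D} (h : D.okH Dat.l7 = true)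
include h
theorem tA_ok {T} (e : D.tA T = true) : ∀ z ∈ T.2.2, lam C.x z = 0 := by
  simp only [Dat.tA, Bool.and_eq_true, Nat.blt_eq, Nat.ble_eq] at e
  obtain ⟨F, h1, h2⟩ := dif_ok (C := C) h e.2
  exact zl h1 (h2.eq.1 (by rw [ev_cons, ev_append, ev_append, C.hr _ e.1.1 e.1.2, mul_assoc (C.g T.1), mul_inv_cancel]))
theorem tB_ok {T} (e : D.tB T = true) : ∀ z ∈ T.2.2.2, lam C.x z = 0 := by
  simp only [Dat.tB, Bool.and_eq_true, Nat.blt_eq, Nat.ble_eq, List.all_eq_true, beq_iff_eq, List.forall_mem_append] at e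
  obtain ⟨F, h1, h2⟩ := dif_ok (C := C) h e.2
  obtain ⟨G, h3, h4⟩ := dif_ok (C := C) h h1
  have k : ∀ w : List ℕ, (∀ i ∈ w, ((11 ≤ i ∧ i < 70) ∧ D.L i = T.1 :: (D.L i).tail) ∧ D.R i = (D.R i).dropLast ++ [T.1]) →
      ev C.g (D.sv w) = C.g T.1 * ev C.g (D.su w) * (C.g T.1)⁻¹ := fun w hw => by
    induction w with
    | nil => simp [Dat.su, Dat.sv]
    | cons i w ih =>
      obtain ⟨⟨a1, a2⟩, a3⟩ := hw i List.mem_cons_self
      have := C.hr i a1.1 a1.2
      rw [a2, a3, ev_cons, ev_append, ev_cons, ev_nil, mul_one, ← mul_assoc] at this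
      rw [Dat.su, Dat.sv, List.flatMap_cons, List.flatMap_cons, ev_append, ev_append, ev_cons, ← Dat.su, ← Dat.sv,
        ih fun j hj => hw j (List.mem_cons_of_mem _ hj), ← mul_assoc, ← mul_assoc, ← this, mul_assoc (C.g T.1)]
  refine zl h3 (((h2.conj e.1.1).mul h4).eq.1 ?_)
  rw [← h4.sq, k _ e.1.2.1, k _ e.1.2.2]
  group
theorem tC_ok {Z T} (hZ : ∀ z ∈ Z, lam C.x z = 0) (e : D.tC Z T = true) :
    ev (fun x => C.g (70 + x) * C.g x) T.1.1 = ev (fun x => C.g (70 + x) * C.g x) T.1.2 := by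
  obtain ⟨F, h1, h2⟩ := dif_ok (C := C) h e
  have k : ∀ w, ev (fun x => C.g (70 + x) * C.g x) w = ev C.g (Dat.ex w) := fun w => by
    induction w with
    | nil => rfl
    | cons x w ih => rw [ev_cons, ih, Dat.ex, Dat.ex, List.flatMap_cons, ev_append]; simp
  rw [k, k, ← mul_inv_eq_one, h2.eq]
  exact fun j hj => Nat.eq_of_beq_eq_true (allN_spec h1 j hj) ▸ lam_lin _ Z hZ _
end Ctx

theorem cw_sum {n : ℕ} : ∀ k, decW (xlin bas n k) = ((List.range k).map fun j => (if n.testBit j then 1 else 0 : ZMod 2) • decW (bas j)).sum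
  | 0 => decW_zero
  | k + 1 => by
    rw [xlin_succ, decW_xor, cw_sum k, List.range_succ, List.map_append, List.sum_append]
    split_ifs with q <;> simp [q, decW_zero]

theorem evI_ok {D : Dat} {π : E →* Equiv.Perm GolayPt} {s : ℕ → E} {k : ℕ} (hs : ∀ y < k, IsP (D.t y) ∧ (π (s y))⁻¹ = P (D.t y)) :
    ∀ w : List ℕ, (∀ z ∈ w, z < k) → IsP (D.evI w) ∧ (π (ev s w))⁻¹ = P (D.evI w)
  | [], _ => ⟨P_idT.1, by rw [ev_nil, map_one, inv_one]; exact P_idT.2⟩
  | x :: w, hw => by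
    have e : D.evI (x :: w) = mulT (D.evI w) (D.t x) := force_eq (D.evI w) fun y => mulT y (D.t x)
    have a := evI_ok hs w fun z hz => hw z (List.mem_cons_of_mem _ hz)
    have b := hs x (hw x List.mem_cons_self)
    rw [e, ev_cons, map_mul, _root_.mul_inv_rev, a.2, b.2]
    exact P_mulT a.1 b.1

noncomputable def Dat.fin (D : Dat) (AL : List (List (ℕ × ℕ))) : Bool :=
  allN (fun y => fxP inM 23 (D.t y)) 11 && allN (fun i => (D.L i ++ D.R i).all (Nat.blt · 11) && Nat.beq (D.evI (D.L i)) (D.evI (D.R i))) 70 &&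
  allN (fun i => allN (fun j => Nat.beq (D.FT i j) (corF ((List.range 12).map fun k => (bas k, 2 ^ (12 * i + k))) j)) 24) 70 &&
  allN (fun i => (AL.getD i []).all (fun e => isCw e.1 && !e.1.testBit 23) && allN (fun j => Nat.beq (D.FT (70 + i) j) (corF (AL.getD i []) j)) 24) 7

theorem ctx (D : Dat) {AL} (h : D.fin AL = true) (N : Subgroup E) [hN : N.Normal] (φ : E ⧸ N ≃* ↥Spor.M23) (ψ : Additive ↥N →+ Wd)
    (hinj : Function.Injective ψ) (hr : ∀ w : Wd, w ∈ Set.range ψ ↔ (w ∈ golayCode ∧ w none = 0))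
    (hψ : ∀ (g : E) (n : ↥N), ψ (Additive.ofMul ⟨g * n * g⁻¹, hN.conj_mem n n.2 g⟩)
        = ψ (Additive.ofMul n) ∘ ⇑(((φ (QuotientGroup.mk g) : ↥Spor.M23) : Equiv.Perm GolayPt)⁻¹)) :
    ∃ C : Ctx E D, C.N = N ∧ (∀ e, C.π e = φ (e : E ⧸ N)) ∧ ∀ i, 11 ≤ i → i < 70 → lam C.x (D.FT i 23) = 0 := by
  classical
  simp only [Dat.fin, Bool.and_eq_true] at h
  obtain ⟨⟨⟨h1, h2⟩, h3⟩, h4⟩ := h
  let π : E →* Equiv.Perm GolayPt := Spor.M23.subtype.comp (φ.toMonoidHom.comp (QuotientGroup.mk' N))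
  have : ∀ y, ∃ e : E, y < 11 → IsP (D.t y) ∧ (π e)⁻¹ = P (D.t y) := fun y => by
    by_cases hy : y < 11
    · have k := ckP 23 _ (allN_spec h1 y hy)
      obtain ⟨e, he⟩ := QuotientGroup.mk_surjective (φ.symm (⟨P (D.t y), k.1.2, by have := k.2; rwa [← k.1.coe]⟩ : Spor.M23)⁻¹)
      exact ⟨e, fun _ => ⟨k.1.1, by simp [π, he]⟩⟩
    · exact ⟨1, fun h => (hy h).elim⟩
  choose s hs using this
  have he := evI_ok hs
  have lt : ∀ i < 70, (∀ z ∈ D.L i, z < 11) ∧ (∀ z ∈ D.R i, z < 11) ∧ D.evI (D.L i) = D.evI (D.R i) := fun i hi => by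
    simpa [and_assoc] using allN_spec h2 i hi
  have : ∀ i, ∃ n, i < 70 → ∃ h : ev s (D.L i) * (ev s (D.R i))⁻¹ ∈ N, ψ (Additive.ofMul ⟨_, h⟩) = decW (xlin bas n 12) ∧
      ψ (Additive.ofMul ⟨_, h⟩) none = 0 := fun i => by
    by_cases hi : i < 70
    · have m : ev s (D.L i) * (ev s (D.R i))⁻¹ ∈ N := (QuotientGroup.eq_one_iff _).1 (φ.injective (Subtype.ext (show π _ = _ by
        rw [map_mul, map_inv, (he _ (lt i hi).2.1).2, ← (lt i hi).2.2, ← (he _ (lt i hi).1).2, mul_inv_cancel, map_one]; rfl)))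
      obtain ⟨a, b⟩ := (hr _).1 ⟨Additive.ofMul ⟨_, m⟩, rfl⟩
      obtain ⟨n, c, d⟩ := mem_code_iff.1 a
      exact ⟨n, fun _ => ⟨m, by rw [← d, (cw_spec c).1], b⟩⟩
    · exact ⟨0, fun h => (hi h).elim⟩
  choose nn hn using this
  let x : ℕ → ZMod 2 := fun b => if (nn (b / 12)).testBit (b % 12) then 1 else 0
  have : ∀ i, ∃ a : N, i < 7 → ψ (Additive.ofMul a) = ((AL.getD i []).map fun e => lam x e.2 • decW e.1).sum := fun i => by
    by_cases hi : i < 7
    · have k := (Bool.and_eq_true_iff.1 (allN_spec h4 i hi)).1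
      simp only [List.all_eq_true, Bool.and_eq_true, Bool.not_eq_true'] at k
      obtain ⟨a, e⟩ := (hr ((AL.getD i []).map fun e => lam x e.2 • decW e.1).sum).2 (List.sum_induction (p := fun w : Wd => w ∈ golayCode ∧ w none = 0)
        (fun a b p q => ⟨add_mem p.1 q.1, by simp [p.2, q.2]⟩) ⟨zero_mem _, rfl⟩ (List.forall_mem_map.2 fun e he => ⟨Submodule.smul_mem _ _ (by
          obtain ⟨n, c, d⟩ := isCw_iff.1 (k e he).1
          exact d ▸ cw_mem c), by simp [decW, idx, (k e he).2]⟩))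
      exact ⟨a.toMul, fun _ => e⟩
    · exact ⟨1, fun h => (hi h).elim⟩
  choose a ha using this
  let g : ℕ → E := fun i => if i < 11 then s i else if i < 70 then ev s (D.L i) * (ev s (D.R i))⁻¹ else a (i - 70)
  have gs : ∀ w : List ℕ, (∀ z ∈ w, z < 11) → ev g w = ev s w := fun w hw => TC.ev_congr fun z hz => if_pos (hw z hz)
  have gi : ∀ i, 11 ≤ i → i < 70 → g i = ev s (D.L i) * (ev s (D.R i))⁻¹ := fun i p q => by simp only [g, if_neg (not_lt.2 p), if_pos q]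
  have ft : ∀ i (hi : i < 70), ∀ j < 24, ψ (Additive.ofMul ⟨_, (hn i hi).1⟩) (pt j) = lam x (D.FT i j) := fun i hi j hj => by
    rw [(hn i hi).2.1, Nat.eq_of_beq_eq_true (allN_spec (allN_spec h3 i hi) j hj), ← lam_cor x hj, cw_sum, List.map_map]
    refine congrFun (congrArg _ (List.map_congr_left fun k hk => ?_)) _
    have := List.mem_range.1 hk
    simp only [Function.comp_apply, lam_pow x (show 12 * i + k < 840 by omega), x, show (12 * i + k) / 12 = i by omega, show (12 * i + k) % 12 = k by omega]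
  refine ⟨⟨N, hN, π, ψ, hinj, hψ, x, g, fun y hy => by simpa only [g, if_pos hy] using hs y hy, fun i p q => ?_, fun i p q => ?_⟩, rfl, fun _ => rfl,
    fun i _ q => (ft i q 23 (by decide)).symm.trans (hn i q).2.2⟩
  · rw [gs _ (lt i q).1, gs _ (lt i q).2.1, gi i p q, inv_mul_cancel_right]
  · by_cases k : i < 70
    · rw [gi i p k]; exact ⟨_, ft i k⟩
    · obtain ⟨i, rfl⟩ := Nat.exists_eq_add_of_le (not_lt.1 k)
      rw [show g (70 + i) = a i by simp only [g, if_neg k, if_neg (not_lt.2 p), Nat.add_sub_cancel_left]]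
      exact ⟨(a i).2, fun j hj => by
        rw [Nat.eq_of_beq_eq_true (allN_spec (Bool.and_eq_true_iff.1 (allN_spec h4 i (by omega))).2 j hj), ← lam_cor x hj, ← ha i (by omega)]⟩

end H0.H2M
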