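import Cfsg.Agent.H0.H2M

namespace H0.H2M
open BN Subgroup Cfsg H6
variable {E : Type*} [Group E]

theorem main [Finite E] (D : Dat) {AL} (h : D.fin AL = true) (hH : D.okH Dat.l7 = true) {TA : List (ℕ × ℕ × List ℕ)} {TB : List (ℕ × List ℕ × List ℕ × List ℕ)} {Z W MU} {Wl : List (List ℕ)} {l ls} (hA : ∀ T ∈ TA, D.tA T = true)
    (hB : ∀ T ∈ TB, D.tB T = true) (hC : ∀ T ∈ (pcE 2 Dat.l7 W).zip MU, D.tC Z T = true)
    (hZ : (Z == (List.range 59).map (fun i => D.FT (11 + i) 23) ++ TA.flatMap (·.2.2) ++ TB.flatMap (·.2.2.2) && pcOK Dat.l7 W &&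
      Nat.beq (pcE 2 Dat.l7 W).length MU.length && l == Wl.map D.evI && Wl.all (·.all Dat.l7.contains) && Nat.ble 128 (chain ls (inL l))) = true)
    (N : Subgroup E) [hN : N.Normal] (φ : E ⧸ N ≃* ↥Spor.M23) (ψ : Additive ↥N →+ Wd)
    (hinj : Function.Injective ψ) (hr : ∀ w : Wd, w ∈ Set.range ψ ↔ (w ∈ golayCode ∧ w none = 0))
    (hψ : ∀ (g : E) (n : ↥N), ψ (Additive.ofMul ⟨g * n * g⁻¹, hN.conj_mem n n.2 g⟩)
        = ψ (Additive.ofMul n) ∘ ⇑(((φ (QuotientGroup.mk g) : ↥Spor.M23) : Equiv.Perm GolayPt)⁻¹)) : ∃ H : Subgroup E, H ⊓ N = ⊥ ∧ H ⊔ N = ⊤ := by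
  obtain ⟨C, rfl, hπ, h23⟩ := ctx D h N φ ψ hinj hr hψ
  simp only [Bool.and_eq_true, beq_iff_eq, Nat.beq_eq, Nat.ble_eq] at hZ
  obtain ⟨⟨⟨⟨⟨rfl, z2⟩, z3⟩, rfl⟩, z5⟩, z6⟩ := hZ
  let g' := fun x => C.g (70 + x) * C.g x
  have hE : ∀ e ∈ pcE 2 Dat.l7 W, ev g' e.1 = ev g' e.2 := fun e he => by
    obtain ⟨i, hi, rfl⟩ := List.getElem_of_mem he
    refine Ctx.tC_ok (C := C) hH ?_ (hC (_, MU[i]'(z3 ▸ hi)) (List.mem_iff_getElem.2 ⟨i, by simp [← z3, hi], List.getElem_zip⟩))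
    simp only [List.forall_mem_append, List.forall_mem_map, List.forall_mem_flatMap, List.mem_range]
    exact ⟨⟨fun i hi => h23 _ (by omega) (by omega), fun T hT => Ctx.tA_ok hH (hA T hT)⟩, fun T hT => Ctx.tB_ok hH (hB T hT)⟩
  have c1 : Nat.card (gl g' Dat.l7) ≤ 128 := (card_le_list (pc_nf two_pos hE z2)).trans (nfW_len 2 _).le
  let f : E →* Spor.M23 := φ.toMonoidHom.comp (QuotientGroup.mk' _)
  have fk : f.ker = C.N := by ext; simp [f]
  have fs : Function.Surjective f := φ.surjective.comp QuotientGroup.mk_surjective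
  have pf : C.π = Spor.M23.subtype.comp f := MonoidHom.ext hπ
  have c2 : 128 ≤ Nat.card ((gl g' Dat.l7).map f) := by
    have le : (gl g' Dat.l7).map C.π ≤ M24 := by rintro _ ⟨e, -, rfl⟩; rw [hπ]; exact (φ _).2.1
    rw [← card_subtype, map_map, ← pf, ← Nat.card_congr (subgroupOfEquivOfLe le).toEquiv]
    refine z6.trans ((ck_inL (List.forall_mem_map.2 fun w hw => ?_)).chain_le ls)
    have k := evI_ok (D := D) (π := C.π) (s := g') (k := 7) (fun y hy => by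
      rw [map_mul, hπ, (QuotientGroup.eq_one_iff _).2 (C.hF _ (by omega) (by omega)).1, map_one, OneMemClass.coe_one, one_mul]
      exact C.hg y (by omega)) w fun z hz => (by decide : ∀ z ∈ Dat.l7, z < 7) z (List.contains_iff_mem.1 (List.all_eq_true.1 (List.all_eq_true.1 z5 w hw) z hz))
    have m : P (D.evI w) ∈ (gl g' Dat.l7).map C.π := k.2 ▸ inv_mem (mem_map_of_mem _ (mem_gl g' (List.all_eq_true.1 z5 w hw)))
    exact ⟨⟨k.1, le m⟩, by rwa [mem_subgroupOf, Gd.coe ⟨k.1, le m⟩]⟩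
  have c3 := (C.N.subgroupOf (gl g' Dat.l7)).card_mul_index
  rw [show (C.N.subgroupOf (gl g' Dat.l7)).index = Nat.card ((gl g' Dat.l7).map f) from fk ▸ relIndex_ker _ _] at c3
  have c4 : Nat.card (C.N.subgroupOf (gl g' Dat.l7)) = 1 := by
    have := Nat.card_pos (α := C.N.subgroupOf (gl g' Dat.l7))
    nlinarith
  have c5 := ((gl g' Dat.l7).map f).card_mul_index
  rw [show Nat.card ((gl g' Dat.l7).map f) = 128 by rw [c4] at c3; omega,
    (Nat.card_congr (isoM23 (pt 23)).some.toEquiv).trans (card_stab1 _)] at c5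
  have : IsMulCommutative C.N := ⟨⟨fun a b => hinj (a₁ := Additive.ofMul a + Additive.ofMul b) (a₂ := Additive.ofMul b + Additive.ofMul a)
    (by rw [map_add, map_add, add_comm])⟩⟩
  have d : Nat.card C.N ∣ 2 ^ 24 := by
    have := AddSubgroup.card_dvd_of_injective ψ hinj
    rwa [Nat.card_pi, Finset.prod_const, Finset.card_univ, card_pt, Nat.card_zmod] at this
  have d2 : (C.N ⊔ gl g' Dat.l7).index ∣ 79695 := by
    rw [← index_map_eq (C.N ⊔ gl g' Dat.l7) fs (fk.le.trans le_sup_left), ← show ((gl g' Dat.l7).map f).index = 79695 by omega]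
    exact index_dvd_of_le (map_mono le_sup_right)
  obtain ⟨H, hH⟩ := H1.gaschutz_exists (K := C.N) (U := C.N ⊔ gl g' Dat.l7) (A := gl g' Dat.l7) le_sup_left
    (Nat.Coprime.coprime_dvd_left d (Nat.Coprime.coprime_dvd_right d2 (by norm_num)))
    (disjoint_iff.1 (subgroupOf_eq_bot.1 (card_eq_one.1 c4)).symm) rfl
  exact ⟨H, disjoint_iff.1 hH.disjoint.symm, (sup_comm H _).trans hH.sup_eq_top⟩

end H0.H2M
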