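import Cfsg.Agent.H0.JV
import Cfsg.Agent.H0.XsC
import Cfsg.Agent.H0.Mat
import Cfsg.Agent.H0.Gol
import Cfsg.Agent.H0.SS
import Cfsg.Agent.H0.Real
import Cfsg.Agent.H0.MM23.Main

/-! An extension of `M23` by the cocode module, from letters `0..19` (lifts) and `20..43` (points). -/

namespace H0.M23X
open BN Subgroup Cfsg H6 Matrix
open scoped IsMulCommutative
variable {E : Type} [Group E]

abbrev Wd := GolayPt → ZMod 2
def sw (l : List ℕ) : Wd := (l.map fun j => Pi.single (pt j) 1).sum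

theorem theta (V : Subgroup E) [IsMulCommutative V] (h : ∀ a ∈ V, a * a = 1) (d : GolayPt → V) :
    ∃ θ : Wd →+ Additive V, ∀ p, θ (Pi.single p 1) = Additive.ofMul (d p) := by
  letI : Module (ZMod 2) (Additive V) := AddCommGroup.zmodModule fun x => by
    rw [two_nsmul]; exact congrArg Additive.ofMul (Subtype.ext (h _ x.toMul.2) : x.toMul * x.toMul = 1)
  exact ⟨(Fintype.linearCombination (ZMod 2) fun p => Additive.ofMul (d p)).toAddMonoidHom, fun p =>
    (Fintype.linearCombination_apply_single _ _ p 1).trans (one_smul _ _)⟩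

theorem dot_code {c : Wd} (h : ∀ j < 24, c ⬝ᵥ decW (lane 24 qrTab j) = 0) (h0 : c none = 0) {w : Wd}
    (hw : w ∈ golayCode ∨ w + Pi.single none 1 ∈ golayCode) : c ⬝ᵥ w = 0 := by
  have k : ∀ w ∈ golayCode, c ⬝ᵥ w = 0 := fun w hw => by
    induction hw using Submodule.span_induction with
    | mem x hx =>
      rcases hx with ⟨t, rfl⟩ | rfl
      exacts [qr_check t ▸ h _ (t.val_lt.trans (by decide)), one_check ▸ h 23 (by decide)]
    | zero => simp
    | add x y _ _ a b => rw [dotProduct_add, a, b, add_zero]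
    | smul a x _ b => rw [dotProduct_smul, b, smul_zero]
  refine hw.elim (k w) fun e => ?_
  have := k _ e
  rwa [dotProduct_add, dotProduct_single, h0, zero_mul, add_zero] at this

theorem ker_iff {A : Type} [AddGroup A] [Finite A] (θ : Wd →+ A) (hs : Function.Surjective θ) (hA : 2048 ≤ Nat.card A)
    (h : ∀ j < 24, θ (decW (lane 24 qrTab j)) = 0) (h0 : θ (Pi.single none 1) = 0) (w : Wd) :
    θ w = 0 ↔ (w ∈ golayCode ∨ w + Pi.single none 1 ∈ golayCode) := by
  have k : golayCode.toAddSubgroup ≤ θ.ker := fun w (hw : w ∈ golayCode) => by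
    show θ w = 0
    induction hw using Submodule.span_induction with
    | mem x hx =>
      rcases hx with ⟨t, rfl⟩ | rfl
      exacts [qr_check t ▸ h _ (t.val_lt.trans (by decide)), one_check ▸ h 23 (by decide)]
    | zero => simp
    | add x y _ _ a b => rw [map_add, a, b, add_zero]
    | smul a x _ b => rcases zmod2_cases a with rfl | rfl <;> simp [b]
  refine ⟨fun e => ?_, fun e => e.elim (fun e => k e) fun e => by simpa [h0] using (k e : θ _ = 0)⟩
  have n : Pi.single none 1 ∉ golayCode := fun e => by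
    have := St.golay_min _ e (by simp)
    revert this; decide +kernel
  have i1 := AddSubgroup.relIndex_mul_index k
  have i2 := golayCode.toAddSubgroup.card_mul_index
  rw [AddSubgroup.index_ker, AddMonoidHom.range_eq_top.2 hs, AddSubgroup.card_top] at i1
  rw [show Nat.card golayCode.toAddSubgroup = 4096 from St.card_golay, Nat.card_pi, Finset.prod_const, Finset.card_univ, card_pt, Nat.card_zmod] at i2
  have i3 : golayCode.toAddSubgroup.relIndex θ.ker ≠ 1 := fun e => n (AddSubgroup.relIndex_eq_one.1 e h0)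
  have i4 : golayCode.toAddSubgroup.relIndex θ.ker = 2 := by
    generalize golayCode.toAddSubgroup.relIndex θ.ker = r at *
    obtain _ | _ | _ | r := r
    exacts [by omega, (i3 rfl).elim, rfl, by nlinarith]
  have := AddSubgroup.add_mem_iff_of_index_two i4 (a := ⟨w, e⟩) (b := ⟨_, h0⟩)
  by_cases q : w ∈ golayCode
  exacts [.inl q, .inr (this.2 (iff_of_false q n))]

def ds : List ℕ := List.range' 20 24
noncomputable def EE (ts : List ℕ) (Ws QL : List (List ℕ)) (x y n1 n2 : List ℕ) : List (List ℕ × List ℕ) :=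
  (ds.flatMap fun x => ([x, x], []) :: ds.map fun y => ([x, y], [y, x])) ++
  ((List.range 20).flatMap fun x => (List.range 24).map fun j => ([x, 20 + j], [20 + ap (ts.getD x idT) j, x])) ++
  MM23.B.zip (Ws.map (sh 20)) ++ (QL.map fun w => (sh 20 w, [])) ++ [([43], []), (x ++ x, sh 20 n1 ++ (y ++ y)), (x ++ (y ++ x), sh 20 n2 ++ y)]

theorem main [Finite E] {g : ℕ → E} (top : gen g (lets 44) = ⊤) {ts : List ℕ} {Ws QL x y n1 n2} (hE : ∀ e ∈ EE ts Ws QL x y n1 n2, ev g e.1 = ev g e.2)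
    (h : (BN.allL (fxP inM 23) ts && BN.allL (fun r => Nat.beq (evT ts r) idT) MM23.B && (MM23.B.all fun r => r.all (Nat.blt · 20)) &&
      Nat.beq MM23.B.length Ws.length && (n1 :: n2 :: Ws ++ QL).all (·.all (Nat.blt · 24)) && (x ++ y).all (Nat.blt · 20) && Nat.beq QL.length 24) = true)
    (hq : ∀ j < 24, decW (lane 24 qrTab j) = sw (QL.getD j [])) (low : 2048 ≤ Nat.card (gl g ds))
    {j : ℕ} (hj : j < 24) (hne : ev g [20 + j, 20 + ap (ts.getD 0 idT) j] ≠ 1) {c1 c2 : Wd}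
    (hc : ∀ j < 24, c1 ⬝ᵥ decW (lane 24 qrTab j) = 0 ∧ c2 ⬝ᵥ decW (lane 24 qrTab j) = 0) (h0 : c1 none = 0 ∧ c2 none = 0)
    (e1 : ∀ p, c1 p + c1 (pt (ap (evT ts x) (idx p))) = c2 p + c2 (pt (ap (evT ts x) (idx (pt (ap (evT ts y) (idx p)))))) ∧
      c1 p + c1 (pt (ap (evT ts y) (idx p))) = c2 p + c2 (pt (ap (evT ts x) (idx p)))) (e2 : c1 ⬝ᵥ sw n1 ≠ c2 ⬝ᵥ sw n2) :
    ∃ (N : Subgroup E) (_ : N.Normal) (φ : E ⧸ N ≃* ↥Spor.M23) (θ : (GolayPt → ZMod 2) →+ Additive ↥N),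
      Function.Surjective θ ∧ (∀ w : GolayPt → ZMod 2, θ w = 0 ↔ (w ∈ golayCode ∨ w + Pi.single none 1 ∈ golayCode)) ∧
      (∀ (g : E) (w : GolayPt → ZMod 2), ((θ (w ∘ ⇑(((φ (QuotientGroup.mk g) : ↥Spor.M23) : Equiv.Perm GolayPt)⁻¹))).toMul : E)
          = g * ((θ w).toMul : E) * g⁻¹) ∧ ∀ H : Subgroup E, H ⊓ N = ⊥ → H ⊔ N ≠ ⊤ := by
  simp only [Bool.and_eq_true, Nat.beq_eq, List.cons_append, List.all_cons, List.all_append] at h
  obtain ⟨⟨⟨⟨⟨⟨h1, h4⟩, h5⟩, h6⟩, a1, a2, a3, a4⟩, a5, a6⟩, h7⟩ := h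
  simp only [EE, List.forall_mem_append, List.forall_mem_flatMap, List.forall_mem_cons, List.forall_mem_map, List.mem_range, ev_cons, ev_nil,
    mul_one, ev_append] at hE
  obtain ⟨⟨⟨⟨b1, b2⟩, b3⟩, b4⟩, b5, b6, b7, -⟩ := hE
  have ea : EA g ds := b1
  have md : ∀ j < 24, 20 + j ∈ ds := by decide
  have md' : ∀ x ∈ ds, ∃ j < 24, x = 20 + j := by decide
  have hg : ∀ x, Gd (ts.getD x idT) ∧ H6.E (ts.getD x idT) ∈ MulAction.stabilizer M24 (pt 23) := fun x => by
    rw [List.getD_eq_getElem?_getD]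
    cases hx : ts[x]? with
    | none => exact ⟨gd_idT, E_idT ▸ one_mem _⟩
    | some t => exact ckP 23 t (BN.allL_spec h1 t (List.mem_of_getElem? hx))
  let f : ℕ → Spor.M23 := fun x => ⟨P (ts.getD x idT), (hg x).1.2, by have := (hg x).2; rwa [← (hg x).1.coe]⟩
  have he : ∀ w, IsP (evT ts w) ∧ P (evT ts w) = (ev f w : Spor.M23) := fun w => by
    induction w with
    | nil => exact ⟨P_idT.1, P_idT.2.symm⟩
    | cons x w ih =>
      have e : evT ts (x :: w) = mulT (ts.getD x idT) (evT ts w) := force_eq _ _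
      rw [e, ev_cons]
      exact ⟨(P_mulT (hg x).1.1 ih.1).1, by rw [← (P_mulT (hg x).1.1 ih.1).2, ih.2]; rfl⟩
  have ind : ∀ {Q : E → Prop}, Q 1 → (∀ x < 20, ∀ a, Q a → Q (g x * a)) → (∀ j < 24, ∀ a, Q a → Q (g (20 + j) * a)) → ∀ a, Q a :=
    fun {Q} q1 q2 q3 a => gl_ind (l := List.range 44) q1 (fun x hx => by
      by_cases k : x < 20
      exacts [q2 x k, by obtain ⟨j, rfl⟩ := Nat.exists_eq_add_of_le (not_lt.1 k); exact q3 j (by have := List.mem_range.1 hx; omega)])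
      a (by show a ∈ gen g (lets 44); rw [top]; trivial)
  have nrm : (gl g ds).Normal := ⟨fun n hn a => by
    revert n
    refine ind (Q := fun a => ∀ n ∈ gl g ds, a * n * a⁻¹ ∈ gl g ds) (by simp) (fun x hx a q n hn => ?_) (fun j hj a q n hn => ?_) a
    · rw [show g x * a * n * (g x * a)⁻¹ = g x * (a * n * a⁻¹) * (g x)⁻¹ by group]
      refine gl_ind (P := fun b => g x * b * (g x)⁻¹ ∈ gl g ds) (by simp) (fun z hz b k => ?_) _ (q n hn)
      obtain ⟨j, hj, rfl⟩ := md' z hz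
      rw [← mul_assoc, b2 x hx j hj, mul_assoc, mul_assoc, ← mul_assoc (g x)]
      exact mul_mem (gl_let g (md _ ((hg x).1.1.1 j hj))) k
    · rw [show g (20 + j) * a * n * (g (20 + j) * a)⁻¹ = g (20 + j) * (a * n * a⁻¹) * (g (20 + j))⁻¹ by group]
      exact mul_mem (mul_mem (gl_let g (md j hj)) (q n hn)) (inv_mem (gl_let g (md j hj)))⟩
  haveI : IsMulCommutative (gl g ds) := ⟨⟨fun x y => Subtype.ext (ea.comm x.2 y.2).eq⟩⟩
  have sq : ∀ a ∈ gl g ds, a * a = 1 := fun a ha => (gl_ind (P := fun a => a ∈ gl g ds ∧ a * a = 1) ⟨one_mem _, by simp⟩ (fun x hx a k =>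
    ⟨mul_mem (gl_let g hx) k.1, by rw [mul_assoc, ← mul_assoc a, (ea.comm k.1 (gl_let g hx)).eq, mul_assoc, k.2, mul_one, (ea x hx).1]⟩) a ha).2
  obtain ⟨θ, hθ⟩ := theta (gl g ds) sq fun p => ⟨g (20 + idx p), gl_let g (md _ (H6.idx_lt p))⟩
  let T : Wd → E := fun w => (θ w).toMul
  have Ta : ∀ u w, T (u + w) = T u * T w := fun u w => by simp [T]
  have Tp : ∀ p, T (Pi.single p 1) = g (20 + idx p) := fun p => by simp [T, hθ]
  have Tm : ∀ w, T w ∈ gl g ds := fun w => (θ w).toMul.2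
  have Ts : ∀ l : List ℕ, l.all (Nat.blt · 24) = true → T (sw l) = ev g (sh 20 l) := fun l hl => by
    induction l with
    | nil => simp [T, sw, sh]
    | cons j l ih =>
      simp only [List.all_cons, Bool.and_eq_true, Nat.blt_eq] at hl
      exact (Ta _ (sw l)).trans (by rw [Tp, idx_pt hl.1, ih (by simpa using hl.2)]; rfl)
  have su : ∀ a ∈ gl g ds, ∃ w, T w = a := gl_ind ⟨0, by simp [T]⟩ fun z hz a ⟨w, e⟩ => by
    obtain ⟨j, hj, rfl⟩ := md' z hz
    exact ⟨Pi.single (pt j) 1 + w, by rw [Ta, Tp, idx_pt hj, e]⟩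
  have su' : Function.Surjective θ := fun a => (su _ a.toMul.2).imp fun w e => congrArg Additive.ofMul (Subtype.ext e : (θ w).toMul = a.toMul)
  have T1 : ∀ w, T w = 1 → θ w = 0 := fun w e => congrArg Additive.ofMul (Subtype.ext e : (θ w).toMul = 1)
  have ker := ker_iff θ su' low (fun j hj => T1 _ (by
    have : QL.getD j [] ∈ QL := by rw [List.getD_eq_getElem _ _ (h7 ▸ hj)]; exact List.getElem_mem _
    rw [hq j hj, Ts _ (List.all_eq_true.1 a4 _ this), b4 _ this])) (T1 _ ((Tp _).trans b5))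
  have hs := MM23.simple (Pres.pg 20 MM23.B)
  have r2 : ∀ r ∈ MM23.B, ev (fun x => (g x : E ⧸ gl g ds)) r = 1 := fun r hr => by
    obtain ⟨i, hi, rfl⟩ := List.getElem_of_mem hr
    have := b3 (MM23.B[i], sh 20 (Ws[i]'(h6 ▸ hi))) (List.mem_iff_getElem.2 ⟨i, by simp [← h6, hi], by simp⟩)
    refine (map_ev (QuotientGroup.mk' _) g _).symm.trans ?_
    rw [this, ← Ts _ (List.all_eq_true.1 a3 _ (List.getElem_mem _))]
    exact (QuotientGroup.eq_one_iff _).2 (Tm _)
  have n0 : g 0 ∉ gl g ds := fun e => hne (by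
    have := b2 0 (by decide) j hj
    rw [(ea.comm e (gl_let g (md j hj))).eq, mul_left_inj] at this
    rw [ev_cons, ev_cons, ev_nil, mul_one, ← this, (ea _ (md j hj)).1])
  let β := MulEquiv.ofBijective (pgHom _ r2 h5) ⟨pgHom_inj hs (x := 0) (by decide) fun e => n0 ((QuotientGroup.eq_one_iff _).1 e), fun a => by
    obtain ⟨a, rfl⟩ := QuotientGroup.mk_surjective a
    refine ind (Q := fun a => (a : E ⧸ gl g ds) ∈ (pgHom _ r2 h5).range) (one_mem _) (fun x hx a q => mul_mem (a := (g x : E ⧸ gl g ds)) (MonoidHom.mem_range.2 ⟨_, pgHom_of hx⟩) q) (fun j hj a q => ?_) a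
    rwa [QuotientGroup.mk_mul, (QuotientGroup.eq_one_iff _).2 (gl_let g (md j hj)), one_mul]⟩
  have r1 : ∀ r ∈ MM23.B, ev f r = 1 := fun r hr => Subtype.ext (by
    rw [← (he r).2, Nat.eq_of_beq_eq_true (BN.allL_spec h4 r hr), ← P_idT.2]; rfl)
  let α := MulEquiv.ofBijective (pgHom f r1 h5) ((Nat.bijective_iff_injective_and_card _).2 ⟨pgHom_inj hs (x := 0) (by decide) fun e => hne (by
      have := congrArg (fun σ : Spor.M23 => idx (σ.1 (pt j))) e
      simp only [f, idx_P (hg 0).1.1, idx_pt hj, OneMemClass.coe_one, Equiv.Perm.one_apply] at this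
      rw [ev_cons, ev_cons, ev_nil, mul_one, this, (ea _ (md j hj)).1]),
    (MM23.card (Pres.pg _ _)).trans ((Nat.card_congr (isoM23 (pt 23)).some.toEquiv).trans (card_stab1 _)).symm⟩)
  let φ := β.symm.trans α
  have φx : ∀ x < 20, φ (g x) = f x := fun x hx => by
    rw [show (g x : E ⧸ gl g ds) = β ((Pres.pg 20 MM23.B).g x) from (pgHom_of (f := fun x => (g x : E ⧸ gl g ds)) (h := r2) (hB := h5) hx).symm]
    exact (congrArg α (β.symm_apply_apply _)).trans (pgHom_of (h := r1) (hB := h5) hx)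
  have eqv : ∀ (a : E) w, T (w ∘ ⇑(((φ (a : E ⧸ gl g ds) : Spor.M23) : Equiv.Perm GolayPt)⁻¹)) = a * T w * a⁻¹ := by
    refine ind (by simp) (fun x hx a q w => ?_) fun j hj a q w => ?_
    · rw [QuotientGroup.mk_mul, map_mul, Subgroup.coe_mul, _root_.mul_inv_rev, Equiv.Perm.coe_mul, ← Function.comp_assoc,
        show g x * a * T w * (g x * a)⁻¹ = g x * (a * T w * a⁻¹) * (g x)⁻¹ by group, ← q, φx x hx]
      generalize w ∘ _ = u
      refine Pi.single_induction (fun u => T (u ∘ ⇑((f x : Equiv.Perm GolayPt)⁻¹)) = g x * T u * (g x)⁻¹) u (by simp [T])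
        (fun u v a b => by rw [Pi.add_comp, Ta, Ta, a, b, conj_mul]) fun p m => ?_
      rcases zmod2_cases m with rfl | rfl
      · simp [T]
      · rw [show (Pi.single p 1 : Wd) ∘ ⇑((f x : Equiv.Perm GolayPt)⁻¹) = Pi.single ((f x : Equiv.Perm GolayPt) p) 1 from
          funext fun q => by simp [Pi.single_apply, Equiv.symm_apply_eq], Tp, Tp, b2 x hx _ (H6.idx_lt p), mul_inv_cancel_right]
        exact congrArg (fun i => g (20 + i)) (idx_P (hg x).1.1 p)
    · rw [QuotientGroup.mk_mul, (QuotientGroup.eq_one_iff _).2 (gl_let g (md j hj)), one_mul,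
        show g (20 + j) * a * T w * (g (20 + j) * a)⁻¹ = g (20 + j) * (a * T w * a⁻¹) * (g (20 + j))⁻¹ by group, ← q,
        (ea.comm (gl_let g (md j hj)) (Tm _)).eq, mul_inv_cancel_right]
  refine ⟨gl g ds, nrm, φ, θ, su', ker, eqv, fun H i s => e2 ?_⟩
  have li : ∀ a, ∃ w, T w * a ∈ H := fun a => by
    obtain ⟨v, hv, h, hh, rfl⟩ := mem_sup_of_normal_left.1 (sup_comm H _ ▸ s ▸ mem_top a : a ∈ gl g ds ⊔ H)
    obtain ⟨w, rfl⟩ := su v hv
    exact ⟨w, by rwa [← mul_assoc, sq _ hv, one_mul]⟩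
  have key : ∀ u u' Z, T u * Z ∈ H → T u' * Z ∈ H → c1 ⬝ᵥ (u + u') = 0 ∧ c2 ⬝ᵥ (u + u') = 0 := fun u u' Z k k' => by
    have : T (u + u') ∈ H ⊓ gl g ds := ⟨by
      have := H.mul_mem k (H.inv_mem k')
      rwa [_root_.mul_inv_rev, mul_assoc, mul_inv_cancel_left, inv_eq_of_mul_eq_one_left (sq _ (Tm u')), ← Ta] at this, Tm _⟩
    have := (ker _).1 (T1 _ (mem_bot.1 (i ▸ this)))
    exact ⟨dot_code (fun j hj => (hc j hj).1) h0.1 this, dot_code (fun j hj => (hc j hj).2) h0.2 this⟩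
  have mv : ∀ x : List ℕ, x.all (Nat.blt · 20) = true → ∀ w, ev g x * T w = T (w ∘ (P (evT ts x)).symm) * ev g x := fun x hx w => by
    have : φ ((ev g x : E) : E ⧸ gl g ds) = ev f x :=
      (map_ev (φ.toMonoidHom.comp (QuotientGroup.mk' _)) g x).trans (ev_congr (fun z hz => φx z hz) hx).symm
    have k := eqv (ev g x) w
    rw [this, ← (he x).2] at k
    exact (eq_mul_inv_iff_mul_eq.1 k).symm
  obtain ⟨w1, k1⟩ := li (ev g x)
  obtain ⟨w2, k2⟩ := li (ev g y)
  have q1 := (key (w1 + w1 ∘ (P (evT ts x)).symm + sw n1) (w2 + w2 ∘ (P (evT ts y)).symm) (ev g y * ev g y) (by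
    have := mul_mem k1 k1
    rwa [mul_assoc, ← mul_assoc (ev g x), mv x a5, mul_assoc, b6, ← Ts _ a1, ← mul_assoc, ← mul_assoc, ← Ta, ← Ta] at this) (by
    have := mul_mem k2 k2
    rwa [mul_assoc, ← mul_assoc (ev g y), mv y a6, mul_assoc, ← mul_assoc, ← Ta] at this)).1
  have q2 := (key (w1 + (w2 + w1 ∘ (P (evT ts y)).symm) ∘ (P (evT ts x)).symm + sw n2) w2 (ev g y) (by
    have := mul_mem k1 (mul_mem k2 k1)
    rwa [mul_assoc (T w2), ← mul_assoc (ev g y), mv y a6, mul_assoc (T _) (ev g y), ← mul_assoc (T w2), ← Ta, mul_assoc, ← mul_assoc (ev g x), mv x a5,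
      mul_assoc, b7, ← Ts _ a2, ← mul_assoc, ← mul_assoc, ← Ta, ← Ta] at this) k2).2
  have f1 : c1 + c1 ∘ P (evT ts x) = c2 + (c2 ∘ P (evT ts x)) ∘ P (evT ts y) := funext fun p => by
    simpa [P_apply (he _).1] using (e1 p).1
  have f2 : c1 + c1 ∘ P (evT ts y) = c2 + c2 ∘ P (evT ts x) := funext fun p => by
    simpa [P_apply (he _).1] using (e1 p).2
  have g1 := congrArg (· ⬝ᵥ w1) f1
  have g2 := congrArg (· ⬝ᵥ w2) f2
  simp only [Pi.add_comp, dotProduct_add, add_dotProduct, dotProduct_comp_equiv_symm] at q1 q2 g1 g2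
  grind

end H0.M23X
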