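import Cfsg.Agent.H0.H2M
import Cfsg.Agent.H0.M23X

/-! Extensions of `M23` by the cocode module: tails as linear forms, taken modulo the kernel. -/

namespace H0.H2P
open BN Subgroup Cfsg H6 Matrix
open H2M hiding lam lam_xor lam_zero lam_pow lam_lin lam_cor Ctx
variable {E : Type*} [Group E]

def lam (x : ℕ → ZMod 2) (m : ℕ) : ZMod 2 := ∑ b ∈ Finset.range 1680, if m.testBit b then x b else 0
theorem lam_xor (x) (a b : ℕ) : lam x (Nat.xor a b) = lam x a + lam x b := by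
  rw [lam, lam, lam, ← Finset.sum_add_distrib]
  refine Finset.sum_congr rfl fun i _ => ?_
  rw [Nat.xor_eq, Nat.testBit_xor]
  cases a.testBit i <;> cases b.testBit i <;> simp [CharTwo.add_self_eq_zero]
theorem lam_zero (x) : lam x 0 = 0 := by simp [lam]
theorem lam_pow (x) {b : ℕ} (h : b < 1680) : lam x (2 ^ b) = x b := by simp [lam, Nat.testBit_two_pow, h]
theorem lam_lin (x) : ∀ (Z : List ℕ), (∀ z ∈ Z, lam x z = 0) → ∀ m, lam x (lin Z m) = 0
  | [], _, _ => lam_zero x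
  | z :: Z, h, m => by
    rw [lin_cons, ← Nat.xor_eq, lam_xor, lam_lin x Z (fun y hy => h y (List.mem_cons_of_mem _ hy)), add_zero]
    rcases Nat.mod_two_eq_zero_or_one m with e | e <;> simp [e, lam_zero, h z]
theorem lam_cor (x) {j : ℕ} (hj : j < 24) : ∀ l : List (ℕ × ℕ), (l.map fun e => lam x e.2 • decW e.1).sum (pt j) = lam x (corF l j)
  | [] => (lam_zero x).symm
  | e :: l => by
    rw [List.map_cons, List.sum_cons, Pi.add_apply, lam_cor x hj l, corF, lam_xor, Pi.smul_apply, decW, idx_pt hj]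
    split_ifs <;> simp [lam_zero]

theorem lam_xlin (x) (f : ℕ → ℕ) (c : ℕ) : ∀ k, lam x (xlin f c k) = ∑ j ∈ Finset.range k, (if c.testBit j then 1 else 0) * lam x (f j)
  | 0 => lam_zero x
  | k + 1 => by
    rw [xlin_succ, ← Nat.xor_eq, lam_xor, lam_xlin x f c k, Finset.sum_range_succ]
    split_ifs <;> simp [lam_zero]

structure Ctx (E : Type*) [Group E] (D : Dat) (cs : List ℕ) where
  π : E →* Equiv.Perm GolayPt
  T : Wd → E
  add : ∀ u w, T (u + w) = T u * T w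
  hT : ∀ g w, T (w ∘ ⇑(π g)⁻¹) = g * T w * g⁻¹
  hK : ∀ w, T w = 1 → ∀ c ∈ cs, decW c ⬝ᵥ w = 0
  x : ℕ → ZMod 2
  g : ℕ → E
  hg : ∀ y < 11, IsP (D.t y) ∧ (π (g y))⁻¹ = P (D.t y)
  hr : ∀ i, 11 ≤ i → i < 70 → ev g (D.L i) = g i * ev g (D.R i)
  hF : ∀ i, 11 ≤ i → i < 77 → g i = T fun p => lam x (D.FT i (idx p))

namespace Ctx
variable {D : Dat} {cs : List ℕ} (C : Ctx E D cs)
theorem T0 : C.T 0 = 1 := by simpa using C.add 0 0
def Sem (n : E) (f : ℕ → ℕ) : Prop := n = C.T fun p => lam C.x (f (idx p))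
variable {C}
theorem Sem.one : C.Sem 1 (gd []) := C.T0.symm.trans (congrArg _ (funext fun _ => (lam_zero _).symm))
theorem Sem.mul {a b f f'} (h : C.Sem a f) (h' : C.Sem b f') : C.Sem (a * b) fun j => Nat.xor (f j) (f' j) := by
  rw [h, h', ← C.add]; exact congrArg _ (funext fun p => (lam_xor ..).symm)
theorem Sem.conj {a f y} (h : C.Sem a f) (hy : y < 11) : C.Sem (C.g y * a * (C.g y)⁻¹) fun j => f (ap (D.t y) j) := by
  rw [h, ← C.hT, (C.hg y hy).2]; exact congrArg _ (funext fun p => by simp [idx_P (C.hg y hy).1])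
theorem Sem.ls {a f} (h : C.Sem a f) : C.Sem a (gd ((List.range 24).map f)) := h.trans (congrArg _ (funext fun p => by simp [gd, H6.idx_lt p]))
theorem Sem.sq {a f} (h : C.Sem a f) : a * a = 1 := by
  have k : ∀ w, C.T w * C.T w = 1 := fun w => by rw [← C.add, show w + w = 0 from funext fun p => CharTwo.add_self_eq_zero (w p), C.T0]
  exact h ▸ k _
theorem Sem.z {a f} (h : C.Sem a f) (e : a = 1) {Z : List ℕ} (k : (cs.map (xlin f · 24) == Z) = true) : ∀ z ∈ Z, lam C.x z = 0 := by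
  rw [← eq_of_beq k, List.forall_mem_map]
  intro c hc
  refine (lam_xlin ..).trans (Eq.trans ?_ (C.hK _ (h.symm.trans e) c hc))
  rw [dotProduct, sum_pt]
  exact Finset.sum_congr rfl fun j hj => by rw [decW, idx_pt (Finset.mem_range.1 hj)]
variable (C) in
def St (l : List ℕ) (e : E) (s : List ℕ × ℕ) : Prop := ∃ n, C.Sem n (gd s.1) ∧ e = n * ev C.g (wd 2 l s.2)

theorem evw_ok {l mu} (h : ∀ x ∈ l, ∀ k, C.St l (C.g x * ev C.g (wd 2 l k)) (mu x k)) {e s} (hs : C.St l e s) :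
    ∀ w : List ℕ, (∀ z ∈ w, z ∈ l ∧ z < 11 ∨ 11 ≤ z ∧ z < 77) → C.St l (ev C.g w * e) (D.evw mu s w)
  | [], _ => (one_mul e).symm ▸ hs
  | x :: w, hw => by
    obtain ⟨n, h1, h2⟩ := evw_ok h hs w fun z hz => hw z (List.mem_cons_of_mem _ hz)
    show C.St l _ (D.step mu x (D.evw mu s w))
    rw [ev_cons, mul_assoc, h2]
    generalize D.evw mu s w = s' at *
    obtain ⟨F, k⟩ := s'
    rcases hw x List.mem_cons_self with q | q
    · obtain ⟨c, h3, h4⟩ := h x q.1 k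
      rw [Dat.step, show Nat.blt x 11 = true by simpa using q.2]
      dsimp only
      generalize mu x k = s2 at *
      obtain ⟨F2, k2⟩ := s2
      dsimp only
      rw [force_eq, st_eq]
      exact ⟨_, ((h1.conj q.2).mul h3).ls, by rw [mul_assoc, ← h4]; group⟩
    · rw [Dat.step, show Nat.blt x 11 = false from Bool.eq_false_iff.2 (by simpa using q.1)]
      dsimp only
      rw [st_eq]
      exact ⟨_, (Sem.mul (C.hF x q.1 q.2) h1).ls, (mul_assoc ..).symm⟩

theorem mu_ok : ∀ {l : List ℕ}, (∀ z ∈ l, z < 11) → D.okH l = true → ∀ x ∈ l, ∀ k, C.St l (C.g x * ev C.g (wd 2 l k)) (D.mu l x k)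
  | [], _, _ => by simp
  | y :: l, hl, h => fun x hx k => by
    simp only [Dat.okH, Bool.and_eq_true, List.all_eq_true, beq_iff_eq, Nat.blt_eq, List.contains_iff_mem] at h
    have ih := mu_ok (fun z hz => hl z (List.mem_cons_of_mem _ hz)) h.2
    obtain ⟨⟨⟨a1, a2⟩, a3⟩, a4⟩ := h.1 x hx
    have r := C.hr _ (by omega) a1
    have f := C.hF _ (by omega) (a1.trans (by decide))
    obtain ⟨n, h1, h2⟩ := evw_ok ih (e := ev C.g (wd 2 l (k / 2))) (s := ([], k / 2)) ⟨1, Sem.one, (one_mul _).symm⟩ (D.Rw x y)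
      fun z hz => .inl ⟨a4 z hz, hl z (List.mem_cons_of_mem _ (a4 z hz))⟩
    rw [a2, a3, ev_append, ev_cons, ev_cons, ev_nil, mul_one] at r
    have e : D.mu (y :: l) x k = force (k / 2) fun k1 => if k % 2 = 0 then (if x = y then ([], k + 1) else
      Prod.rec (fun F k2 => force (2 * k2) fun k3 => (F, k3)) (D.mu l x k1)) else Prod.rec (fun F k2 => force (11 + 7 * x + y) fun i =>
        if x = y then st (fun j => Nat.xor (D.FT i j) (gd F j)) (2 * k2) else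
      force (D.t y) fun t => st (fun j => Nat.xor (D.FT i j) (gd F (ap t j))) (2 * k2 + 1)) (D.evw (D.mu l) ([], k1) (D.Rw x y)) := rfl
    rw [e, force_eq, wd_cons, ev_append, ev_rep]
    generalize D.evw (D.mu l) ([], k / 2) (D.Rw x y) = s' at *
    obtain ⟨F, k2⟩ := s'
    simp only [force_eq, st_eq]
    split_ifs with q1 q2 q2
    · exact ⟨1, Sem.one, by simp [wd_cons, ev_rep, q1, q2, show (k + 1) % 2 = 1 by omega, show (k + 1) / 2 = k / 2 by omega]⟩
    · obtain ⟨c, h3, h4⟩ := ih x ((List.mem_cons.1 hx).resolve_left q2) (k / 2)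
      exact ⟨c, h3, by simp [wd_cons, q1, h4]⟩
    · refine ⟨_, (Sem.mul f h1).ls, ?_⟩
      rw [show k % 2 = 1 by omega, pow_one, ← mul_assoc, r, if_pos q2, ev_nil, one_mul, mul_assoc, h2]
      simp [wd_cons, mul_assoc]
    · refine ⟨_, (Sem.mul f (h1.conj (hl y List.mem_cons_self))).ls, ?_⟩
      rw [show k % 2 = 1 by omega, pow_one, ← mul_assoc, r, if_neg q2, mul_assoc, mul_assoc, h2]
      simp [wd_cons, mul_assoc, show (2 * k2 + 1) / 2 = k2 by omega]

theorem dif_ok (h : D.okH Dat.l7 = true) {u v c} (e : D.dif u v c = true) : ∃ F, c F = true ∧ C.Sem (ev C.g u * (ev C.g v)⁻¹) (gd F) := by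
  have k : ∀ w, Dat.okW w = true → C.St Dat.l7 (ev C.g w) (D.ev7 w) := fun w hw => by
    rw [← mul_one (ev C.g w)]
    refine evw_ok (mu_ok (by decide) h) (s := ([], 0)) ⟨1, Sem.one, by simp [wd_zero]⟩ w fun z hz => ?_
    have := List.all_eq_true.1 hw z hz
    simp only [Bool.or_eq_true, Bool.and_eq_true, Nat.blt_eq, Nat.ble_eq, List.contains_iff_mem] at this
    exact this.imp_left fun q => ⟨q, (by decide : ∀ z ∈ Dat.l7, z < 11) z q⟩
  simp only [Dat.dif, Bool.and_eq_true] at e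
  obtain ⟨a, h1, h2⟩ := k u e.1.1
  obtain ⟨b, h3, h4⟩ := k v e.1.2
  generalize D.ev7 u = s at *
  generalize D.ev7 v = s' at *
  obtain ⟨F, i⟩ := s
  obtain ⟨G, j⟩ := s'
  simp only [forceL_eq, Bool.and_eq_true, Nat.beq_eq] at e
  obtain rfl := e.2.1
  exact ⟨_, e.2.2, by rw [h2, h4, _root_.mul_inv_rev, mul_assoc, mul_inv_cancel_left, inv_eq_of_mul_eq_one_left h3.sq]; exact (h1.mul h3).ls⟩

end Ctx

noncomputable def tA (D : Dat) (cs : List ℕ) (T : ℕ × ℕ × List ℕ) : Bool :=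
  Nat.ble 11 T.1 && Nat.blt T.1 70 && D.dif (D.L T.1 ++ [T.2.1]) (T.1 :: (D.R T.1 ++ [T.2.1])) fun F => cs.map (xlin (gd F) · 24) == T.2.2
noncomputable def tB (D : Dat) (cs : List ℕ) (T : ℕ × List ℕ × List ℕ × List ℕ) : Bool :=
  Nat.blt T.1 11 && (T.2.1 ++ T.2.2.1).all (fun i => Nat.ble 11 i && Nat.blt i 70 && D.L i == T.1 :: (D.L i).tail && D.R i == (D.R i).dropLast ++ [T.1]) &&
    D.dif (D.su T.2.1) (D.su T.2.2.1) fun F => D.dif (D.sv T.2.1) (D.sv T.2.2.1) fun G =>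
      cs.map (xlin (fun j => Nat.xor (gd F (ap (D.t T.1) j)) (gd G j)) · 24) == T.2.2.2
noncomputable def tC (D : Dat) (Z : List ℕ) (ε : ℕ) (T : (List ℕ × List ℕ) × List ℕ × ℕ × List (ℕ × ℕ)) : Bool :=
  T.2.2.2.all (fun e => isCw e.1 || Nat.beq e.1 (2 ^ 23)) && D.dif (Dat.ex T.1.1) (Dat.ex T.1.2) fun F =>
    allN (fun j => Nat.beq (gd F j) (Nat.xor (lin Z (gd T.2.1 j)) (corF ((T.2.2.1, ε) :: T.2.2.2) j))) 24
namespace Ctx
variable {D : Dat} {cs : List ℕ} {C : Ctx E D cs} (h : D.okH Dat.l7 = true)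
include h
theorem tA_ok {T} (e : tA D cs T = true) : ∀ z ∈ T.2.2, lam C.x z = 0 := by
  simp only [tA, Bool.and_eq_true, Nat.blt_eq, Nat.ble_eq] at e
  obtain ⟨F, h1, h2⟩ := dif_ok (C := C) h e.2
  exact h2.z (by rw [ev_cons, ev_append, ev_append, C.hr _ e.1.1 e.1.2, mul_assoc (C.g T.1), mul_inv_cancel]) h1
theorem tB_ok {T} (e : tB D cs T = true) : ∀ z ∈ T.2.2.2, lam C.x z = 0 := by
  simp only [tB, Bool.and_eq_true, Nat.blt_eq, Nat.ble_eq, List.all_eq_true, beq_iff_eq, List.forall_mem_append] at e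
  obtain ⟨F, h1, h2⟩ := dif_ok (C := C) h e.2
  obtain ⟨G, h3, h4⟩ := dif_ok (C := C) h h1
  have k : ∀ w : List ℕ, (∀ i ∈ w, ((11 ≤ i ∧ i < 70) ∧ D.L i = T.1 :: (D.L i).tail) ∧ D.R i = (D.R i).dropLast ++ [T.1]) →
      ev C.g (D.sv w) = C.g T.1 * ev C.g (D.su w) * (C.g T.1)⁻¹ := fun w hw => by
    induction w with
    | nil => simp [Dat.su, Dat.sv]
    | cons i w ih =>
      obtain ⟨⟨a1, a2⟩, a3⟩ := hw i List.mem_cons_self
      have := C.hr i a1.1 a1.2
      rw [a2, a3, ev_cons, ev_append, ev_cons, ev_nil, mul_one, ← mul_assoc] at this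
      rw [Dat.su, Dat.sv, List.flatMap_cons, List.flatMap_cons, ev_append, ev_append, ev_cons, ← Dat.su, ← Dat.sv,
        ih fun j hj => hw j (List.mem_cons_of_mem _ hj), ← mul_assoc, ← mul_assoc, ← this, mul_assoc (C.g T.1)]
  refine ((h2.conj e.1.1).mul h4).z ?_ h3
  rw [← h4.sq, k _ e.1.2.1, k _ e.1.2.2]
  group
theorem tC_ok (hc : ∀ c, (isCw c || Nat.beq c (2 ^ 23)) = true → ∀ a : ZMod 2, C.T (a • decW c) = 1) {Z ε T} (hZ : ∀ z ∈ Z, lam C.x z = 0) (e : tC D Z ε T = true) :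
    ev (fun x => C.g (70 + x) * C.g x) T.1.1 = C.T (lam C.x ε • decW T.2.2.1) * ev (fun x => C.g (70 + x) * C.g x) T.1.2 := by
  obtain ⟨e0, e⟩ := Bool.and_eq_true_iff.1 e
  obtain ⟨F, h1, h2⟩ := dif_ok (C := C) h e
  have k : ∀ w, ev (fun x => C.g (70 + x) * C.g x) w = ev C.g (Dat.ex w) := fun w => by
    induction w with
    | nil => rfl
    | cons x w ih => rw [ev_cons, ih, Dat.ex, Dat.ex, List.flatMap_cons, ev_append]; simp
  have s : ∀ l : List (ℕ × ℕ), (∀ e ∈ l, (isCw e.1 || Nat.beq e.1 (2 ^ 23)) = true) → C.T (l.map fun e => lam C.x e.2 • decW e.1).sum = 1 := fun l hl => by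
    induction l with
    | nil => exact C.T0
    | cons a l ih => rw [List.map_cons, List.sum_cons, C.add, hc _ (hl a List.mem_cons_self), ih fun e he => hl e (List.mem_cons_of_mem _ he), one_mul]
  rw [k, k, ← mul_inv_eq_iff_eq_mul, h2, ← mul_one (C.T (_ • _)), ← s _ (List.all_eq_true.1 e0), ← C.add]
  refine congrArg _ (funext (forall_pt fun j hj => ?_))
  rw [idx_pt hj, Nat.eq_of_beq_eq_true (allN_spec h1 j hj), lam_xor, lam_lin _ Z hZ, zero_add, ← lam_cor _ hj]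
  rfl
end Ctx

noncomputable def fin (D : Dat) (cs : List ℕ) : Bool :=
  allN (fun y => fxP inM 23 (D.t y)) 11 && allN (fun i => (D.L i ++ D.R i).all (Nat.blt · 11) && Nat.beq (D.evI (D.L i)) (D.evI (D.R i))) 70 &&
  allN (fun i => allN (fun j => Nat.beq (D.FT i j) (2 ^ (24 * i + j))) 24) 70

theorem ctx (D : Dat) {cs : List ℕ} (h : fin D cs = true) (hcs : ∀ c ∈ cs, (∀ j < 24, decW c ⬝ᵥ decW (lane 24 qrTab j) = 0) ∧ decW c none = 0)
    (N : Subgroup E) [hN : N.Normal] (φ : E ⧸ N ≃* ↥Spor.M23) (θ : Wd →+ Additive ↥N)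
    (hs' : Function.Surjective θ) (hk : ∀ w : Wd, θ w = 0 ↔ (w ∈ golayCode ∨ w + Pi.single none 1 ∈ golayCode))
    (hθ : ∀ (g : E) (w : Wd), ((θ (w ∘ ⇑(((φ (QuotientGroup.mk g) : ↥Spor.M23) : Equiv.Perm GolayPt)⁻¹))).toMul : E) = g * ((θ w).toMul : E) * g⁻¹) :
    ∃ C : Ctx E D cs, (∀ w, C.T w = (θ w).toMul) ∧ ∀ e, C.π e = φ (e : E ⧸ N) := by
  classical
  simp only [fin, Bool.and_eq_true] at h
  obtain ⟨⟨h1, h2⟩, h3⟩ := h
  let π : E →* Equiv.Perm GolayPt := Spor.M23.subtype.comp (φ.toMonoidHom.comp (QuotientGroup.mk' N))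
  have : ∀ y, ∃ e : E, y < 11 → IsP (D.t y) ∧ (π e)⁻¹ = P (D.t y) := fun y => by
    by_cases hy : y < 11
    · have k := ckP 23 _ (allN_spec h1 y hy)
      obtain ⟨e, he⟩ := QuotientGroup.mk_surjective (φ.symm (⟨P (D.t y), k.1.2, by have := k.2; rwa [← k.1.coe]⟩ : Spor.M23)⁻¹)
      exact ⟨e, fun _ => ⟨k.1.1, by simp [π, he]⟩⟩
    · exact ⟨1, fun h => (hy h).elim⟩
  choose s hs using this
  have he := evI_ok hs
  have lt : ∀ i < 70, (∀ z ∈ D.L i, z < 11) ∧ (∀ z ∈ D.R i, z < 11) ∧ D.evI (D.L i) = D.evI (D.R i) := fun i hi => by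
    simpa [and_assoc] using allN_spec h2 i hi
  have : ∀ i, ∃ w, i < 70 → ev s (D.L i) * (ev s (D.R i))⁻¹ = (θ w).toMul := fun i => by
    by_cases hi : i < 70
    · have m : ev s (D.L i) * (ev s (D.R i))⁻¹ ∈ N := (QuotientGroup.eq_one_iff _).1 (φ.injective (Subtype.ext (show π _ = _ by
        rw [map_mul, map_inv, (he _ (lt i hi).2.1).2, ← (lt i hi).2.2, ← (he _ (lt i hi).1).2, mul_inv_cancel, map_one]; rfl)))
      obtain ⟨w, e⟩ := hs' (Additive.ofMul ⟨_, m⟩)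
      exact ⟨w, fun _ => by rw [e]; rfl⟩
    · exact ⟨0, fun h => (hi h).elim⟩
  choose nn hn using this
  let x : ℕ → ZMod 2 := fun b => nn (b / 24) (pt (b % 24))
  let g : ℕ → E := fun i => if i < 11 then s i else (θ fun p => lam x (D.FT i (idx p))).toMul
  have gs : ∀ w : List ℕ, (∀ z ∈ w, z < 11) → ev g w = ev s w := fun w hw => TC.ev_congr fun z hz => if_pos (hw z hz)
  refine ⟨⟨π, fun w => (θ w).toMul, fun u w => by simp, hθ, fun w e c hc => M23X.dot_code (hcs c hc).1 (hcs c hc).2 ((hk w).1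
    (congrArg Additive.ofMul (Subtype.ext e : (θ w).toMul = 1))), x, g, fun y hy => by simpa only [g, if_pos hy] using hs y hy, fun i p q => ?_,
    fun i p _ => if_neg (not_lt.2 p)⟩, fun _ => rfl, fun _ => rfl⟩
  rw [gs _ (lt i q).1, gs _ (lt i q).2.1, ← mul_inv_eq_iff_eq_mul, hn i q]
  simp only [g, if_neg (not_lt.2 p)]
  refine congrArg (fun w => ((θ w).toMul : E)) (funext fun p => ?_)
  have := H6.idx_lt p
  rw [Nat.eq_of_beq_eq_true (allN_spec (allN_spec h3 i q) _ this), lam_pow x (by omega)]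
  simp only [x, show (24 * i + idx p) / 24 = i by omega, show (24 * i + idx p) % 24 = idx p by omega, pt_idx]

end H0.H2P
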