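import Cfsg.Agent.H0.H2P

namespace H0.H2P
open BN Subgroup Cfsg H6 Matrix
open H2M hiding lam lam_xor lam_zero lam_pow lam_lin lam_cor Ctx ctx
variable {E : Type*} [Group E]

theorem fin2 [Finite E] {D : Dat} {W} {Wl : List (List ℕ)} {ls} (z2 : pcOK Dat.l7 W = true) (z5 : Wl.all (·.all Dat.l7.contains) = true)
    (z6 : 128 ≤ chain ls (inL (Wl.map D.evI))) (f : E →* Spor.M23) (fs : Function.Surjective f) (sq : ∀ a ∈ f.ker, a * a = 1) {g' : ℕ → E}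
    (hs : ∀ y < 7, IsP (D.t y) ∧ ((f (g' y) : Equiv.Perm GolayPt))⁻¹ = P (D.t y)) (hE : ∀ e ∈ pcE 2 Dat.l7 W, ev g' e.1 = ev g' e.2) :
    ∃ H : Subgroup E, H ⊓ f.ker = ⊥ ∧ H ⊔ f.ker = ⊤ := by
  have c1 : Nat.card (gl g' Dat.l7) ≤ 128 := (card_le_list (pc_nf two_pos hE z2)).trans (nfW_len 2 _).le
  have c2 : 128 ≤ Nat.card ((gl g' Dat.l7).map f) := by
    have le : (gl g' Dat.l7).map (Spor.M23.subtype.comp f) ≤ M24 := by rintro _ ⟨e, -, rfl⟩; exact (f _).2.1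
    rw [← card_subtype, Subgroup.map_map, ← Nat.card_congr (subgroupOfEquivOfLe le).toEquiv]
    refine z6.trans ((ck_inL (List.forall_mem_map.2 fun w hw => ?_)).chain_le ls)
    have k := evI_ok (D := D) (π := Spor.M23.subtype.comp f) (s := g') (k := 7) hs w
      fun z hz => (by decide : ∀ z ∈ Dat.l7, z < 7) z (List.contains_iff_mem.1 (List.all_eq_true.1 (List.all_eq_true.1 z5 w hw) z hz))
    have m : P (D.evI w) ∈ (gl g' Dat.l7).map (Spor.M23.subtype.comp f) := k.2 ▸ inv_mem (mem_map_of_mem _ (mem_gl g' (List.all_eq_true.1 z5 w hw)))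
    exact ⟨⟨k.1, le m⟩, by rwa [mem_subgroupOf, Gd.coe ⟨k.1, le m⟩]⟩
  have c3 := (f.ker.subgroupOf (gl g' Dat.l7)).card_mul_index
  rw [show (f.ker.subgroupOf (gl g' Dat.l7)).index = Nat.card ((gl g' Dat.l7).map f) from relIndex_ker _ _] at c3
  have c4 : Nat.card (f.ker.subgroupOf (gl g' Dat.l7)) = 1 := by
    have := Nat.card_pos (α := f.ker.subgroupOf (gl g' Dat.l7))
    nlinarith
  have c5 := ((gl g' Dat.l7).map f).card_mul_index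
  rw [show Nat.card ((gl g' Dat.l7).map f) = 128 by rw [c4] at c3; omega,
    (Nat.card_congr (isoM23 (pt 23)).some.toEquiv).trans (card_stab1 _)] at c5
  have : IsMulCommutative f.ker := ⟨⟨fun a b => Subtype.ext (show (a * b : E) = b * a by
    rw [← inv_eq_of_mul_eq_one_left (sq _ (mul_mem a.2 b.2)), _root_.mul_inv_rev, inv_eq_of_mul_eq_one_left (sq _ a.2), inv_eq_of_mul_eq_one_left (sq _ b.2)])⟩⟩
  obtain ⟨n, d⟩ := IsPGroup.exists_card_eq (p := 2) (G := f.ker) fun a => ⟨1, Subtype.ext (by simpa [pow_two] using sq _ a.2)⟩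
  have d2 : (f.ker ⊔ gl g' Dat.l7).index ∣ 79695 := by
    rw [← index_map_eq (f.ker ⊔ gl g' Dat.l7) fs le_sup_left, ← show ((gl g' Dat.l7).map f).index = 79695 by omega]
    exact index_dvd_of_le (map_mono le_sup_right)
  obtain ⟨H, hH⟩ := H1.gaschutz_exists (K := f.ker) (U := f.ker ⊔ gl g' Dat.l7) (A := gl g' Dat.l7) le_sup_left
    (d ▸ Nat.Coprime.pow_left n (Nat.Coprime.coprime_dvd_right d2 (by norm_num)))
    (disjoint_iff.1 (subgroupOf_eq_bot.1 (card_eq_one.1 c4)).symm) rfl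
  exact ⟨H, disjoint_iff.1 hH.disjoint.symm, (sup_comm H _).trans hH.sup_eq_top⟩

structure Ext (E : Type*) [Group E] where
  f : E →* Spor.M23
  T : Wd → E
  fs : Function.Surjective f
  add : ∀ u w, T (u + w) = T u * T w
  hT : ∀ g w, T (w ∘ ⇑(f g : Equiv.Perm GolayPt)⁻¹) = g * T w * g⁻¹
  ker : ∀ a, a ∈ f.ker ↔ ∃ w, T w = a
  hk : ∀ w, T w = 1 ↔ (w ∈ golayCode ∨ w + Pi.single none 1 ∈ golayCode)

theorem Ext.sq (X : Ext E) (w) : X.T w * X.T w = 1 := by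
  rw [← X.add, show w + w = 0 from funext fun p => CharTwo.add_self_eq_zero (w p), X.hk]; exact .inl (zero_mem _)

/-- the fibre product -/
theorem graph {E' : Type*} [Group E'] [Finite E] [Finite E'] (X : Ext E) (Y : Ext E') {H : Subgroup (E × E')} (h0 : ∀ p ∈ H, X.f p.1 = Y.f p.2)
    (h1 : ∀ w, (X.T w, Y.T w) ∈ H) (h2 : ∀ p ∈ H, X.f p.1 = 1 → ∃ w, p = (X.T w, Y.T w)) (h3 : ∀ m, ∃ p ∈ H, X.f p.1 = m) :
    Function.Bijective ((MonoidHom.fst E E').comp H.subtype) := by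
  refine ⟨(injective_iff_map_eq_one _).2 fun p (e : p.1.1 = 1) => ?_, fun e => ?_⟩
  · obtain ⟨w, k⟩ := h2 _ p.2 (by rw [e, map_one])
    rw [k] at e
    exact Subtype.ext (k.trans (Prod.ext e ((Y.hk w).2 ((X.hk w).1 e))))
  · obtain ⟨p, hp, k⟩ := h3 (X.f e)
    obtain ⟨w, q⟩ := (X.ker (e * p.1⁻¹)).1 (by simp [k])
    exact ⟨⟨_, mul_mem (h1 w) hp⟩, by simp [q]⟩

theorem uniq {E' : Type*} [Group E'] [Finite E] [Finite E'] {D : Dat} {W} {Wl : List (List ℕ)} {ls} (z2 : pcOK Dat.l7 W = true)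
    (z5 : Wl.all (·.all Dat.l7.contains) = true) (z6 : 128 ≤ chain ls (inL (Wl.map D.evI))) (X : Ext E) (Y : Ext E') {g : ℕ → E} {g' : ℕ → E'}
    (hs : ∀ y < 7, IsP (D.t y) ∧ ((X.f (g y) : Equiv.Perm GolayPt))⁻¹ = P (D.t y)) (hs' : ∀ y < 7, ((Y.f (g' y) : Equiv.Perm GolayPt))⁻¹ = P (D.t y))
    (hE : ∀ e ∈ pcE 2 Dat.l7 W, (∀ z ∈ e.1 ++ e.2, z < 7) ∧ ∃ w, ev g e.1 = X.T w * ev g e.2 ∧ ev g' e.1 = Y.T w * ev g' e.2) : Nonempty (E ≃* E') := by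
  let Q : Subgroup (E × E') := (X.f.comp (MonoidHom.fst E E')).eqLocus (Y.f.comp (MonoidHom.snd E E'))
  have tq : ∀ w, (X.T w, Y.T w) ∈ Q := fun w => (((X.ker _).2 ⟨w, rfl⟩ : X.f _ = 1).trans (((Y.ker _).2 ⟨w, rfl⟩ : Y.f _ = 1).symm))
  let Δ : Subgroup Q := ⟨⟨⟨{p | ∃ w, p.1 = (X.T w, Y.T w)}, by
      rintro a b ⟨u, hu⟩ ⟨w, hw⟩; exact ⟨u + w, by rw [Subgroup.coe_mul, hu, hw, X.add, Y.add]; rfl⟩⟩,
      0, (Prod.ext ((X.hk 0).2 (.inl (zero_mem _))) ((Y.hk 0).2 (.inl (zero_mem _)))).symm⟩, by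
      rintro a ⟨w, hw⟩; exact ⟨w, by rw [Subgroup.coe_inv, hw]; exact inv_eq_of_mul_eq_one_left (Prod.ext (X.sq w) (Y.sq w))⟩⟩
  have : Δ.Normal := ⟨by
    rintro a ⟨w, hw⟩ p
    exact ⟨w ∘ ⇑(X.f p.1.1 : Equiv.Perm GolayPt)⁻¹, by
      rw [Subgroup.coe_mul, Subgroup.coe_mul, hw, X.hT, show X.f p.1.1 = Y.f p.1.2 from p.2, Y.hT]; rfl⟩⟩
  let f0 : Q →* Spor.M23 := (X.f.comp (MonoidHom.fst E E')).comp Q.subtype
  let f : Q ⧸ Δ →* Spor.M23 := QuotientGroup.lift Δ f0 (by rintro a ⟨w, hw⟩; show X.f a.1.1 = 1; rw [hw]; exact (X.ker _).2 ⟨w, rfl⟩)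
  have f0s : Function.Surjective f0 := fun m => by
    obtain ⟨a, ha⟩ := X.fs m
    obtain ⟨b, hb⟩ := Y.fs m
    exact ⟨⟨(a, b), ha.trans hb.symm⟩, ha⟩
  let q : ℕ → Q := fun y => if h : y < 7 then ⟨(g y, g' y), Subtype.ext (inv_injective ((hs y h).2.trans (hs' y h).symm))⟩ else 1
  have qe : ∀ w : List ℕ, (∀ z ∈ w, z < 7) → (ev q w).1 = (ev g w, ev g' w) := fun w hw => by
    induction w with
    | nil => rfl
    | cons x w ih => rw [ev_cons, Subgroup.coe_mul, ih fun z hz => hw z (List.mem_cons_of_mem _ hz)]; simp [q, hw x]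
  obtain ⟨H, k1, k2⟩ := fin2 z2 z5 z6 f (fun m => (f0s m).imp' QuotientGroup.mk fun _ e => e) (fun a ha => by
      obtain ⟨p, rfl⟩ := QuotientGroup.mk_surjective a
      obtain ⟨u, hu⟩ := (X.ker p.1.1).1 ha
      obtain ⟨w, hw⟩ := (Y.ker p.1.2).1 ((p.2 : X.f _ = Y.f _).symm.trans ha)
      rw [← QuotientGroup.mk_mul, show p * p = 1 from Subtype.ext (Prod.ext (hu ▸ X.sq u : p.1.1 * p.1.1 = 1) (hw ▸ Y.sq w : p.1.2 * p.1.2 = 1))]; rfl)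
    (g' := fun y => (q y : Q ⧸ Δ)) (fun y hy => by simpa [q, hy, f, f0] using hs y hy) fun e he => by
      obtain ⟨a, w, b, c⟩ := hE e he
      rw [List.forall_mem_append] at a
      refine (map_ev (QuotientGroup.mk' Δ) q _).symm.trans (Eq.trans ?_ (map_ev (QuotientGroup.mk' Δ) q _))
      rw [show ev q e.1 = ⟨_, tq w⟩ * ev q e.2 from Subtype.ext (by rw [Subgroup.coe_mul, qe _ a.1, qe _ a.2, b, c]; rfl), map_mul,
        show QuotientGroup.mk' Δ ⟨_, tq w⟩ = 1 from (QuotientGroup.eq_one_iff _).2 ⟨w, rfl⟩, one_mul]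
  let K := (H.comap (QuotientGroup.mk' Δ)).map Q.subtype
  have h0 : ∀ p ∈ K, X.f p.1 = Y.f p.2 := by rintro _ ⟨p, -, rfl⟩; exact p.2
  have h1 : ∀ w, (X.T w, Y.T w) ∈ K := fun w => ⟨⟨_, tq w⟩, by
    rw [SetLike.mem_coe, mem_comap, show QuotientGroup.mk' Δ ⟨_, tq w⟩ = 1 from (QuotientGroup.eq_one_iff _).2 ⟨w, rfl⟩]; exact one_mem _, rfl⟩
  have h2 : ∀ p ∈ K, X.f p.1 = 1 → ∃ w, p = (X.T w, Y.T w) := by
    rintro _ ⟨p, hp, rfl⟩ e
    exact (QuotientGroup.eq_one_iff p).1 (mem_bot.1 (k1.le (⟨hp, e⟩ : (p : Q ⧸ Δ) ∈ H ⊓ f.ker)))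
  have h3 : ∀ m, ∃ p ∈ K, X.f p.1 = m := fun m => by
    obtain ⟨a, rfl⟩ := f0s m
    obtain ⟨h, hh, n, hn, e⟩ := mem_sup_of_normal_right.1 (k2 ▸ mem_top (a : Q ⧸ Δ) : (a : Q ⧸ Δ) ∈ H ⊔ f.ker)
    obtain ⟨p, rfl⟩ := QuotientGroup.mk_surjective h
    exact ⟨p.1, ⟨p, hh, rfl⟩, by simpa [show f n = 1 from hn, f, f0] using congrArg f e⟩
  have b2 := graph Y X (H := K.map (MulEquiv.prodComm : E × E' ≃* E' × E).toMonoidHom) (by rintro _ ⟨p, hp, rfl⟩; exact (h0 p hp).symm)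
    (fun w => ⟨_, h1 w, rfl⟩) (by rintro _ ⟨p, hp, rfl⟩ e; exact (h2 p hp ((h0 p hp).trans e)).imp fun w e => by rw [e]; rfl)
    fun m => (h3 m).elim fun p hp => ⟨_, ⟨p, hp.1, rfl⟩, (h0 p hp.1).symm.trans hp.2⟩
  exact ⟨((MulEquiv.ofBijective _ (graph X Y h0 h1 h2 h3)).symm.trans (K.equivMapOfInjective _ (MulEquiv.injective _))).trans (MulEquiv.ofBijective _ b2)⟩

theorem key [Finite E] {D : Dat} {cs : List ℕ} (h : fin D cs = true) (hcs : ∀ c ∈ cs, (∀ j < 24, decW c ⬝ᵥ decW (lane 24 qrTab j) = 0) ∧ decW c none = 0)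
    (hH : D.okH Dat.l7 = true) {TA : List (ℕ × ℕ × List ℕ)} {TB : List (ℕ × List ℕ × List ℕ × List ℕ)} {Z W ε} {MU : List (List ℕ × ℕ × List (ℕ × ℕ))}
    {Wl : List (List ℕ)} {ls} (hA : ∀ T ∈ TA, tA D cs T = true) (hB : ∀ T ∈ TB, tB D cs T = true) (hC : ∀ T ∈ (pcE 2 Dat.l7 W).zip MU, tC D Z ε T = true)
    (hZ : Z = TA.flatMap (·.2.2) ++ TB.flatMap (·.2.2.2)) (z3 : (pcE 2 Dat.l7 W).length = MU.length) (z2 : pcOK Dat.l7 W = true)
    (z5 : Wl.all (·.all Dat.l7.contains) = true) (z6 : 128 ≤ chain ls (inL (Wl.map D.evI)))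
    (N : Subgroup E) [hN : N.Normal] (φ : E ⧸ N ≃* ↥Spor.M23) (θ : Wd →+ Additive ↥N)
    (hs' : Function.Surjective θ) (hk : ∀ w : Wd, θ w = 0 ↔ (w ∈ golayCode ∨ w + Pi.single none 1 ∈ golayCode))
    (hθ : ∀ (g : E) (w : Wd), ((θ (w ∘ ⇑(((φ (QuotientGroup.mk g) : ↥Spor.M23) : Equiv.Perm GolayPt)⁻¹))).toMul : E) = g * ((θ w).toMul : E) * g⁻¹)
    (hns : ∀ H : Subgroup E, H ⊓ N = ⊥ → H ⊔ N ≠ ⊤) : ∃ (X : Ext E) (g : ℕ → E), (∀ y < 7, IsP (D.t y) ∧ ((X.f (g y) : Equiv.Perm GolayPt))⁻¹ = P (D.t y)) ∧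
      ∀ T ∈ (pcE 2 Dat.l7 W).zip MU, ev g T.1.1 = X.T (decW T.2.2.1) * ev g T.1.2 := by
  obtain ⟨C, hT, hπ⟩ := ctx D h hcs N φ θ hs' hk hθ
  let f : E →* Spor.M23 := φ.toMonoidHom.comp (QuotientGroup.mk' _)
  have fk : f.ker = N := by ext; simp [f]
  have k1 : ∀ w, C.T w = 1 ↔ θ w = 0 := fun w => by
    rw [hT]; exact ⟨fun e => congrArg Additive.ofMul (Subtype.ext e : (θ w).toMul = 1), fun e => by rw [e]; rfl⟩
  let X : Ext E := ⟨f, C.T, φ.surjective.comp QuotientGroup.mk_surjective, C.add, fun g w => by rw [hT, hT]; exact hθ g w,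
    fun a => fk ▸ ⟨fun ha => (hs' (Additive.ofMul ⟨a, ha⟩)).imp fun w e => by rw [hT, e]; rfl, fun ⟨w, e⟩ => by rw [← e, hT]; exact (θ w).toMul.2⟩,
    fun w => (k1 w).trans (hk w)⟩
  have hs : ∀ y < 7, IsP (D.t y) ∧ ((f (C.g (70 + y) * C.g y) : Equiv.Perm GolayPt))⁻¹ = P (D.t y) := fun y hy => by
    rw [map_mul, C.hF _ (by omega) (by omega), ((X.ker _).2 ⟨_, rfl⟩ : f _ = 1), one_mul]
    exact hπ _ ▸ C.hg y (by omega)
  have hE := fun T hT => Ctx.tC_ok (C := C) hH (fun c hc a => (X.hk _).2 (by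
    rcases zmod2_cases a with rfl | rfl
    · exact .inl (by simp)
    · rw [one_smul]
      rcases Bool.or_eq_true_iff.1 hc with e | e
      · obtain ⟨n, c, d⟩ := isCw_iff.1 e
        exact .inl (d ▸ cw_mem c)
      · rw [Nat.eq_of_beq_eq_true e, show decW (2 ^ 23) + Pi.single none 1 = 0 by decide +kernel]; exact .inr (zero_mem _))) (by
    simp only [hZ, List.forall_mem_append, List.forall_mem_flatMap]
    exact ⟨fun T hT => Ctx.tA_ok hH (hA T hT), fun T hT => Ctx.tB_ok hH (hB T hT)⟩) (hC T hT)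
  rcases zmod2_cases (lam C.x ε) with e | e
  · obtain ⟨H, a, b⟩ := fin2 z2 z5 z6 f X.fs (fun a ha => by obtain ⟨w, rfl⟩ := (X.ker a).1 ha; exact X.sq w) hs fun e' he => by
      obtain ⟨i, hi, rfl⟩ := List.getElem_of_mem he
      simpa [e, C.T0] using hE (_, MU[i]'(z3 ▸ hi)) (List.mem_iff_getElem.2 ⟨i, by simp [← z3, hi], List.getElem_zip⟩)
    exact (hns H (fk ▸ a) (fk ▸ b)).elim
  · exact ⟨X, _, hs, fun T hT => by simpa [e] using hE T hT⟩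

end H0.H2P
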