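import Cfsg.Agent.H0.Cover
import Cfsg.Agent.H0.Sym
import Cfsg.Agent.H0.ML29.Main
import Cfsg.Agent.H0.MA7.Main
namespace H0.IA67
open H0
def a0 : alternatingGroup (Fin 6) := ⟨⟨![1, 0, 2, 5, 4, 3], ![1, 0, 2, 5, 4, 3], by decide, by decide⟩, Equiv.Perm.mem_alternatingGroup.2 (by decide +kernel)⟩
def a1 : alternatingGroup (Fin 6) := ⟨⟨![2, 5, 0, 4, 1, 3], ![2, 4, 0, 5, 3, 1], by decide, by decide⟩, Equiv.Perm.mem_alternatingGroup.2 (by decide +kernel)⟩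
def a2 : alternatingGroup (Fin 6) := ⟨⟨![2, 4, 0, 5, 3, 1], ![2, 5, 0, 4, 1, 3], by decide, by decide⟩, Equiv.Perm.mem_alternatingGroup.2 (by decide +kernel)⟩
def a3 : alternatingGroup (Fin 6) := ⟨⟨![3, 4, 2, 0, 1, 5], ![3, 4, 2, 0, 1, 5], by decide, by decide⟩, Equiv.Perm.mem_alternatingGroup.2 (by decide +kernel)⟩
def a4 : alternatingGroup (Fin 6) := ⟨⟨![1, 0, 3, 4, 5, 2], ![1, 0, 5, 2, 3, 4], by decide, by decide⟩, Equiv.Perm.mem_alternatingGroup.2 (by decide +kernel)⟩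
def a5 : alternatingGroup (Fin 6) := ⟨⟨![1, 0, 5, 2, 3, 4], ![1, 0, 3, 4, 5, 2], by decide, by decide⟩, Equiv.Perm.mem_alternatingGroup.2 (by decide +kernel)⟩
def a6 : alternatingGroup (Fin 6) := ⟨⟨![2, 5, 3, 4, 0, 1], ![4, 5, 0, 2, 3, 1], by decide, by decide⟩, Equiv.Perm.mem_alternatingGroup.2 (by decide +kernel)⟩
def a7 : alternatingGroup (Fin 6) := ⟨⟨![4, 5, 0, 2, 3, 1], ![2, 5, 3, 4, 0, 1], by decide, by decide⟩, Equiv.Perm.mem_alternatingGroup.2 (by decide +kernel)⟩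
def a (x : ℕ) : alternatingGroup (Fin 6) := [a0, a1, a2, a3, a4, a5, a6, a7].getD x 1
theorem iso6 : Nonempty (PG 8 H0.ML29.B ≃* alternatingGroup (Fin 6)) :=
  iso_of_card a (by decide +kernel) (by decide +kernel) (H0.ML29.simple (Pres.pg 8 H0.ML29.B)) (x := 0) (by decide) (by decide +kernel)
    (H0.ML29.card (Pres.pg 8 H0.ML29.B)) ((card_alt 4).trans (by decide)) (by decide)
def b0 : alternatingGroup (Fin 7) := ⟨⟨![6, 2, 4, 0, 1, 5, 3], ![3, 4, 1, 6, 2, 5, 0], by decide, by decide⟩, Equiv.Perm.mem_alternatingGroup.2 (by decide +kernel)⟩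
def b1 : alternatingGroup (Fin 7) := ⟨⟨![3, 4, 1, 6, 2, 5, 0], ![6, 2, 4, 0, 1, 5, 3], by decide, by decide⟩, Equiv.Perm.mem_alternatingGroup.2 (by decide +kernel)⟩
def b2 : alternatingGroup (Fin 7) := ⟨⟨![0, 4, 3, 1, 5, 2, 6], ![0, 3, 5, 2, 1, 4, 6], by decide, by decide⟩, Equiv.Perm.mem_alternatingGroup.2 (by decide +kernel)⟩
def b3 : alternatingGroup (Fin 7) := ⟨⟨![0, 3, 5, 2, 1, 4, 6], ![0, 4, 3, 1, 5, 2, 6], by decide, by decide⟩, Equiv.Perm.mem_alternatingGroup.2 (by decide +kernel)⟩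
def b4 : alternatingGroup (Fin 7) := ⟨⟨![0, 3, 5, 2, 1, 4, 6], ![0, 4, 3, 1, 5, 2, 6], by decide, by decide⟩, Equiv.Perm.mem_alternatingGroup.2 (by decide +kernel)⟩
def b5 : alternatingGroup (Fin 7) := ⟨⟨![0, 4, 3, 1, 5, 2, 6], ![0, 3, 5, 2, 1, 4, 6], by decide, by decide⟩, Equiv.Perm.mem_alternatingGroup.2 (by decide +kernel)⟩
def b6 : alternatingGroup (Fin 7) := ⟨⟨![0, 5, 4, 3, 6, 2, 1], ![0, 6, 5, 3, 2, 1, 4], by decide, by decide⟩, Equiv.Perm.mem_alternatingGroup.2 (by decide +kernel)⟩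
def b7 : alternatingGroup (Fin 7) := ⟨⟨![0, 6, 5, 3, 2, 1, 4], ![0, 5, 4, 3, 6, 2, 1], by decide, by decide⟩, Equiv.Perm.mem_alternatingGroup.2 (by decide +kernel)⟩
def b8 : alternatingGroup (Fin 7) := ⟨⟨![0, 1, 3, 2, 4, 6, 5], ![0, 1, 3, 2, 4, 6, 5], by decide, by decide⟩, Equiv.Perm.mem_alternatingGroup.2 (by decide +kernel)⟩
def b9 : alternatingGroup (Fin 7) := ⟨⟨![0, 1, 4, 2, 6, 3, 5], ![0, 1, 3, 5, 2, 6, 4], by decide, by decide⟩, Equiv.Perm.mem_alternatingGroup.2 (by decide +kernel)⟩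
def b10 : alternatingGroup (Fin 7) := ⟨⟨![0, 1, 3, 5, 2, 6, 4], ![0, 1, 4, 2, 6, 3, 5], by decide, by decide⟩, Equiv.Perm.mem_alternatingGroup.2 (by decide +kernel)⟩
def b11 : alternatingGroup (Fin 7) := ⟨⟨![0, 1, 2, 5, 6, 3, 4], ![0, 1, 2, 5, 6, 3, 4], by decide, by decide⟩, Equiv.Perm.mem_alternatingGroup.2 (by decide +kernel)⟩
def b12 : alternatingGroup (Fin 7) := ⟨⟨![0, 1, 2, 6, 3, 5, 4], ![0, 1, 2, 4, 6, 5, 3], by decide, by decide⟩, Equiv.Perm.mem_alternatingGroup.2 (by decide +kernel)⟩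
def b13 : alternatingGroup (Fin 7) := ⟨⟨![0, 1, 2, 4, 6, 5, 3], ![0, 1, 2, 6, 3, 5, 4], by decide, by decide⟩, Equiv.Perm.mem_alternatingGroup.2 (by decide +kernel)⟩
def b14 : alternatingGroup (Fin 7) := ⟨⟨![0, 1, 2, 3, 5, 6, 4], ![0, 1, 2, 3, 6, 4, 5], by decide, by decide⟩, Equiv.Perm.mem_alternatingGroup.2 (by decide +kernel)⟩
def b15 : alternatingGroup (Fin 7) := ⟨⟨![0, 1, 2, 3, 6, 4, 5], ![0, 1, 2, 3, 5, 6, 4], by decide, by decide⟩, Equiv.Perm.mem_alternatingGroup.2 (by decide +kernel)⟩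
def b (x : ℕ) : alternatingGroup (Fin 7) := [b0, b1, b2, b3, b4, b5, b6, b7, b8, b9, b10, b11, b12, b13, b14, b15].getD x 1
theorem iso7 : Nonempty (PG 16 H0.MA7.B ≃* alternatingGroup (Fin 7)) :=
  iso_of_card b (by decide +kernel) (by decide +kernel) (H0.MA7.simple (Pres.pg 16 H0.MA7.B)) (x := 0) (by decide) (by decide +kernel)
    (H0.MA7.card (Pres.pg 16 H0.MA7.B)) ((card_alt 5).trans (by decide)) (by decide)
end H0.IA67
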