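import Cfsg.Agent.H0.Gl2
import Cfsg.Agent.H0.MU33.Main
import Cfsg.Agent.S1059
import Cfsg.Agent.H0.MatF
set_option maxRecDepth 100000
set_option Elab.async false
namespace H0.IG22
open Cfsg BN Matrix

noncomputable def C := ((mc2 (ZMod 2) 14 0x4001000400100040010004001000400100040010004001 0x8001000200040008001000200040008001000200040008001 (by decide +kernel) (by decide +kernel)).reix (finSumFinEquiv (m := 2) (n := 12) : Lie.chevG2.Idx ≃ Fin (2 + 12)))
theorem hC : Rd (rc2 (ZMod 2)) (finSumFinEquiv (m := 2) (n := 12) : Lie.chevG2.Idx ≃ Fin (2 + 12)) C := (rd_2 _)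

def c : List ℕ := [0x800100020004000800100420004020804100422006000a001, 0xbeed2bb23e442b0a40154021004c0090014002000400f8029, 0x912122420460404080100020240048008008001000200c001, 0xc0010002000600080318102008600080210423c0844209001, 0x2e1f6e7641ffa5a3dd00bbbd4b8d3fac6bdbe92a40a4d6b9, 0x9521f6e58dff2e74a377702e316b7fe89b8dbe9d00250dd69, 0x40020002000200100108084008202100610c21b10b800f001, 0xd9b01811e37ffc07b6bd4003331b06746b7ef7c1f91a7817e, 0x77df777fa8e866c39bcf9dbe9ab520d50a048912a4f961a03, 0x7d41f901a06af1aefdbef4008dd23e429048fd2bbf64c0ba, 0x4a936fafb3f4fe1872eef06378600784781c604181d9b70e3]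
def ds : List (List ℕ) := [[1, 0, 2, 2, 1, 0, 1, 2, 0], [2, 1, 1, 0, 2, 2, 1, 1, 0, 2], [4, 4, 4, 4, 4], [5, 3, 4], [3, 4, 3, 5, 5, 3, 5, 3, 5], [7, 7, 7, 7, 7, 7, 7], [8, 8, 6, 8], [9, 9, 9, 9, 9, 9, 9]]
theorem e1 : Ex (ιG (Lie.chevG2.group (ZMod 2))) C 0x80010002000400080210002008400080210402c0844009001 :=
  ex_chev hC 1 (by decide +kernel) ⟨1, by decide⟩ 1 _ 0x80010002000400080210002008400080210402c0844009001 (by decide +kernel) (by decide +kernel)
theorem e2 : Ex (ιG (Lie.chevG2.group (ZMod 2))) C 0x8001000200240048001000202040408081191212242008001 :=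
  ex_chev hC 1 (by decide +kernel) ⟨2, by decide⟩ 1 _ 0x8001000200240048001000202040408081191212242008001 (by decide +kernel) (by decide +kernel)
theorem e5 : Ex (ιG (Lie.chevG2.group (ZMod 2))) C 0x80030002000400180010006040400180010002000c0408001 :=
  ex_chev hC 1 (by decide +kernel) ⟨5, by decide⟩ 1 _ 0x80030002000400180010006040400180010002000c0408001 (by decide +kernel) (by decide +kernel)
theorem e6 : Ex (ιG (Lie.chevG2.group (ZMod 2))) C 0xc001000200060008001810200060008001000300040208001 :=
  ex_chev hC 1 (by decide +kernel) ⟨6, by decide⟩ 1 _ 0xc001000200060008001810200060008001000300040208001 (by decide +kernel) (by decide +kernel)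
theorem e7 : Ex (ιG (Lie.chevG2.group (ZMod 2))) C 0x8001d002400500090810002e004000a001800200040008041 :=
  ex_chev hC 1 (by decide +kernel) ⟨7, by decide⟩ 1 _ 0x8001d002400500090810002e004000a001800200040008041 (by decide +kernel) (by decide +kernel)
theorem e9 : Ex (ιG (Lie.chevG2.group (ZMod 2))) C 0x9121224204440808101000200048009001000200040048001 :=
  ex_chev hC 1 (by decide +kernel) ⟨9, by decide⟩ 1 _ 0x9121224204440808101000200048009001000200040048001 (by decide +kernel) (by decide +kernel)
noncomputable def ι := (ιG (Lie.chevG2.group (ZMod 2))).comp (commutator _).subtype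
theorem hι : Function.Injective ι := (inj_comm ιG_inj)
theorem ex : ∀ x < 3, Ex ι C (c.getD x C.one) := (ex_step (ex_step (ex_step ex_nil (Ex.comm e1 e5 0x80010002000400080210002008400080210402c0844009001 0x80030002000400180010006040400180010002000c0408001 (c := 0x800100020004000800100420004020804100422006000a001) (by decide +kernel)) (by decide +kernel)) (Ex.comm e6 e7 0xc001000200060008001810200060008001000300040208001 0x8001d002400500090810002e004000a001800200040008041 (c := 0xbeed2bb23e442b0a40154021004c0090014002000400f8029) (by decide +kernel)) (by decide +kernel)) (Ex.comm e9 e2 0x9121224204440808101000200048009001000200040048001 0x8001000200240048001000202040408081191212242008001 (c := 0x912122420460404080100020240048008008001000200c001) (by decide +kernel)) (by decide +kernel))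
noncomputable def g := gOf ι C c ds 3 ex
theorem cod : C.Cod ι g c := cod_gOf (by decide +kernel)
theorem rel : ∀ w ∈ MU33.B.map (sh 3), ev g w = 1 := (H0.all_take_done (H0.all_take_step (H0.all_take_zero _ (MU33.B.map (sh 3))) (C.rel_one hι cod (W := ((MU33.B.map (sh 3)).drop 0).take 34) (by decide +kernel))) (by decide +kernel))
theorem iso : Nonempty (PG 8 MU33.B ≃* commutator (Lie.chevG2.group (ZMod 2))) :=
  (iso_comm _ (pgHom_inj (f := fun x => g (3 + x)) (h := rels_sh rel) (hB := by decide +kernel) (MU33.simple (Pres.pg _ _)) (x := 0) (by decide)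
    (by simpa using C.ne_of cod (u := [3]) (v := []) (by decide +kernel))) (MU33.card (Pres.pg _ _))
    ((Cfsg.Agent.S1059.result (ZMod.card 2)).trans (by decide +kernel)) (by decide)).1
end H0.IG22
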