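import Cfsg.Agent.H0.CenI
import Cfsg.Agent.H0.MHZ.Main
import Cfsg.Agent.S0445
set_option maxRecDepth 100000
namespace H0.IHZ
open Cfsg BN Matrix
noncomputable def C := (mc2 (ZMod 2) 5 0x108421 0x1041041 (by decide +kernel) (by decide +kernel))
def c : List ℕ := [0x1043041, 0x10c1041, 0x1441041, 0x1041045, 0x1041841, 0x1a4104b, 0xa25841, 0xe92041, 0x1045051, 0x14c2051, 0xc2704d, 0x10c3041, 0x10c7041, 0x1883051, 0x8c7049, 0x1041049, 0x1043049, 0x1843049, 0x1041043]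
def ds : List (List ℕ) := [[0, 3, 2, 4, 0, 3, 2, 4], [2, 4, 1, 3, 3, 0, 2, 1, 0, 1, 1], [6, 6, 6, 6, 6, 6], [6, 5, 7], [5, 7, 5], [9, 9, 9, 9, 9, 9], [10, 8, 9, 8, 10], [11, 11, 11], [10, 10, 8, 10, 10, 10, 8, 10], [13, 13], [12, 13, 12, 13], [11, 13, 11, 13], [11, 14, 12, 13, 11], [10, 6, 10, 6]]
noncomputable def ι := ιSL (Fin 5) (ZMod 2)
theorem ex : ∀ x < 5, Ex ι C (c.getD x C.one) := ex_all (ex_SL C 2 (by decide)) (by decide +kernel)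
noncomputable def g := gOf ι C c ds 5 ex
theorem cod : C.Cod ι g c := cod_gOf (by decide +kernel)
theorem rel : ∀ w ∈ MHZ.B.map (sh 5), ev g w = 1 := C.rel_one ιSL_inj cod (by decide +kernel)
noncomputable def ψ : PG 13 MHZ.B →* SpecialLinearGroup (Fin 5) (ZMod 2) := pgHom _ (rels_sh rel) (by decide +kernel)
theorem inj : Function.Injective ψ := Function.Injective.of_comp (f := ι) ((MHZ.m (Pres.pg 13 MHZ.B)).inj_of_vec (off := 5) (MHZ.top _) (MHZ.base _) (ι.comp ψ) C (c := c)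
  [0x20, 0x420, 0x100420, 0x108420, 0x108020, 0x8420, 0x108421, 0x8020, 0x8421, 0x108021, 0x8021, 0x100421, 0x100020, 0x100021, 0x421, 0x21] 0 [[13, 11, 14, 3, 4, 5, 6, 7, 8, 9, 10, 1, 15, 0, 2, 12], [2, 4, 3, 5, 0, 7, 8, 1, 10, 15, 14, 6, 12, 13, 9, 11], [4, 7, 0, 2, 1, 3, 11, 5, 6, 14, 8, 15, 12, 13, 10, 9], [0, 1, 13, 9, 6, 5, 4, 7, 8, 3, 10, 12, 11, 2, 14, 15], [0, 12, 10, 14, 11, 3, 1, 5, 6, 2, 8, 7, 9, 4, 13, 15], [0, 6, 9, 5, 13, 7, 8, 11, 10, 12, 2, 4, 1, 14, 3, 15], [0, 1, 3, 12, 2, 7, 13, 5, 10, 11, 8, 6, 4, 9, 14, 15], [0, 1, 4, 2, 12, 7, 11, 5, 10, 13, 8, 9, 3, 6, 14, 15], [0, 1, 6, 10, 8, 12, 7, 2, 13, 5, 11, 3, 9, 4, 14, 15], [0, 1, 7, 11, 13, 9, 2, 6, 4, 12, 3, 10, 5, 8, 14, 15], [0, 1, 2, 6, 9, 8, 3, 10, 5, 4, 7, 11, 12, 13, 14, 15], [0, 1, 2, 9, 6, 10, 4, 8, 7, 3, 5, 11, 12, 13, 14, 15], [0, 1, 2, 10, 8, 9, 7, 6, 4, 5, 3,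 11, 12, 13, 14, 15]]
  (fun x hx => by
    rw [MHZ.g_eq _ hx, MonoidHom.comp_apply, ψ, pgHom_of hx]; exact cod _ (by show _ < 19; omega))
  (Model.via _ (MHZ.mR _) (fun R => vecB C R _ _ _ _ _ _ _) (by decide +kernel)))
theorem iso (s : SpecialLinearGroup (Fin 5) (ZMod 2)) (hs : (s : Matrix (Fin 5) (Fin 5) (ZMod 2)) = Matrix.transvection 0 1 1) :
    Nonempty (PG 13 MHZ.B ≃* Subgroup.centralizer {s}) := by
  refine iso_of_le ?_ ⟨MonoidHom.ofInjective inj⟩ (MHZ.card (Pres.pg 13 MHZ.B)) (Cfsg.Agent.S0445.result s hs) (by decide)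
  have e : s = g 18 := ιSL_inj ((hs.trans (by decide +kernel)).trans (cod 18 (by decide)).symm)
  rw [e, ψ, pgHom_range, gen_sh]
  exact gen_le_cent (C.pairs ιSL_inj cod (by decide +kernel))
end H0.IHZ
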