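import Cfsg.Agent.H0.MatG
import Cfsg.Agent.H0.MJ1.Main
import Cfsg.Prelude.Def_Spor_J1
set_option maxRecDepth 100000
namespace H0.IJ1
open Cfsg Spor
noncomputable def C := mcRC (H6.rcZ 11 4 (by decide)) 7
def c : List ℕ := [0x1100000001000000010000000100000001000000010, 0x13119333119331aa288a8a288a8a288a8aa33131198a8aa28, 0x702500003001822054000504900001003a10800a280200183, 0x956483153928195275916795a559339512231a69a2a269295, 0x955733a532931269759a6425a569889519231152a91969225, 0x938a81a33a8a128a31123a8119838a193811128818a233181, 0x1266488669759a93326a251969222532931279616528aa691, 0x16952222631578693939a672626a456991689a23698a22151, 0x855460a65629707706187436264622779834703717643257, 0xa07637867424655732745606703426273269169750784817]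
def ds : List (List ℕ) := [[1, 0, 0, 1, 0, 0, 1, 1, 1, 1, 1, 0, 0, 1, 0, 0, 1, 1, 1, 1, 1, 0, 0, 1, 0, 0, 1, 1, 1, 1, 1, 0, 0, 1, 0, 0, 1, 1, 1, 1, 1, 0, 0, 1, 0, 0, 1, 1, 1, 1], [1, 1, 1, 1, 1, 1, 0, 1, 0, 0, 0, 1, 0], [3, 3], [2, 3, 2, 4, 2, 3, 2, 4, 2], [2, 4, 2, 4, 2, 3, 2, 4, 2, 4, 2, 4], [6, 6, 6, 6, 6], [5, 7, 5, 6, 6, 6, 5], [8, 8, 8, 8]]
noncomputable def ι : J1 →* Matrix (Fin 7) (Fin 7) (ZMod 11) := (Units.coeHom _).comp J1.subtype
theorem hι : Function.Injective ι := Units.val_injective.comp Subtype.val_injective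
def t (x : ℕ) : J1 := if x = 0 then ⟨jankoX, Subgroup.subset_closure (by simp)⟩ else ⟨jankoY, Subgroup.subset_closure (by simp)⟩
noncomputable def g : ℕ → J1 := extG ds t 2
theorem h0 : ∀ x < 2, ι (t x) = C.val (c.getD x C.one) := fun x hx => by
  interval_cases x
  · show jankoMatrixX = (H6.rcZ 11 4 (by decide)).mat 7 _; decide +kernel
  · show jankoMatrixY = (H6.rcZ 11 4 (by decide)).mat 7 _; decide +kernel
theorem cod : C.Cod ι g c := C.cod_ext ι ds t 2 h0 (by decide +kernel)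
theorem rel : ∀ r ∈ MJ1.B, ev (fun x => g (2 + x)) r = 1 := rels_sh (H0.all_take_done (H0.all_take_step (H0.all_take_step (H0.all_take_zero _ (MJ1.B.map (sh 2))) (C.rel_one hι cod (W := ((MJ1.B.map (sh 2)).drop 0).take 47) (by decide +kernel))) (C.rel_one hι cod (W := ((MJ1.B.map (sh 2)).drop 47).take 12) (by decide +kernel))) (by decide +kernel))
theorem top : gen (fun x => g (2 + x)) (lets 8) = ⊤ := top_of_closure fun s hs => by
  rcases hs with rfl | rfl
  · exact C.mem_sh hι cod [3, 3, 2, 3, 3, 2, 5, 6, 5, 6, 6, 6, 8, 8, 8, 8] (h0 0 (by decide)) (by decide +kernel)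
  · exact C.mem_sh hι cod [2, 3, 2, 3, 2, 3, 2, 3, 3, 2, 3, 3, 2, 3, 2, 3, 2, 3, 3, 2, 3, 3, 2, 6, 5, 6, 6, 5, 6, 6, 8, 8, 8] (h0 1 (by decide)) (by decide +kernel)
theorem iso : Nonempty (PG 8 MJ1.B ≃* J1) :=
  iso_of_gen _ rel (by decide +kernel) (MJ1.simple (Pres.pg _ _)) (x := 0) (by decide)
    (by simpa using C.ne_of cod (u := [2]) (v := []) (by decide +kernel)) top
end H0.IJ1
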