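import Cfsg.Agent.H0.MatF
import Cfsg.Agent.H0.Emb
import Cfsg.Agent.H0.MJ3.Main
set_option maxRecDepth 100000
set_option Elab.async false
namespace H0.IJ3U
open Cfsg BN Matrix
noncomputable def C := (f4 9 0x1008040201008040201 0x100401004010040100401 81 (by decide +kernel) (by decide +kernel) (by decide +kernel))
def c : List ℕ := [0x17f091851e8f80984c360099b103a5e2446d304b1, 0x14b785c761def0888462d67cd75dce253d987f268, 0x104240800111000204850c40208401c044518043, 0x37bf8f7325dfafe9613a83964f7ccc677f28e662b, 0x25dd69ea7ca08ae3918d889b22d5b05b79b88ffdc, 0x28e18f277ac2a226749e4e4cbe2525045ecbff04b, 0x357e2b5938bd95956cbfc485fd14621445cfeb0ad, 0x14de3a33bcfa88baadedf505f823e62bee8e48a4f, 0x164875ea097c843373fe603fd81eab512937b6ec3,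 0x1856593fe7d93f37eab085f0b87adc22f72115ec2, 0x1f733da3f8503e6ed39d8d39e27589e8aa4cd6b6e, 0x13b1c0407347e0d185228e04450241afbaeec0509, 0x2341c61cd36c80c5c2f8bc92698ca013c70e17492, 0x26e5d208c3618658d588e3fab684ed87040e61b97, 0x18baa7aedc2c39bbf8d6fed8177a07ba727f2a408, 0x14de3a33bcfa88baadedf505f823e62bee8e48a4f, 0x20080200802008020080200000000000000000000]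
def ds : List (List ℕ) := [[1, 2], [2, 1, 0, 1], [4, 3, 3, 4, 3, 4, 3, 3, 4, 3, 4, 3, 4], [4, 3, 3, 4, 3, 4, 4, 3, 4, 4, 3, 3, 4, 3, 3], [5, 5, 5, 6, 5, 5, 5, 5, 6, 6, 5, 5, 5, 5], [3, 3, 3, 3, 4, 4, 3, 4, 4, 3, 3, 5, 5, 6, 6, 5, 6, 5, 5, 5, 6, 5, 5, 5], [4, 3, 4, 3, 3, 3, 3, 3, 3, 3, 3, 4, 4, 6, 5, 5, 5, 5, 6, 7], [9, 9], [9, 8, 10, 8, 9, 8, 9, 8, 10, 8, 9, 8, 10, 8, 10, 8, 9, 8, 10], [10, 8, 9, 8, 10, 8, 9, 8, 10, 8, 10, 8, 9, 8, 10, 8, 10, 8, 10], [12, 12, 12, 12, 12, 12, 12, 12, 12], [11, 13, 11, 12, 11, 12, 12, 11, 12, 11, 13, 11, 13], [14, 14, 14], [8, 8]]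
noncomputable def ι := ιSU 9 G4 2
theorem ex : ∀ x < 3, Ex ι C (c.getD x C.one) := (ex_step (a := 0x104240800111000204850c40208401c044518043) (ex_step (a := 0x14b785c761def0888462d67cd75dce253d987f268) (ex_step (a := 0x17f091851e8f80984c360099b103a5e2446d304b1) ex_nil ((ex_SU (R := r4) rd_refl 2 1 (by decide) (by decide) 0x8aebc16581a00dc4bb742eb01034f10d2812cf01 (by decide +kernel)).conv ((conv_f4 (by decide +kernel)))) (by decide +kernel)) ((ex_SU (R := r4) rd_refl 2 1 (by decide) (by decide) 0x19c37daf11db95bda54acbb2fd16160355d0e1668 (by decide +kernel)).conv ((conv_f4 (by decide +kernel)))) (by decide +kernel)) ((ex_SU (R := r4) rd_refl 2 1 (by decide) (by decide) 0x100d018020c0060100001d080901011034008300d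 (by decide +kernel)).conv ((conv_f4 (by decide +kernel)))) (by decide +kernel))
noncomputable def g := gOf ι C c ds 3 ex
theorem cod : C.Cod ι g c := cod_gOf (by decide +kernel)
theorem cov : CCov (gen g ((lets (8 + 1)).map (sh 8))) (PG 8 MJ3.B) 3 :=
  haveI := MJ3.simple (Pres.pg 8 MJ3.B)
  ccov_emb _ 8 [1, 0, 0, 0, 0, 0, 0, 0, 0, 0, 0, 0, 0, 0, 0, 0, 0, 0, 0, 0, 0, 0, 0, 0, 0, 0, 0, 0, 0, 0, 0, 0, 0, 0, 0, 0, 0, 0, 0, 0, 0, 0, 0, 0, 0, 1, 0, 1, 1, 0, 1, 1, 0, 1, 2, 0, 1, 0, 1, 1, 2, 1, 2, 0, 0, 2, 0, 2, 1, 0, 0, 1, 0, 2, 1, 0, 2, 2, 2, 2, 1, 0, 2, 0, 1, 2, 0, 2, 1, 1, 2, 1, 1, 1, 0, 1, 1, 2, 1, 1, 1, 1, 0, 1, 1, 0, 1, 1, 0, 2, 2, 0, 2, 1, 1, 2, 1, 0, 0, 2, 0, 1, 2, 2, 2, 0, 2, 1, 0, 1, 2, 0, 2, 0, 1,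 1, 2, 0, 1, 2, 2, 1, 2, 1, 0, 1, 1, 1, 1, 1, 2, 1, 1, 2, 1, 1, 1, 0, 2, 0, 2, 1, 1, 1, 0, 0, 2, 0, 0, 1, 0, 2, 0, 1, 1, 2, 2, 2, 2, 0, 1, 2, 2, 1, 2, 0, 0, 0, 2, 1, 0, 2, 1, 2, 2, 1, 0, 1, 1, 2, 2, 0, 2, 0, 2, 2, 1, 2, 2, 0, 0, 0, 0, 2, 0, 2, 0, 2, 2, 0, 2, 0, 2, 0, 1, 0, 1, 1, 1, 2, 1, 1, 2, 0, 0, 0, 1, 2, 2, 2, 1, 1, 1, 0, 0, 2, 2, 0, 0, 1, 2, 1, 2, 1, 2, 2, 2, 2, 0, 0, 0, 2, 0, 0, 1, 2, 2, 2, 2, 1, 0, 0, 2, 0, 0, 0, 2, 0, 2, 2, 2, 0, 0, 1, 2, 1, 1, 2, 1, 0, 2, 2, 1, 1, 1, 0, 2, 0, 0, 0, 0, 1, 0, 2, 2, 0, 0, 0, 2, 1, 1, 1, 1, 0, 0, 2, 1, 1, 0, 2, 2, 1, 2, 0, 2, 1, 2, 1, 0, 1, 1, 0, 1, 0, 1, 2, 1, 2, 0, 1, 1, 1, 1, 1, 2, 2, 0, 2, 1, 1, 0, 0, 1, 2, 0, 2, 1, 0, 1, 0, 0, 2, 1, 2, 2, 1, 0, 0, 0, 2, 0, 2,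 0, 2, 2, 0, 2, 2, 1, 1, 1, 1, 0, 1, 0, 1, 1, 0, 0, 1, 0, 1, 2, 2, 1, 2, 2, 1, 0, 2, 1, 0, 0, 1, 1, 1, 2, 2, 1, 2, 0, 2, 2, 1, 2, 2, 0, 0, 1, 1, 1, 2, 1, 0, 2, 2, 0, 1, 1, 2, 0, 0, 1, 0, 1, 1, 2, 0, 2, 0, 1, 2, 2, 1, 1, 0, 2, 0, 0, 0, 0, 2, 1, 2, 2, 2, 1, 0, 2, 1, 0, 0, 0, 1, 0, 2, 1, 1, 1, 2, 0, 2, 2, 0, 1, 2, 0, 2, 0, 1, 0, 0, 1, 0, 1, 1, 2, 2, 0, 1, 1, 2, 2, 1, 0, 0, 1, 2, 2, 2, 1, 2, 0, 2, 1, 2, 2, 0, 2, 1, 2, 1, 0, 2, 1, 2, 0, 0, 0, 1, 0, 2, 1, 1, 0, 2, 1, 0, 2, 0, 0, 2, 1, 2, 0, 2, 0, 1, 2, 1, 0, 0, 2, 1, 2, 1, 1, 0, 0, 1, 1, 2, 2, 1, 1, 2, 0, 0, 2, 2, 0, 1, 0, 0, 1, 1, 1, 2, 1, 2, 0, 0, 1, 1, 0, 1, 1, 1, 1, 2, 0, 0, 0, 1, 1, 2, 1, 0, 1, 1, 2, 0, 1, 1, 2, 2, 0, 0, 2, 0, 2, 2, 0, 0, 0, 1, 1, 1, 0,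 2, 1, 0, 2, 2, 0, 0, 1, 0, 2, 2, 1, 1, 1, 0, 1, 0, 2, 0, 1, 0, 0, 0, 1, 0, 1, 1, 2, 1] [2, 0, 0, 0, 0, 0, 0, 0, 0, 0, 0, 0, 0, 0, 0, 0, 0, 0, 0, 0, 0, 0, 0, 0, 0, 0, 0, 0, 0, 0, 0, 0, 0, 0, 0, 0, 0, 0, 0, 0, 0, 0, 0, 0, 0, 0, 0, 0, 0, 0, 0, 0, 0, 0, 0, 0, 0, 0, 0, 0, 0, 0, 1, 0, 0, 0, 0, 0, 0, 0, 0, 0, 0, 0, 0, 0, 0, 0, 0, 0, 0, 0, 0, 0, 0, 0, 0, 0, 0, 0, 0, 0, 0, 0, 0, 0, 0, 0, 0, 0, 0, 0, 0, 0, 0, 0, 0, 0, 0, 0, 0, 0, 0, 0, 0, 0, 0, 0, 0, 0, 0, 0, 0, 0, 0, 0, 0, 0, 0, 0, 0, 0, 0, 0, 0, 0, 0, 0, 0, 0, 0, 0, 0, 0, 0, 0, 0, 0, 0, 0, 0, 0, 0, 0, 0, 0, 0, 0, 0, 0, 0, 0, 0, 0, 0, 0, 0, 0, 0, 0, 0, 0, 0, 0, 0, 0, 0, 0, 0, 0, 0, 0, 0, 0, 0, 0, 0, 0, 0, 0, 0, 0, 0, 0, 0, 0, 0, 0, 0, 0, 0, 0, 0, 0, 0, 0, 0, 0,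 0, 0, 0, 0, 0, 0, 0, 0, 0, 0, 0, 0, 0, 0, 0, 0, 0, 0, 0, 0, 0, 0, 0, 0, 0, 0, 0, 0, 0, 0, 0, 0, 0, 0, 0, 0, 0, 0, 0, 0, 0, 0, 0, 0, 0, 0, 0, 0, 0, 0, 0, 0, 0, 0, 0, 0, 0, 0, 0, 0, 0, 0, 0, 0, 0, 0, 0, 0, 0, 0, 0, 0, 0, 0, 0, 0, 0, 0, 0, 0, 0, 0, 0, 0, 0, 0, 0, 0, 0, 0, 0, 0, 0, 0, 0, 0, 0, 0, 0, 0, 0, 0, 0, 0, 0, 0, 0, 0, 0, 0, 0, 0, 0, 0, 0, 0, 0, 0, 0, 0, 0, 0, 0, 0, 0, 0, 0, 0, 0, 0, 0, 0, 0, 0, 0, 0, 0, 0, 0, 0, 0, 0, 0, 0, 0, 0, 0, 0, 0, 0, 0, 0, 0, 0, 0, 0, 0, 0, 0, 0, 0, 0, 0, 0, 0, 0, 0, 0, 0, 0, 0, 0, 0, 0, 0, 0, 0, 0, 0, 0, 0, 0, 0, 0, 0, 0, 0, 0, 0, 0, 0, 0, 0, 0, 0, 0, 0, 0, 0, 0, 0, 0, 0, 0, 0, 0, 0, 0, 0, 0, 0, 0, 0, 0, 0, 0, 0, 0, 0, 0, 0, 0, 0, 0, 0, 0, 0, 0, 0, 0, 0, 0, 0, 0, 0, 0, 0,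 0, 0, 0, 0, 0, 0, 0, 0, 0, 0, 0, 0, 0, 0, 0, 0, 0, 0, 0, 0, 0, 0, 0, 0, 0, 0, 0, 0, 0, 0, 0, 0, 0, 0, 0, 0, 0, 0, 0, 0, 0, 0, 0, 0, 0, 0, 0, 0, 0, 0, 0, 0, 0, 0, 0, 0, 0, 0, 0, 0, 0, 0, 0, 0, 0, 0, 0, 0, 0, 0, 0, 0, 0, 0, 0, 0, 0, 0, 0, 0, 0, 0, 0, 0, 0, 0, 0, 0, 0, 0, 0, 0, 0, 0, 0, 0, 0, 0, 0, 0, 0, 0, 0, 0, 0, 0, 0, 0, 0, 0, 0, 0, 0, 0, 0, 0, 0, 0, 0, 0, 0, 0, 0, 0, 0, 0, 0, 0, 0, 0, 0, 0, 0, 0, 0, 0, 0, 0, 0, 0, 0, 0, 0, 0, 0, 0, 0, 0, 0, 0, 0, 0, 0, 0, 0, 0, 0, 0, 0, 0, 0, 0, 0, 0, 0, 0, 0, 0, 0, 0, 0, 0, 0, 0, 0, 0, 0, 0, 0, 0, 0, 0, 0, 0, 0, 0, 0, 0, 0, 0, 0, 0, 0] (by decide) this (perfect_of_simple (by rw [MJ3.card (Pres.pg 8 MJ3.B)]; exact Nat.not_prime_of_dvd_of_lt (m := 2) (by decide) le_rfl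 (by decide)))
    (C.pairs ιSU_inj cod (by decide +kernel)) (C.ne_of cod (by decide +kernel)) (x := 0) (y := 1) (C.ne_of cod (by decide +kernel)) (by decide +kernel)
end H0.IJ3U
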