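import Cfsg.Agent.H0.Gl2
import Cfsg.Agent.H0.MO73.Main
import Cfsg.Agent.S0292
set_option maxRecDepth 100000
set_option Elab.async false
namespace H0.IO73
open Cfsg BN Matrix
noncomputable def C := ((mcRC (H6.rcZ 3 2 (by decide)) (1 + (3 + 3))).reix (eOdd 3))
theorem hC : Rd (H6.rcZ 3 2 (by decide)) (eOdd 3) C := (rd_rc _ _)
def c : List ℕ := [0x12824929216999152196aa19a, 0x16aa2890914898885a9491260, 0x26a6651591148155a68129986, 0x28a942699a992598890011898, 0x28aa64a09009109515a669594, 0x128116886a29a496aa1459940, 0x100028a4225010042204a462a, 0x4226045a1181895456066021, 0x1400865460094546681021a69, 0x1545945a45849a45559942892, 0x10206a6854949696491915012, 0x1524424a9285148524a891a1a, 0x500180100a0024000010001, 0x462204496849699262990a59, 0x11466a6a5095000a699815461, 0x199549a956aa556985599a994, 0x2648100214265190918118688, 0x194510011815a220524215904, 0x268a200058a02009651a18944]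
def ds : List (List ℕ) := [[0, 0], [0, 1, 1, 2, 0, 1, 2, 2, 1, 2, 0, 0, 1, 1], [4, 4, 4, 4, 4, 4], [5, 5, 3, 4, 4], [3, 4, 3, 4, 4, 4, 3, 5, 3, 5, 5, 3, 5, 5], [7, 7, 7, 7, 7, 7, 7], [8, 8, 8, 6, 7, 7, 7], [6, 8, 6, 7, 7, 7, 6, 8, 6], [10, 10, 10, 10, 10], [11, 9, 11, 9, 10, 9, 10], [11, 11, 9, 10, 9, 10, 10, 9], [13, 13, 13, 13, 13], [12, 14, 12, 14, 12, 14], [13, 12, 14, 12, 14, 14], [16, 16], [15, 17, 15, 16, 15]]
theorem hQ (v) : (quadFormOdd 3 (ZMod 3)) v = v ⬝ᵥ (C.val 0x40004000400001 *ᵥ v) := q_odd hC (by decide +kernel) v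
noncomputable def ι := (ιG (isometryGroup (ZMod 3) (quadFormOdd 3 (ZMod 3)))).comp (commutator _).subtype
theorem ex : ∀ x < 3, Ex ι C (c.getD x C.one) := (ex_step (ex_step (ex_step ex_nil (Ex.comm (ex_iso hC hQ 0x24a062819aaa24108500118a9 0x28a942a4509925a0690010805 (by decide +kernel)) (ex_iso hC hQ 0x100084292258145928a814104 0x100060209269990a00186a218 (by decide +kernel)) 0x28a942a4509925a0690010805 0x100060209269990a00186a218 (c := 0x12824929216999152196aa19a) (by decide +kernel)) (by decide +kernel)) (Ex.comm (ex_iso hC hQ 0x16aa9955800a8192a28104956 0x99222490929992059a289662 (by decide +kernel)) (ex_iso hC hQ 0x884100260659109525611986 0x1681100114644299959428406 (by decide +kernel)) 0x99222490929992059a289662 0x1681100114644299959428406 (c := 0x16aa2890914898885a9491260) (by decide +kernel)) (by decide +kernel)) (Ex.comm (ex_iso hC hQ 0x28a542951a25a592698801502 0x24a862a18505a59082a8198a6 (by decide +kernel)) (ex_iso hC hQ 0x129004108548144a2850a199 0x90922490854814400850a589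 (by decide +kernel)) 0x24a862a18505a59082a8198a6 0x90922490854814400850a589 (c := 0x26a6651591148155a68129986) (by decide +kernel)) (by decide +kernel))
noncomputable def g := gOf ι C c ds 3 ex
theorem cod : C.Cod ι g c := cod_gOf (by decide +kernel)
theorem rel : ∀ w ∈ MO73.B.map (sh 3), ev g w ∈ Subgroup.center _ := (H0.all_take_done (H0.all_take_step (H0.all_take_step (H0.all_take_step (H0.all_take_zero _ (MO73.B.map (sh 3))) (C.rel_cen (inj_comm ιG_inj) cod (W := ((MO73.B.map (sh 3)).drop 0).take 111) (by decide +kernel))) (C.rel_cen (inj_comm ιG_inj) cod (W := ((MO73.B.map (sh 3)).drop 111).take 73) (by decide +kernel))) (C.rel_cen (inj_comm ιG_inj) cod (W := ((MO73.B.map (sh 3)).drop 184).take 66) (by decide +kernel))) (by decide +kernel))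
theorem card : Nat.card (POmega (ZMod 3) (quadFormOdd 3 (ZMod 3))) = 4585351680 := by
  exact cardB (Cfsg.Agent.S0292.result (ZMod.card 3) (by decide) 3 (by decide)) (by decide +kernel)
theorem iso : Nonempty (PG 16 MO73.B ≃* (POmega (ZMod 3) (quadFormOdd 3 (ZMod 3)))) :=
  iso_q cod rel (MO73.simple (Pres.pg 16 MO73.B)) (MO73.card (Pres.pg 16 MO73.B)) card (by decide +kernel)
end H0.IO73
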