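import Cfsg.Agent.H0.CenI
import Cfsg.Agent.H0.Gl2
import Cfsg.Agent.H0.MWB4.Main
import Cfsg.Agent.H0.MWD4.Main
set_option maxRecDepth 100000
namespace H0.IWB4
open Cfsg BN Matrix
noncomputable def C8 := (mc2 (ZMod 2) 8 0x101010101010101 0x8040201008040201 (by decide +kernel) (by decide +kernel))
def b0 : Equiv.Perm (Fin 8) := ⟨![1, 0, 2, 3, 6, 7, 4, 5], ![1, 0, 2, 3, 6, 7, 4, 5], by decide, by decide⟩
def b1 : Equiv.Perm (Fin 8) := ⟨![2, 3, 4, 5, 6, 7, 0, 1], ![6, 7, 0, 1, 2, 3, 4, 5], by decide, by decide⟩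
def b2 : Equiv.Perm (Fin 8) := ⟨![6, 7, 0, 1, 2, 3, 4, 5], ![2, 3, 4, 5, 6, 7, 0, 1], by decide, by decide⟩
def b3 : Equiv.Perm (Fin 8) := ⟨![0, 1, 4, 5, 2, 3, 7, 6], ![0, 1, 4, 5, 2, 3, 7, 6], by decide, by decide⟩
def b4 : Equiv.Perm (Fin 8) := ⟨![0, 1, 5, 4, 6, 7, 2, 3], ![0, 1, 6, 7, 3, 2, 4, 5], by decide, by decide⟩
def b5 : Equiv.Perm (Fin 8) := ⟨![0, 1, 6, 7, 3, 2, 4, 5], ![0, 1, 5, 4, 6, 7, 2, 3], by decide, by decide⟩
def b6 : Equiv.Perm (Fin 8) := ⟨![0, 1, 2, 3, 6, 7, 4, 5], ![0, 1, 2, 3, 6, 7, 4, 5], by decide, by decide⟩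
def b7 : Equiv.Perm (Fin 8) := ⟨![0, 1, 2, 3, 6, 7, 5, 4], ![0, 1, 2, 3, 7, 6, 4, 5], by decide, by decide⟩
def b8 : Equiv.Perm (Fin 8) := ⟨![0, 1, 2, 3, 7, 6, 4, 5], ![0, 1, 2, 3, 6, 7, 5, 4], by decide, by decide⟩
def b9 : Equiv.Perm (Fin 8) := ⟨![0, 1, 2, 3, 4, 5, 7, 6], ![0, 1, 2, 3, 4, 5, 7, 6], by decide, by decide⟩
def b (x : ℕ) : Equiv.Perm (Fin 8) := [b0, b1, b2, b3, b4, b5, b6, b7, b8, b9].getD x 1
noncomputable def bψ : PG 10 MWB4.B →* Equiv.Perm (Fin 8) := pgHom b (by decide +kernel) (by decide +kernel)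
noncomputable def bι : Equiv.Perm (Fin 8) →* Matrix (Fin 8) (Fin 8) (ZMod 2) := Matrix.permMatrixHom
theorem binj : Function.Injective bψ := Function.Injective.of_comp (f := bι) ((MWB4.m (Pres.pg 10 MWB4.B)).inj_of_vec (off := 0) (MWB4.top _) (MWB4.base _) (bι.comp bψ) C8 (c := [0x2010804008040102, 0x2010080402018040, 0x201804020100804, 0x4080080420100201, 0x2010040880400201, 0x804804010200201, 0x2010804008040201, 0x2010408008040201, 0x1020804008040201, 0x4080201008040201])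
  [0x1, 0x100, 0x10000, 0x1000000, 0x100000000, 0x10000000000, 0x1000000000000, 0x100000000000000] 0 [[1, 0, 2, 3, 6, 7, 4, 5], [2, 3, 4, 5, 6, 7, 0, 1], [6, 7, 0, 1, 2, 3, 4, 5], [0, 1, 4, 5, 2, 3, 7, 6], [0, 1, 5, 4, 6, 7, 2, 3], [0, 1, 6, 7, 3, 2, 4, 5], [0, 1, 2, 3, 6, 7, 4, 5], [0, 1, 2, 3, 6, 7, 5, 4], [0, 1, 2, 3, 7, 6, 4, 5], [0, 1, 2, 3, 4, 5, 7, 6]]
  (fun x hx => by
    rw [MWB4.g_eq _ hx, MonoidHom.comp_apply, bψ]
    erw [pgHom_of hx]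
    revert x; decide +kernel)
  (Model.via _ (MWB4.mR _) (fun R => vecB C8 R _ _ _ _ _ _ _) (by decide +kernel)))
def d0 : alternatingGroup (Fin 8) := ⟨⟨![3, 2, 4, 5, 6, 7, 1, 0], ![7, 6, 1, 0, 2, 3, 4, 5], by decide, by decide⟩, Equiv.Perm.mem_alternatingGroup.2 (by decide +kernel)⟩
def d1 : alternatingGroup (Fin 8) := ⟨⟨![7, 6, 1, 0, 2, 3, 4, 5], ![3, 2, 4, 5, 6, 7, 1, 0], by decide, by decide⟩, Equiv.Perm.mem_alternatingGroup.2 (by decide +kernel)⟩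
def d2 : alternatingGroup (Fin 8) := ⟨⟨![1, 0, 6, 7, 3, 2, 4, 5], ![1, 0, 5, 4, 6, 7, 2, 3], by decide, by decide⟩, Equiv.Perm.mem_alternatingGroup.2 (by decide +kernel)⟩
def d3 : alternatingGroup (Fin 8) := ⟨⟨![1, 0, 5, 4, 6, 7, 2, 3], ![1, 0, 6, 7, 3, 2, 4, 5], by decide, by decide⟩, Equiv.Perm.mem_alternatingGroup.2 (by decide +kernel)⟩
def d4 : alternatingGroup (Fin 8) := ⟨⟨![0, 1, 5, 4, 3, 2, 6, 7], ![0, 1, 5, 4, 3, 2, 6, 7], by decide, by decide⟩, Equiv.Perm.mem_alternatingGroup.2 (by decide +kernel)⟩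
def d5 : alternatingGroup (Fin 8) := ⟨⟨![0, 1, 7, 6, 2, 3, 5, 4], ![0, 1, 4, 5, 7, 6, 3, 2], by decide, by decide⟩, Equiv.Perm.mem_alternatingGroup.2 (by decide +kernel)⟩
def d6 : alternatingGroup (Fin 8) := ⟨⟨![0, 1, 4, 5, 7, 6, 3, 2], ![0, 1, 7, 6, 2, 3, 5, 4], by decide, by decide⟩, Equiv.Perm.mem_alternatingGroup.2 (by decide +kernel)⟩
def d7 : alternatingGroup (Fin 8) := ⟨⟨![0, 1, 2, 3, 6, 7, 4, 5], ![0, 1, 2, 3, 6, 7, 4, 5], by decide, by decide⟩, Equiv.Perm.mem_alternatingGroup.2 (by decide +kernel)⟩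
def d8 : alternatingGroup (Fin 8) := ⟨⟨![0, 1, 2, 3, 5, 4, 7, 6], ![0, 1, 2, 3, 5, 4, 7, 6], by decide, by decide⟩, Equiv.Perm.mem_alternatingGroup.2 (by decide +kernel)⟩
def d (x : ℕ) : alternatingGroup (Fin 8) := [d0, d1, d2, d3, d4, d5, d6, d7, d8].getD x 1
noncomputable def dψ : PG 9 MWD4.B →* alternatingGroup (Fin 8) := pgHom d (by decide +kernel) (by decide +kernel)
noncomputable def dι : alternatingGroup (Fin 8) →* Matrix (Fin 8) (Fin 8) (ZMod 2) := (Matrix.permMatrixHom.comp (Subgroup.subtype _))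
theorem dinj : Function.Injective dψ := Function.Injective.of_comp (f := dι) ((MWD4.m (Pres.pg 9 MWD4.B)).inj_of_vec (off := 0) (MWD4.top _) (MWD4.base _) (dι.comp dψ) C8 (c := [0x2010080401024080, 0x102804020100408, 0x804804010200102, 0x2010040880400102, 0x8040040810200201, 0x408408020100201, 0x1020080440800201, 0x2010804008040201, 0x4080102008040201])
  [0x1, 0x100, 0x10000, 0x1000000, 0x100000000, 0x10000000000, 0x1000000000000, 0x100000000000000] 0 [[3, 2, 4, 5, 6, 7, 1, 0], [7, 6, 1, 0, 2, 3, 4, 5], [1, 0, 6, 7, 3, 2, 4, 5], [1, 0, 5, 4, 6, 7, 2, 3], [0, 1, 5, 4, 3, 2, 6, 7], [0, 1, 7, 6, 2, 3, 5, 4], [0, 1, 4, 5, 7, 6, 3, 2], [0, 1, 2, 3, 6, 7, 4, 5], [0, 1, 2, 3, 5, 4, 7, 6]]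
  (fun x hx => by
    rw [MWD4.g_eq _ hx, MonoidHom.comp_apply, dψ]
    erw [pgHom_of hx]
    revert x; decide +kernel)
  (Model.via _ (MWD4.mR _) (fun R => vecB C8 R _ _ _ _ _ _ _) (by decide +kernel)))
def E6 : (Fin 2 ⊕ Fin 2) ⊕ Fin 2 ≃ Fin 6 := ((finSumFinEquiv (m := 2) (n := 2)).sumCongr (Equiv.refl (Fin 2))).trans (finSumFinEquiv (m := 2 + 2) (n := 2))
noncomputable def C := ((mc2 (ZMod 2) 6 0x41041041 0x810204081 (by decide +kernel) (by decide +kernel)).reix E6)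
theorem hC : Rd (rc2 (ZMod 2)) E6 C := (rd_2 _)
theorem hQ (v) : (quadFormMinus 2 (ZMod 2) 1 1) v = v ⬝ᵥ (C.val 0x830000204 *ᵥ v) := by
  have := q_minus hC (A := 0x830000204) (a := 1) (b := 1) (by decide +kernel) v
  rwa [(rc2 (ZMod 2)).h1] at this
def c : List ℕ := [0x813aea3cc, 0xda63d5086, 0x470f830b7, 0xe143047ab, 0x62ce8421d, 0x5a2084fa5, 0x830204081, 0x3ace8479d, 0x3a2684fbd, 0x3a2e8479d]
noncomputable def ι := ιG (isometryGroup (ZMod 2) (quadFormMinus 2 (ZMod 2) 1 1))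
theorem ex : ∀ x < 10, Ex ι C (c.getD x C.one) := (ex_step (ex_step (ex_step (ex_step (ex_step (ex_step (ex_step (ex_step (ex_step (ex_step ex_nil (ex_iso hC hQ 0x813aea3cc 0x813aea3cc (by decide +kernel)) (by decide +kernel)) (ex_iso hC hQ 0xda63d5086 0x470f830b7 (by decide +kernel)) (by decide +kernel)) (ex_iso hC hQ 0x470f830b7 0xda63d5086 (by decide +kernel)) (by decide +kernel)) (ex_iso hC hQ 0xe143047ab 0xe143047ab (by decide +kernel)) (by decide +kernel)) (ex_iso hC hQ 0x62ce8421d 0x5a2084fa5 (by decide +kernel)) (by decide +kernel)) (ex_iso hC hQ 0x5a2084fa5 0x62ce8421d (by decide +kernel)) (by decide +kernel)) (ex_iso hC hQ 0x830204081 0x830204081 (by decide +kernel)) (by decide +kernel)) (ex_iso hC hQ 0x3ace8479d 0x3a2684fbd (by decide +kernel)) (by decide +kernel)) (ex_iso hC hQ 0x3a2684fbd 0x3ace8479d (by decide +kernel)) (by decide +kernel)) (ex_iso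 hC hQ 0x3a2e8479d 0x3a2e8479d (by decide +kernel)) (by decide +kernel))
noncomputable def g := gOf ι C c [] 10 ex
theorem cod : C.Cod ι g c := cod_gOf (by decide +kernel)
theorem rel : ∀ w ∈ MWB4.B, ev g w = 1 := C.rel_one ιG_inj cod (by decide +kernel)
noncomputable def ψ : PG 10 MWB4.B →* isometryGroup (ZMod 2) (quadFormMinus 2 (ZMod 2) 1 1) := pgHom _ rel (by decide +kernel)
theorem inj : Function.Injective ψ := Function.Injective.of_comp (f := ι) ((MWB4.m (Pres.pg 10 MWB4.B)).inj_of_vec (off := 0) (MWB4.top _) (MWB4.base _) (ι.comp ψ) C (c := c)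
  [0x1040040, 0x1, 0x1001041, 0x41000, 0x40041040, 0x41001001, 0x41041040, 0x40001001] 0 [[1, 0, 2, 3, 6, 7, 4, 5], [2, 3, 4, 5, 6, 7, 0, 1], [6, 7, 0, 1, 2, 3, 4, 5], [0, 1, 4, 5, 2, 3, 7, 6], [0, 1, 5, 4, 6, 7, 2, 3], [0, 1, 6, 7, 3, 2, 4, 5], [0, 1, 2, 3, 6, 7, 4, 5], [0, 1, 2, 3, 6, 7, 5, 4], [0, 1, 2, 3, 7, 6, 4, 5], [0, 1, 2, 3, 4, 5, 7, 6]]
  (fun x hx => by
    rw [MWB4.g_eq _ hx, MonoidHom.comp_apply, ψ]
    erw [pgHom_of hx]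
    rw [Nat.zero_add]; exact cod _ hx)
  (Model.via _ (MWB4.mR _) (fun R => vecB C R _ _ _ _ _ _ _) (by decide +kernel)))
end H0.IWB4
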