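import Cfsg.Agent.H0.Ico2

/-! The faithful matrix representation of `2·J₂` modulo 23. -/

namespace H0.Ico
open Cfsg Spor Quaternion Matrix H6

def IsR (f : Equiv.Perm icoLeech) (r : W) : Prop := ∀ x : icoLeech, (f x : W) = qrefl r x
def Rp (f : Equiv.Perm icoLeech) (M : Matrix (Fin 24) (Fin 24) ℤ) : Prop := ∀ n, f ⟨e n, e_mem n⟩ = ⟨e (M *ᵥ n), e_mem _⟩
theorem Rp.mul {f g M N} (h : Rp f M) (h' : Rp g N) : Rp (f * g) (M * N) := fun n => by
  rw [Equiv.Perm.mul_apply, h', h]; simp only [mulVec_mulVec]
theorem Rp.uniq {f M N} (h : Rp f M) (h' : Rp f N) : M = N :=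
  Matrix.ext_of_mulVec_single fun i => e_inj (congrArg Subtype.val ((h _).symm.trans (h' _)))
theorem IsR.eq {f g r} (h : IsR f r) (h' : IsR g r) : f = g := Equiv.ext fun x => Subtype.ext ((h x).trans (h' x).symm)
theorem IsR.sq {f r} (h : IsR f r) (hr : qip r r = 4) : f * f = 1 := Equiv.ext fun x => Subtype.ext (by
  rw [Equiv.Perm.mul_apply, h, h, qrefl_qrefl hr]; rfl)
theorem IsR.inv {f r} (h : IsR f r) (hr : qip r r = 4) : f⁻¹ = f := inv_eq_of_mul_eq_one_right (h.sq hr)
theorem IsR.conj {f g r a} (h : IsR f r) (h' : IsR g a) (ha : qip a a = 4) : IsR (g * f * g⁻¹) (qrefl a r) := fun x => by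
  rw [h'.inv ha, Equiv.Perm.mul_apply, Equiv.Perm.mul_apply, h', h, h', qrefl_conj ha]
theorem IsR.unit {f r} {u : ℍ[ℝ]} (hu : normSq u = 1) : IsR f (u • r) ↔ IsR f r := by rw [IsR, qrefl_unit hu]; rfl

theorem IsR.rp {f r} (h : IsR f r) : ∃ M, Rp f M := by
  choose L hL using fun n => e_surj (f ⟨e n, e_mem n⟩)
  have h1 : ∀ n, e (L n) = qrefl r (e n) := fun n => (congrArg Subtype.val (hL n)).symm.trans (h _)
  let A : (Fin 24 → ℤ) →+ (Fin 24 → ℤ) := AddMonoidHom.mk' L fun n m => e_inj (by simp [h1, qrefl_add])
  exact ⟨LinearMap.toMatrix' A.toIntLinearMap, fun n => by rw [hL]; simp only [LinearMap.toMatrix'_mulVec]; rfl⟩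

theorem good {f} (hf : f ∈ twoJ2) : (∃ M, Rp f M) ∧ ∀ x : icoLeech, qip (f x) (f x) = qip x x := by
  induction hf using Subgroup.closure_induction'' with
  | one => exact ⟨⟨1, fun n => by simp⟩, fun _ => rfl⟩
  | mem f hf => obtain ⟨r, h1, h2⟩ := hf; exact ⟨IsR.rp h2, fun x => by rw [h2, qip_qrefl h1]⟩
  | inv_mem f hf => obtain ⟨r, h1, h2⟩ := hf; rw [IsR.inv h2 h1]; exact ⟨IsR.rp h2, fun x => by rw [h2, qip_qrefl h1]⟩
  | mul f g _ _ hf hg => exact ⟨hf.1.elim fun _ h => hg.1.elim fun _ h' => ⟨_, h.mul h'⟩, fun x => (hf.2 _).trans (hg.2 x)⟩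

noncomputable def ι : twoJ2 →* Matrix (Fin 24) (Fin 24) (ZMod 23) where
  toFun f := (Int.castRingHom _).mapMatrix (good f.2).1.choose
  map_one' := by rw [(good (one_mem _)).1.choose_spec.uniq (N := 1) fun n => by simp, map_one]
  map_mul' f g := by
    rw [(good (f * g).2).1.choose_spec.uniq ((good f.2).1.choose_spec.mul (good g.2).1.choose_spec), map_mul]
theorem ι_eq {f : twoJ2} {M} (h : Rp f M) : ι f = (Int.castRingHom _).mapMatrix M :=
  congrArg (Int.castRingHom _).mapMatrix ((good f.2).1.choose_spec.uniq h)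

theorem Na (p : Q) : p.N.a = p.x.a ^ 2 + p.x.b ^ 2 + p.y.a ^ 2 + p.y.b ^ 2 + p.z.a ^ 2 + p.z.b ^ 2 + p.w.a ^ 2 + p.w.b ^ 2 := by
  simp only [J, Q.add, Q.sub, Q.sm, Q.cj, Q.mul, Q.N, Z.add_def, Z.neg_def, Z.sub_def, Z.mul_def, Z.sm_def, σZ, τZ, Q.mk.injEq, Z.mk.injEq]; ring
theorem Na_nonneg (p : Q) : 0 ≤ p.N.a := by rw [Na]; positivity
theorem Na_zero {p : Q} (h : p.N.a = 0) : p = Q0 := by
  rw [Na] at h
  ext <;> simp only [Q0] <;> nlinarith [sq_nonneg p.x.a, sq_nonneg p.x.b, sq_nonneg p.y.a, sq_nonneg p.y.b, sq_nonneg p.z.a,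
    sq_nonneg p.z.b, sq_nonneg p.w.a, sq_nonneg p.w.b]
theorem Na_sub (p q : Q) : (p.sub q).N.a ≤ 2 * p.N.a + 2 * q.N.a := by
  have := Na_nonneg (p.add q)
  have : (p.sub q).N.a + (p.add q).N.a = 2 * p.N.a + 2 * q.N.a := by simp only [J, Q.add, Q.sub, Q.sm, Q.cj, Q.mul, Q.N, Z.add_def, Z.neg_def, Z.sub_def, Z.mul_def, Z.sm_def, σZ, τZ, Q.mk.injEq, Z.mk.injEq]; ring
  omega
theorem Na_sm (k : ℤ) (p : Q) : (p.sm k).N.a = k * k * p.N.a := by simp only [J, Q.add, Q.sub, Q.sm, Q.cj, Q.mul, Q.N, Z.add_def, Z.neg_def, Z.sub_def, Z.mul_def, Z.sm_def, σZ, τZ, Q.mk.injEq, Z.mk.injEq]; ring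
theorem VNa (p : V) : p.N.a = p.x.N.a + p.y.N.a + p.z.N.a := rfl

theorem P_inj {n : Fin 24 → ℤ} {X : V} (h : e n = (1 / 4 : ℝ) • ΦV X) : P n = X :=
  ΦV_inj (smul_right_injective W (show (1 / 4 : ℝ) ≠ 0 by norm_num) ((e_apply n).symm.trans h))

theorem ι_inj : Function.Injective ι := (injective_iff_map_eq_one ι).2 fun f hf => by
  obtain ⟨⟨M, hM⟩, hN⟩ := good f.2
  rw [ι_eq hM] at hf
  have : M = 1 := Matrix.ext_of_mulVec_single fun i => by
    rw [one_mulVec]
    have h1 : ∀ j, (23 : ℤ) ∣ (M *ᵥ Pi.single i 1 - Pi.single i 1 : Fin 24 → ℤ) j := fun j => by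
      have := congrFun (congrFun hf j) i
      refine (ZMod.intCast_zmod_eq_zero_iff_dvd _ 23).1 ?_
      simp only [RingHom.mapMatrix_apply, map_apply, eq_intCast, one_apply] at this
      simp [this, Pi.single_apply]
    choose t ht using h1
    have h2 : M *ᵥ Pi.single i 1 - Pi.single i 1 = (23 : ℤ) • t := funext ht
    have h3 := hN ⟨_, e_mem (Pi.single i 1)⟩
    rw [hM] at h3
    simp only [e_apply, qip_N, coe_inj] at h3
    have h4 : (P (M *ᵥ Pi.single i 1)).N = (P (Pi.single i 1)).N := ψ_inj (by linarith)
    have h5 : (P (Pi.single i 1)).N.a ≤ 96 := (by decide +kernel : ∀ i : Fin 24, (P (Pi.single i 1)).N.a ≤ 96) i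
    have h6 : (P (M *ᵥ Pi.single i 1)).sub (P (Pi.single i 1)) = (P t).sm 23 :=
      (P_inj (n := M *ᵥ Pi.single i 1 - Pi.single i 1) (by rw [map_sub, ΦV_sub, smul_sub]; rfl)).symm.trans (by
        rw [h2]; exact P_inj (by rw [map_zsmul, e_apply, ΦV_sm, smul_comm, Int.cast_smul_eq_zsmul]))
    generalize P (M *ᵥ Pi.single i 1) = X, P (Pi.single i 1) = Y at h4 h5 h6
    have h7 : (P t).N.a = 0 := by
      have := congrArg (·.N.a) h6
      have := congrArg (·.a) h4
      have := Na_sub X.x Y.x; have := Na_sub X.y Y.y; have := Na_sub X.z Y.z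
      have := Na_nonneg (P t).x; have := Na_nonneg (P t).y; have := Na_nonneg (P t).z
      simp only [VNa, V.sm, V.sub, Na_sm] at *
      omega
    have h8 : e t = 0 := by
      have := Na_nonneg (P t).x; have := Na_nonneg (P t).y; have := Na_nonneg (P t).z
      rw [VNa] at h7
      have h0 : Φ Q0 = 0 := by ext <;> simp [Q0, ψ]
      rw [e_apply, ΦV, Na_zero (p := (P t).x) (by omega), Na_zero (p := (P t).y) (by omega), Na_zero (p := (P t).z) (by omega), h0]
      funext s; fin_cases s <;> simp
    rw [← sub_eq_zero, h2, e_inj (h8.trans e.map_zero.symm), smul_zero]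
  refine Subtype.ext (Equiv.ext fun x => ?_)
  obtain ⟨n, rfl⟩ := e_surj x
  rw [hM, this]; simp

def lift (x : ℕ) : ℤ := Bool.rec (Int.ofNat x) (Int.subNatNat x 23) (Nat.ble 12 x)
theorem lift_cast (x : ℕ) : (lift x : ZMod 23) = x := by
  unfold lift
  cases Nat.ble 12 x
  · simp
  · simp [Int.subNatNat_eq_coe]; decide
def Mz (a : ℕ) : Matrix (Fin 24) (Fin 24) ℤ := Matrix.of fun i j => lift (eP 24 16 5 a i j)
noncomputable def C := mcP 23 24 16 5 0x1f001f001f001f001f001f001f001f001f001f001f001f001f001f001f001f001f001f001f001f001f001f001f001f 0x100000000000000000000000000000000000000000000000000000000000000000000000000000000000000000000000000010000000000000000000000000000000000000000000000000000000000000000000000000000000000000000000000000001000000000000000000000000000000000000000000000000000000000000000000000000000000000000000000000000000100000000000000000000000000000000000000000000000000000000000000000000000000000000000000000000000000010000000000000000000000000000000000000000000000000000000000000000000000000000000000000000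000000000001000000000000000000000000000000000000000000000000000000000000000000000000000000000000000000000000000100000000000000000000000000000000000000000000000000000000000000000000000000000000000000000000000000010000000000000000000000000000000000000000000000000000000000000000000000000000000000000000000000000001000000000000000000000000000000000000000000000000000000000000000000000000000000000000000000000000000100000000000000000000000000000000000000000000000000000000000000000000000000000000000000000000000000010000000000000000000000000000000000000000000000000000000000000000000000000000000000000000000000000001000000000000000000000000000000000000000000000000000000000000000000000000000000000000000000000000000100000000000000000000000000000000000000000000000000000000000000000000000000000000000000000000000000010000000000000000000000000000000000000000000000000000000000000000000000000000000000000000000000000001000000000000000000000000000000000000000000000000000000000000000000000000000000000000000000000000000100000000000000000000000000000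000000000000000000000000000000000000000000000000000000000000000000000010000000000000000000000000000000000000000000000000000000000000000000000000000000000000000000000000001000000000000000000000000000000000000000000000000000000000000000000000000000000000000000000000000000100000000000000000000000000000000000000000000000000000000000000000000000000000000000000000000000000010000000000000000000000000000000000000000000000000000000000000000000000000000000000000000000000000001000000000000000000000000000000000000000000000000000000000000000000000000000000000000000000000000000100000000000000000000000000000000000000000000000000000000000000000000000000000000000000000000000000010000000000000000000000000000000000000000000000000000000000000000000000000000000000000000000000000001 (by decide +kernel)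
theorem Mz_val (a : ℕ) : (Int.castRingHom _).mapMatrix (Mz a) = C.val a := by
  ext i j; exact lift_cast _

theorem gen_refl {R : V} {a : ℕ} (hN : R.N = ⟨16, 0⟩) (hR : vv R ∈ icoLeech)
    (h : ∀ i : Fin 24, rchk R (P (Pi.single i 1)) 8 (P fun j => Mz a j i) = true) :
    ∃ f : twoJ2, IsR f (vv R) ∧ ι f = C.val a := by
  have h4 := vv_N.2 hN
  have h1 : (AddMonoidHom.mk' (qrefl (vv R)) (qrefl_add _)).comp e = e.comp (Mz a).mulVecLin.toAddMonoidHom := by
    refine AddMonoidHom.functions_ext' _ _ _ fun i => AddMonoidHom.ext_int ?_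
    show qrefl (vv R) (e (Pi.single i 1)) = e (Mz a *ᵥ Pi.single i 1)
    rw [e_apply, refl_val (h i), mulVec_single_one, e_apply]; norm_num; rfl
  have h2 : ∀ n, qrefl (vv R) (e n) = e (Mz a *ᵥ n) := fun n => DFunLike.congr_fun h1 n
  let s : icoLeech → icoLeech := fun x => ⟨qrefl (vv R) x, by obtain ⟨n, rfl⟩ := e_surj x; exact h2 n ▸ e_mem _⟩
  have hs : Function.Involutive s := fun x => Subtype.ext (qrefl_qrefl h4 x)
  exact ⟨⟨hs.toPerm, Subgroup.subset_closure ⟨⟨_, hR⟩, h4, fun _ => rfl⟩⟩, fun _ => rfl,
    (ι_eq fun n => Subtype.ext (h2 n)).trans (Mz_val a)⟩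

end H0.Ico
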