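import Cfsg.Agent.H0.Pc2
import Cfsg.Prelude.Def_Transfer

/-! Elementary abelian subgroups of a 2-group `T = V . T̄` given by letters, from the action of `T̄` on `V`. -/

namespace H0
open BN Subgroup Cfsg
variable {G : Type*} [Group G]

theorem wd_app (p : ℕ) (l' : List ℕ) : ∀ (l : List ℕ) (i : ℕ), wd p (l ++ l') i = wd p l i ++ wd p l' (i / p ^ l.length)
  | [], i => by simp; rfl
  | x :: l, i => by rw [List.cons_append, wd_cons, wd_cons, wd_app p l' l, List.append_assoc, Nat.div_div_eq_div_mul, List.length_cons, pow_succ']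

theorem wd_mod {p : ℕ} : ∀ (l : List ℕ) (i : ℕ), wd p l (i % p ^ l.length) = wd p l i
  | [], _ => rfl
  | x :: l, i => by
    rw [wd_cons, wd_cons, List.length_cons, pow_succ', Nat.mod_mul_right_mod, Nat.mod_mul_right_div_self, wd_mod l]

theorem wd_sub {p : ℕ} : ∀ (l : List ℕ) (i : ℕ), ∀ y ∈ wd p l i, y ∈ l
  | [], _, _, h => h
  | z :: l, i, y, hy => (List.mem_append.1 (wd_cons p z l i ▸ hy)).elim
      (fun h => List.mem_cons.2 (.inl (List.eq_of_mem_replicate h))) fun h => List.mem_cons_of_mem _ (wd_sub l _ _ h)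

theorem allL_of {α : Type} {f : α → Bool} : ∀ {l : List α}, (∀ x ∈ l, f x = true) → allL f l = true
  | [], _ => rfl
  | x :: l, h => allL_append (l := [x]) (by
      have := h x List.mem_cons_self
      simp only [allL, this]) (allL_of fun y hy => h y (List.mem_cons_of_mem _ hy))

theorem wd_mem (g : ℕ → G) (p : ℕ) : ∀ (l : List ℕ) (i : ℕ), ev g (wd p l i) ∈ gl g l
  | [], _ => one_mem _
  | x :: l, i => by
    rw [wd_cons, ev_append, ev_rep]
    exact mul_mem (pow_mem (by simpa using mem_gl g (l := x :: l) (w := [x]) (by simp)) _)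
      ((gen_le fun w hw => mem_gen _ (List.mem_cons_of_mem _ hw) : gl g l ≤ gl g (x :: l)) (wd_mem g p l _))

theorem wd_inj [Finite G] {g : ℕ → G} {p : ℕ} (hp : 0 < p) {l W} (hE : ∀ e ∈ pcE p l W, ev g e.1 = ev g e.2) (h : pcOK l W = true)
    (h1 : p ^ l.length ≤ Nat.card (gl g l)) {i j : ℕ} (hi : i < p ^ l.length) (hj : j < p ^ l.length)
    (e : ev g (wd p l i) = ev g (wd p l j)) : i = j := by
  have s : Function.Surjective fun i : Fin (p ^ l.length) => (⟨_, wd_mem g p l i⟩ : gl g l) := fun a => by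
    obtain ⟨w, hw, e⟩ := pc_nf hp hE h a a.2
    obtain ⟨i, hi, rfl⟩ := nf_wd hw
    exact ⟨⟨i, hi⟩, Subtype.ext e.symm⟩
  exact congrArg Fin.val (((Nat.bijective_iff_surjective_and_card _).2 ⟨s, by
    rw [pcn_card hp hE h h1, Nat.card_fin]⟩).1 (a₁ := ⟨i, hi⟩) (a₂ := ⟨j, hj⟩) (Subtype.ext e))

/-- commuting involutions -/
def EA (g : ℕ → G) (l : List ℕ) : Prop := ∀ x ∈ l, g x * g x = 1 ∧ ∀ y ∈ l, Commute (g x) (g y)

theorem EA.comm {g : ℕ → G} {l : List ℕ} (h : EA g l) {a b : G} (ha : a ∈ gl g l) (hb : b ∈ gl g l) : Commute a b :=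
  (gen_le (K := centralizer {b}) fun w hw => by
    obtain ⟨x, hx, rfl⟩ := List.mem_map.1 hw
    exact mem_centralizer_singleton_iff.2 (mem_centralizer_singleton_iff.1 ((gen_le (K := centralizer {ev g [x]}) fun w hw => by
      obtain ⟨y, hy, rfl⟩ := List.mem_map.1 hw
      simpa [mem_centralizer_singleton_iff] using ((h y hy).2 x hx).eq) hb)).symm) ha |> mem_centralizer_singleton_iff.1

theorem EA.xor {g : ℕ → G} : ∀ {l : List ℕ}, EA g l → ∀ i j, ev g (wd 2 l (i ^^^ j)) = ev g (wd 2 l i) * ev g (wd 2 l j)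
  | [], _, _, _ => (mul_one 1).symm
  | x :: l, h, i, j => by
    have le : gl g l ≤ gl g (x :: l) := gen_le fun w hw => mem_gen _ (List.mem_cons_of_mem _ hw)
    have c := (h.comm (le (wd_mem g 2 l (i / 2))) (by simpa using mem_gl g (l := x :: l) (w := [x]) (by simp))).pow_right (j % 2)
    have e : g x ^ ((i ^^^ j) % 2) = g x ^ (i % 2) * g x ^ (j % 2) := by
      have s := (sq _).trans (h x List.mem_cons_self).1
      rw [Nat.xor_mod_two_eq, ← pow_eq_pow_mod _ s, ← pow_eq_pow_mod _ s, ← pow_eq_pow_mod _ s, pow_add]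
    simp only [wd_cons, ev_append, ev_rep, Nat.xor_div_two, e,
      EA.xor (fun y hy => ⟨(h y (List.mem_cons_of_mem _ hy)).1, fun z hz => (h y (List.mem_cons_of_mem _ hy)).2 z (List.mem_cons_of_mem _ hz)⟩ : EA g l)]
    rw [mul_assoc, mul_assoc, ← mul_assoc (g x ^ (j % 2)), ← c.eq, mul_assoc]

noncomputable def lin (c : List ℕ) : ℕ → ℕ :=
  List.rec (motive := fun _ => ℕ → ℕ) (fun _ => 0) (fun a _ ih i =>
    force (Nat.div i 2) fun j => Nat.xor (Nat.mul a (Nat.mod i 2)) (ih j)) c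

theorem lin_cons (a : ℕ) (c : List ℕ) (i : ℕ) : lin (a :: c) i = (a * (i % 2)) ^^^ lin c (i / 2) :=
  force_eq (i / 2) fun j => (a * (i % 2)) ^^^ lin c j

/-- `a` acts on the letters `l` by the columns `c` -/
def Ac (g : ℕ → G) (vs : List ℕ) (a : G) (l c : List ℕ) : Prop := List.Forall₂ (fun x y => a * g x * a⁻¹ = ev g (wd 2 vs y)) l c

theorem Ac.lin {g : ℕ → G} {vs : List ℕ} (h : EA g vs) {a : G} : ∀ {l c}, Ac g vs a l c → ∀ i,
    a * ev g (wd 2 l i) * a⁻¹ = ev g (wd 2 vs (lin c i))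
  | _, _, .nil, i => by show a * 1 * _ = ev g (wd 2 vs 0); simp [wd_zero]
  | _, _, .cons (a := x) (b := y) h1 h2, i => by
    rw [wd_cons, lin_cons, h.xor, ← Ac.lin h h2, ev_append, ev_rep, ← conj_mul]
    congr 1
    rcases Nat.mod_two_eq_zero_or_one i with e | e <;> simp [e, wd_zero, h1]

noncomputable def colsW (C : ℕ → List ℕ) (u : List ℕ) (w : List ℕ) : List ℕ :=
  List.rec (motive := fun _ => List ℕ) u (fun x _ ih => ih.map (lin (C x))) w

theorem Ac.word {g : ℕ → G} {vs : List ℕ} (h : EA g vs) {C u} (hu : Ac g vs 1 vs u) : ∀ {w : List ℕ}, (∀ x ∈ w, Ac g vs (g x) vs (C x)) →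
    Ac g vs (ev g w) vs (colsW C u w)
  | [], _ => hu
  | x :: w, k => List.forall₂_map_right_iff.2 ((Ac.word h hu fun y hy => k y (List.mem_cons_of_mem _ hy)).imp fun y c e => by
      rw [← (k x List.mem_cons_self).lin h, ← e, ev_cons]; group)

noncomputable def eqm (n i j : ℕ) : Bool := Nat.beq (Nat.mod i n) (Nat.mod j n)

noncomputable def jvB (N n a b : ℕ) (u : List ℕ) (ML : List (List ℕ)) (IB : ℕ) (CM F : List ℕ) (k : ℕ) : Bool :=
  (fun M => Bool.rec (!allL (fun j => eqm n (lin M (lin M j)) j) u)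
    (allN (fun x => !tbk IB x || tbk (CM.getD k 0) x || !allL (fun j => eqm n (lin M (lin (ML.getD x []) j)) (lin (ML.getD x []) (lin M j))) u) N &&
      (Nat.beq k 0 || force (F.getD k 0) fun f => allN (fun i => tbk f i || !eqm n (lin M i) i) n && Nat.blt (2 * pop a f) n &&
        allN (fun x => Nat.beq x 0 || Nat.beq x k || !tbk (CM.getD k 0) x ||
          Nat.blt (pop b (Nat.land (CM.getD k 0) (CM.getD x 0)) * pop a (Nat.land f (F.getD x 0))) n) N)) (tbk IB k)) (ML.getD k [])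

theorem card_le_pops [Finite G] {A V : Subgroup G} {k ι : G → ℕ} (hk : ∀ a ∈ A, ∀ b ∈ A, k a = k b → a⁻¹ * b ∈ V)
    (hι : ∀ a ∈ V, ∀ b ∈ V, ι a = ι b → a = b) {K F : Finset ℕ} (h1 : ∀ a ∈ A, k a ∈ K) (h2 : ∀ a ∈ A, a ∈ V → ι a ∈ F) :
    Nat.card A ≤ K.card * F.card := by
  classical
  have : ∀ n, ∃ r, ∀ a ∈ A, k a = n → r ∈ A ∧ k r = n := fun n => by
    by_cases h : ∃ a ∈ A, k a = n
    exacts [h.imp fun r hr _ _ _ => hr, ⟨1, fun a ha e => (h ⟨a, ha, e⟩).elim⟩]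
  choose r hr using this
  have v : ∀ a ∈ A, (r (k a))⁻¹ * a ∈ V := fun a ha => hk _ (hr _ a ha rfl).1 _ ha (hr _ a ha rfl).2
  rw [← Finset.card_product, ← Nat.card_eq_finsetCard]
  refine Nat.card_le_card_of_injective (fun a => ⟨(k a, ι ((r (k a))⁻¹ * a)), Finset.mem_product.2
    ⟨h1 _ a.2, h2 _ (mul_mem (inv_mem (hr _ _ a.2 rfl).1) a.2) (v _ a.2)⟩⟩) fun a b e => ?_
  obtain ⟨e1, e2⟩ := Prod.ext_iff.1 (congrArg Subtype.val e)
  have := hι _ (v _ a.2) _ (v _ b.2) e2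
  rw [show k a = k b from e1] at this
  exact Subtype.ext (mul_left_cancel this)

theorem pop_card (a X : ℕ) : ((Finset.range (2 ^ (a + 3))).filter fun j => X.testBit j = true).card = pop a X := by
  rw [pop_eq, Nat.count_eq_card_filter_range]

theorem jv [Finite G] {g : ℕ → G} {ts vs : List ℕ} {W} (hE : ∀ e ∈ pcE 2 (ts ++ vs) W, ev g e.1 = ev g e.2) (h : pcOK (ts ++ vs) W = true)
    (h1 : 2 ^ (ts ++ vs).length ≤ Nat.card (gl g (ts ++ vs))) (hv : EA g vs) {C u} (hu : Ac g vs 1 vs u) (hC : ∀ x ∈ ts, Ac g vs (g x) vs (C x))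
    {a b N n : ℕ} (ha : vs.length = a + 3) (hb : ts.length = b + 3) (hN : 2 ^ ts.length = N) (hn : 2 ^ vs.length = n) {ML IB CM F}
    (hM : ∀ k < N, (ML.getD k [] == colsW C u (wd 2 ts k)) = true) (hJ : ∀ k < N, jvB N n a b u ML IB CM F k = true)
    : (Nat.card (gl g vs) = n ∧ IsElementaryAbelian 2 (gl g vs) ∧ ∀ x ∈ gl g (ts ++ vs), ∀ y ∈ gl g vs, x * y * x⁻¹ ∈ gl g vs) ∧
    ∀ A ≤ gl g (ts ++ vs), IsElementaryAbelian 2 A → A ≤ gl g vs ∨ Nat.card A < n := by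
  classical
  subst hN hn
  let v := fun i => ev g (wd 2 vs i)
  have vi : ∀ i j, v i = v j → eqm (2 ^ vs.length) i j = true := fun i j e => by
    have q : ∀ i, ev g (wd 2 (ts ++ vs) (2 ^ ts.length * (i % 2 ^ vs.length))) = v i := fun i => by
      rw [wd_app, ← wd_mod ts, Nat.mul_mod_right, wd_zero, Nat.mul_div_cancel_left _ (Nat.two_pow_pos _), wd_mod, List.nil_append]
    have l : ∀ i, 2 ^ ts.length * (i % 2 ^ vs.length) < 2 ^ (ts ++ vs).length := fun i => by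
      rw [List.length_append, pow_add]; exact Nat.mul_lt_mul_of_pos_left (Nat.mod_lt _ (Nat.two_pow_pos _)) (Nat.two_pow_pos _)
    exact Nat.beq_eq ▸ Nat.eq_of_mul_eq_mul_left (Nat.two_pow_pos _) (wd_inj two_pos hE h h1 (l i) (l j) ((q i).trans (e.trans (q j).symm)))
  have : ∀ x, ∃ k, x ∈ gl g (ts ++ vs) → k < 2 ^ ts.length ∧ ∃ i, x = ev g (wd 2 ts k) * v i := fun x => by
    by_cases hx : x ∈ gl g (ts ++ vs)
    · obtain ⟨w, hw, e⟩ := pc_nf two_pos hE h x hx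
      obtain ⟨i, -, rfl⟩ := nf_wd hw
      exact ⟨i % 2 ^ ts.length, fun _ => ⟨Nat.mod_lt _ (Nat.two_pow_pos _), _, by rw [e, wd_app, ev_append, wd_mod]⟩⟩
    · exact ⟨0, fun h => (hx h).elim⟩
  choose k hk using this
  have : ∀ x, ∃ i, x ∈ gl g vs → i < 2 ^ vs.length ∧ x = v i := fun x => by
    by_cases hx : x ∈ gl g vs
    · obtain ⟨i, e⟩ : ∃ i, x = v i := gl_ind (P := fun x => ∃ i, x = v i) ⟨0, by simp [v, wd_zero]⟩ (fun y hy a ⟨i, e⟩ => by
        obtain ⟨j, hj, rfl⟩ := List.getElem_of_mem hy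
        have := (List.forall₂_iff_get.1 hu).2 j hj ((List.forall₂_iff_get.1 hu).1 ▸ hj)
        exact ⟨_ ^^^ i, by rw [e]; exact ((hv.xor _ i).trans (congrArg (· * _) (this.symm.trans (by simp)))).symm⟩) x hx
      exact ⟨i % 2 ^ vs.length, fun _ => ⟨Nat.mod_lt _ (Nat.two_pow_pos _), e.trans (congrArg (ev g) (wd_mod vs i).symm)⟩⟩
    · exact ⟨0, fun h => (hx h).elim⟩
  choose ι hι using this
  have act : ∀ x ∈ gl g (ts ++ vs), ∀ i, x * v i * x⁻¹ = v (lin (ML.getD (k x) []) i) := fun x hx i => by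
    obtain ⟨l, j, e⟩ := hk x hx
    rw [eq_of_beq (hM _ l)]
    refine Eq.trans ?_ ((Ac.word hv hu fun y hy => hC y (wd_sub _ _ y hy)).lin hv i)
    nth_rewrite 1 2 [e]
    rw [mul_assoc _ (v j), (hv.comm (wd_mem g 2 vs j) (wd_mem g 2 vs i)).eq]
    simp only [v]
    group
  refine ⟨⟨?_, ⟨⟨⟨fun x y => Subtype.ext (hv.comm x.2 y.2).eq⟩⟩, fun x hx => ?_⟩, fun x hx y hy => ?_⟩, fun A hA ea => ?_⟩
  · rw [← Nat.card_fin (2 ^ vs.length)]
    refine (Nat.card_congr (Equiv.ofBijective (fun i : Fin (2 ^ vs.length) => (⟨v i, wd_mem g 2 vs i⟩ : gl g vs)) ⟨fun i j e => ?_,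
      fun x => ⟨⟨_, (hι _ x.2).1⟩, Subtype.ext (hι _ x.2).2.symm⟩⟩)).symm
    exact Fin.ext ((Nat.mod_eq_of_lt i.2).symm.trans ((Nat.eq_of_beq_eq_true (vi _ _ (congrArg Subtype.val e))).trans (Nat.mod_eq_of_lt j.2)))
  · rw [(hι x hx).2, sq, ← hv.xor, Nat.xor_self, wd_zero, ev_nil]
  · rw [(hι y hy).2, act x hx]; exact wd_mem g 2 vs _
  replace act := fun x hx => act x (hA hx)
  have cm : ∀ x ∈ A, ∀ y ∈ A, x * y = y * x := fun x hx y hy => congrArg Subtype.val (ea.1.is_comm.comm (⟨x, hx⟩ : A) ⟨y, hy⟩)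
  have J := fun x (hx : x ∈ A) => hJ _ (hk x (hA hx)).1
  have ib : ∀ x ∈ A, tbk IB (k x) = true := fun x hx => by
    have := J x hx
    by_contra n
    rw [jvB, Bool.eq_false_iff.2 n] at this
    refine Bool.eq_false_iff.1 ((Bool.not_eq_true' _).mp this) (allL_of fun j _ => vi _ _ ?_)
    rw [← act x hx, ← act x hx, show x * (x * v j * x⁻¹) * x⁻¹ = x ^ 2 * v j * (x ^ 2)⁻¹ by rw [sq]; group, ea.2 x hx]
    simp
  simp only [jvB] at J
  replace J := fun x hx => by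
    have := J x hx
    rw [ib x hx] at this
    exact Bool.and_eq_true_iff.1 this
  have cc : ∀ x ∈ A, ∀ y ∈ A, (CM.getD (k x) 0).testBit (k y) = true := fun x hx y hy => by
    have := allN_spec (J x hx).1 _ (hk y (hA hy)).1
    simp only [ib y hy, Bool.not_true, Bool.false_or, Bool.or_eq_true, Bool.not_eq_true', tbk_eq] at this
    refine this.resolve_right (Bool.eq_false_iff.not.2 (not_not.2 (allL_of fun j _ => vi _ _ ?_)))
    rw [← act x hx, ← act y hy, ← act y hy, ← act x hx, show x * (y * v j * y⁻¹) * x⁻¹ = x * y * v j * (x * y)⁻¹ by group, cm x hx y hy]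
    group
  by_cases q : ∃ x ∈ A, k x ≠ 0
  swap
  · refine .inl fun x hx => ?_
    obtain ⟨-, j, e⟩ := hk x (hA hx)
    rw [e, (by_contra fun n => q ⟨x, hx, n⟩ : k x = 0), wd_zero, ev_nil, one_mul]
    exact wd_mem g 2 vs j
  obtain ⟨x, hx, nx⟩ := q
  have J2 := fun x (hx : x ∈ A) (nx : k x ≠ 0) => by
    have := (J x hx).2
    simp only [force_eq, Bool.or_eq_true, Nat.beq_eq, nx, false_or, Bool.and_eq_true, Nat.blt_eq] at this
    exact this
  have ff : ∀ x ∈ A, k x ≠ 0 → ∀ y ∈ A, y ∈ gl g vs → (F.getD (k x) 0).testBit (ι y) = true := fun x hx nx y hy yv => by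
    have := allN_spec (J2 x hx nx).1.1 _ (hι y yv).1
    simp only [Bool.or_eq_true, Bool.not_eq_true', tbk_eq] at this
    refine this.resolve_right (Bool.eq_false_iff.not.2 (not_not.2 (vi _ _ ?_)))
    rw [← act x hx, ← (hι y yv).2, cm x hx y hy, mul_inv_cancel_right]
  have k1 : ∀ a ∈ A, ∀ b ∈ A, k a = k b → a⁻¹ * b ∈ gl g vs := fun a ha b hb e => by
    obtain ⟨-, i, e1⟩ := hk a (hA ha)
    obtain ⟨-, j, e2⟩ := hk b (hA hb)
    rw [show a⁻¹ * b = (v i)⁻¹ * v j by rw [e1, e2, e]; group]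
    exact mul_mem (inv_mem (wd_mem g 2 vs i)) (wd_mem g 2 vs j)
  have k2 : ∀ a ∈ gl g vs, ∀ b ∈ gl g vs, ι a = ι b → a = b := fun a ha b hb e => by rw [(hι a ha).2, e, ← (hι b hb).2]
  refine .inr ?_
  by_cases q : ∃ y ∈ A, k y ≠ 0 ∧ k y ≠ k x
  · obtain ⟨y, hy, n1, n2⟩ := q
    have := allN_spec (J2 x hx nx).2 _ (hk y (hA hy)).1
    simp only [Bool.or_eq_true, Nat.beq_eq, n1, n2, false_or, tbk_eq, cc x hx y hy, Bool.not_true, Bool.false_eq_true, Nat.blt_eq] at this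
    refine lt_of_le_of_lt ?_ this
    rw [← pop_card, ← pop_card]
    exact card_le_pops k1 k2 (fun z hz => Finset.mem_filter.2 ⟨Finset.mem_range.2 (hb ▸ (hk z (hA hz)).1), by
        rw [Nat.land_eq, Nat.testBit_and, cc x hx z hz, cc y hy z hz]; rfl⟩)
      fun z hz zv => Finset.mem_filter.2 ⟨Finset.mem_range.2 (ha ▸ (hι z zv).1), by
        rw [Nat.land_eq, Nat.testBit_and, ff x hx nx z hz zv, ff y hy n1 z hz zv]; rfl⟩
  · refine lt_of_le_of_lt ?_ (J2 x hx nx).1.2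
    rw [← pop_card]
    refine (card_le_pops (K := {0, k x}) k1 k2 (fun z hz => ?_) fun z hz zv => Finset.mem_filter.2
      ⟨Finset.mem_range.2 (ha ▸ (hι z zv).1), ff x hx nx z hz zv⟩).trans (Nat.mul_le_mul_right _ Finset.card_le_two)
    by_contra n
    exact q ⟨z, hz, fun e => n (by simp [e]), fun e => n (by simp [e])⟩

noncomputable def acE (vs w c : List ℕ) : List (List ℕ × List ℕ) := (vs.zip c).map fun e => (w ++ [e.1], wd 2 vs e.2 ++ w)
noncomputable def jvE (ts vs : List ℕ) (C : ℕ → List ℕ) (u : List ℕ) : List (List ℕ × List ℕ) :=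
  (vs.flatMap fun x => ([x, x], []) :: vs.map fun y => ([x, y], [y, x])) ++ acE vs [] u ++ ts.flatMap fun x => acE vs [x] (C x)

theorem Ac.of {g : ℕ → G} {vs w c : List ℕ} (h : ∀ e ∈ acE vs w c, ev g e.1 = ev g e.2) (l : vs.length = c.length) : Ac g vs (ev g w) vs c :=
  List.forall₂_iff_zip.2 ⟨l, fun {x y} k => by
    have := h _ (List.mem_map_of_mem k)
    simp only [ev_append, ev_cons, ev_nil, mul_one] at this
    rw [this, mul_inv_cancel_right]⟩

theorem jv_in {g : ℕ → G} {ts vs C u} (h : ∀ e ∈ jvE ts vs C u, ev g e.1 = ev g e.2)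
    (l : (Nat.beq vs.length u.length && ts.all fun x => Nat.beq vs.length (C x).length) = true) :
    EA g vs ∧ Ac g vs 1 vs u ∧ ∀ x ∈ ts, Ac g vs (g x) vs (C x) := by
  simp only [Bool.and_eq_true, List.all_eq_true, Nat.beq_eq] at l
  simp only [jvE, List.forall_mem_append, List.forall_mem_flatMap, List.forall_mem_cons, List.forall_mem_map] at h
  exact ⟨fun x hx => ⟨by simpa using (h.1.1 x hx).1, fun y hy => by simpa [Commute, SemiconjBy] using (h.1.1 x hx).2 y hy⟩,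
    Ac.of h.1.2 l.1, fun x hx => by simpa using Ac.of (h.2 x hx) (l.2 x hx)⟩

theorem jv_syl [Finite G] {S V : Subgroup G} {s n : ℕ} (hS : Nat.card S = 2 ^ s) (h2 : ¬ 2 ^ (s + 1) ∣ Nat.card G) (le : V ≤ S)
    (h : (Nat.card V = n ∧ IsElementaryAbelian 2 V ∧ ∀ x ∈ S, ∀ y ∈ V, x * y * x⁻¹ ∈ V) ∧
      ∀ A ≤ S, IsElementaryAbelian 2 A → A ≤ V ∨ Nat.card A < n) (T : Sylow 2 G) :
    (∀ A : Subgroup G, A ≤ T → (A.subgroupOf T).Normal → IsElementaryAbelian 2 A → Nat.card A ≤ n) ∧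
    ∃! A : Subgroup G, A ≤ T ∧ (A.subgroupOf T).Normal ∧ IsElementaryAbelian 2 A ∧ Nat.card A = n := by
  obtain ⟨c, hc⟩ := H6.exists_conj_le Nat.prime_two T.isPGroup' (H := S) fun e => h2 (by
    rw [← S.card_mul_index, hS, pow_succ]; exact Nat.mul_dvd_mul_left _ e)
  let f := (MulAut.conj c⁻¹).toMonoidHom
  have fi : Function.Injective f := (MulAut.conj c⁻¹).injective
  have fs : Function.Surjective f := (MulAut.conj c⁻¹).surjective
  have e : S.comap f = T := T.is_maximal' ((IsPGroup.of_card hS).comap_of_injective f fi) fun x hx => by simpa [f] using hc x hx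
  have q : ∀ A : Subgroup G, A ≤ T → IsElementaryAbelian 2 A → A ≤ V.comap f ∨ Nat.card A < n := fun A hA ea => by
    have := h.2 (A.map f) (map_le_iff_le_comap.2 (e ▸ hA)) ⟨by haveI := ea.1; infer_instance, by
      rintro _ ⟨x, hx, rfl⟩; rw [← map_pow, ea.2 x hx, map_one]⟩
    rwa [map_le_iff_le_comap, card_map_of_injective fi] at this
  have cV : Nat.card (V.comap f) = n := by rw [← card_map_of_injective fi, map_comap_eq_self_of_surjective fs, h.1.1]
  refine ⟨fun A hA _ ea => (q A hA ea).elim (fun l => cV ▸ card_le_of_le l) le_of_lt, V.comap f, ⟨e ▸ comap_mono le, ⟨fun y hy x => ?_⟩,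
    ⟨by haveI := h.1.2.1.1; exact comap_injective_isMulCommutative _ fi, fun x hx => fi (by rw [map_pow, h.1.2.1.2 _ hx, map_one])⟩, cV⟩,
    fun A hA => eq_of_le_of_card_ge ((q A hA.1 hA.2.2.1).resolve_right (hA.2.2.2 ▸ lt_irrefl _)) (by rw [cV, hA.2.2.2])⟩
  show f (x * y * (x : G)⁻¹) ∈ V
  rw [map_mul, map_mul, map_inv]
  exact h.1.2.2 _ (e.ge x.2) _ hy

end H0
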