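import Cfsg.Agent.H0.MatP

/-! Lane-parallel products of packed matrices over `ZMod 257`. -/

namespace H0
open BN H6 Matrix Finset

theorem pack_const (w n c : ℕ) : c * pack w n (fun _ => 1) = pack w n fun _ => c := by simp [pack, mul_sum]
theorem shand {w n s k : ℕ} (h : s + k ≤ w) (X : ℕ) :
    (X >>> s) &&& ((2 ^ k - 1) * pack w n fun _ => 1) = pack w n fun i => lane w X i / 2 ^ s % 2 ^ k := by
  have hk : ∀ i < n, 2 ^ k - 1 < 2 ^ w := fun _ _ =>
    (Nat.sub_lt (Nat.two_pow_pos k) one_pos).trans_le (Nat.pow_le_pow_right (by decide) (by omega))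
  rw [pack_const, eq_pack n (Nat.and_lt_two_pow _ (pack_lt' hk))]
  refine sum_congr rfl fun j hj => congrArg (· * _) (Nat.eq_of_testBit_eq fun t => ?_)
  have := congrArg (·.testBit t) (lane_pack hk (mem_range.1 hj))
  simp only [tb_lane, Nat.testBit_two_pow_sub_one] at this
  rw [tb_lane, Nat.testBit_and, Bool.and_left_comm, this, Nat.testBit_mod_two_pow, Nat.testBit_div_two_pow, tb_lane, Nat.testBit_shiftRight]
  by_cases e : t < k
  · simp [e, show s + t < w by omega, add_comm, add_left_comm, add_assoc]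
  · simp [e]
theorem pack_as {w n : ℕ} {f g h : ℕ → ℕ} (e : ∀ i < n, h i ≤ f i + g i) : pack w n f + pack w n g - pack w n h = pack w n fun i => f i + g i - h i := by
  refine Nat.sub_eq_of_eq_add ?_
  simp only [pack, ← sum_add_distrib]
  exact sum_congr rfl fun i hi => by rw [← add_mul, ← add_mul, Nat.sub_add_cancel (e i (mem_range.1 hi))]
def red1 (o c x : ℕ) : ℕ := Nat.sub (Nat.add (Nat.land x (Nat.mul 255 o)) (Nat.mul c o)) (Nat.land (Nat.shiftRight x 8) (Nat.mul 65535 o))
theorem red1_eq {n c x : ℕ} (hc : c < 2 ^ 23) (h : ∀ t < n, lane 24 x t / 256 ≤ c) {t : ℕ} (ht : t < n) :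
    lane 24 (red1 (pack 24 n fun _ => 1) c x) t = lane 24 x t % 256 + c - lane 24 x t / 256 := by
  have a := shand (w := 24) (n := n) (s := 0) (k := 8) (by decide) x
  have b := shand (w := 24) (n := n) (s := 8) (k := 16) (by decide) x
  have l := fun t => lane_lt' 24 x t
  have e : red1 (pack 24 n fun _ => 1) c x = _ := (congrArg₂ (· - ·) (congrArg₂ (· + ·) a (pack_const ..)) b).trans
    (pack_as fun i hi => by have := h i hi; omega)
  rw [e, lane_pack (fun i hi => by omega) ht]; have := l t; omega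
theorem fin257 {F y z : ℕ} (h : F < 2 ^ 23) (hy : y = F % 256 + 32896 - F / 256) (hz : z = y % 256 + 257 - y / 256) :
    (z + 0 - 257 * ((z + 255) / 512 % 2)) % 512 = F % 257 := by
  have a : F + 32896 = y + 257 * (F / 256) := by omega
  have b : y + 257 = z + 257 * (y / 256) := by omega
  have c : 128 ≤ z ∧ z ≤ 512 := by omega
  have d : z % 257 = F % 257 := by omega
  rw [← d]; clear a b d hy hz h
  rcases le_or_gt 257 z with e | e
  · rw [show (z + 255) / 512 = 1 by omega]; omega
  · rw [show (z + 255) / 512 = 0 by omega]; omega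
noncomputable def mulQ (n o oc r a b : ℕ) : ℕ :=
  force (sumLt n fun k => Nat.mul (Nat.land (Nat.shiftRight a (Nat.mul 24 k)) oc) (Nat.land (lane (Nat.mul 24 n) b k) r)) fun x =>
    force (red1 o 32896 x) fun y => force (red1 o 257 y) fun z =>
      Nat.sub z (Nat.mul 257 (Nat.land (Nat.shiftRight (Nat.add z (Nat.mul 255 o)) 9) o))
theorem mulQ_spec {n : ℕ} (hn : n ≤ 32) (a b : ℕ) {i j : ℕ} (hi : i < n) (hj : j < n) :
    eP n 24 9 (mulQ n (pack 24 (n * n) fun _ => 1) (511 * pack (24 * n) n fun _ => 1) (511 * pack 24 n fun _ => 1) a b) i j =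
      (∑ k ∈ range n, eP n 24 9 a i k * eP n 24 9 b k j) % 257 := by
  have he : ∀ a i j, eP n 24 9 a i j < 512 := fun _ _ _ => Nat.mod_lt _ (by decide)
  have hS : ∀ i j, ∑ k ∈ range n, eP n 24 9 a i k * eP n 24 9 b k j < 2 ^ 23 := fun i j =>
    (sum_le_card_nsmul _ _ (511 * 511) fun k _ => Nat.mul_le_mul (Nat.le_of_lt_succ (he a i k)) (Nat.le_of_lt_succ (he b k j))).trans_lt
      (by simp; omega)
  rw [mulQ, force_eq, force_eq, force_eq]
  generalize hx : sumLt n _ = x
  have ex : x = pack (24 * n) n fun i => pack 24 n fun j => ∑ k ∈ range n, eP n 24 9 a i k * eP n 24 9 b k j := by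
    rw [← hx, sumLt_eq]
    simp only [pack, sum_mul]
    rw [sum_congr rfl fun _ _ => sum_comm, sum_comm]
    refine sum_congr rfl fun k hk => ?_
    have hk := mem_range.1 hk
    refine (congrArg₂ (· * ·) (shand (w := 24 * n) (s := 24 * k) (k := 9) (by omega) a) (shand (w := 24) (s := 0) (k := 9) (by decide) (lane (24 * n) b k))).trans ?_
    simp only [pack, sum_mul_sum]
    refine sum_congr rfl fun i _ => sum_congr rfl fun j hj => ?_
    rw [lane_lane b k (mem_range.1 hj), show lane (24 * n) a i / 2 ^ (24 * k) % 2 ^ 9 = eP n 24 9 a i k from ?_, pow_zero, Nat.div_one]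
    · show _ * _ * (eP n 24 9 b k j * _) = _; ring
    · show _ = lane 24 a (n * i + k) % 2 ^ 9
      rw [← lane_lane a i hk, ← Nat.shiftRight_eq_div_pow]; exact (Nat.mod_mod_of_dvd _ (by decide)).symm
  have lx : ∀ i < n, ∀ j < n, lane 24 x (n * i + j) = ∑ k ∈ range n, eP n 24 9 a i k * eP n 24 9 b k j := fun i hi j hj => by
    have b : ∀ i, ∀ j < n, ∑ k ∈ range n, eP n 24 9 a i k * eP n 24 9 b k j < 2 ^ 24 := fun i j _ => (hS i j).trans (by decide)
    rw [← lane_lane _ i hj, ex, lane_pack (fun _ _ => pack_lt' (b _)) hi, lane_pack (b _) hj]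
  have bx : ∀ t < n * n, lane 24 x t < 2 ^ 23 := fun t ht => by
    rw [← Nat.div_add_mod t n, lx _ (Nat.div_lt_of_lt_mul ht) _ (Nat.mod_lt _ (by omega))]; exact hS ..
  have ly := fun t ht => red1_eq (n := n * n) (x := x) (c := 32896) (by decide) (fun t ht => by have := bx t ht; omega) (t := t) ht
  have lz := fun t ht => red1_eq (n := n * n) (x := red1 (pack 24 (n * n) fun _ => 1) 32896 x) (c := 257) (by decide) (fun t ht => by have := bx t ht; rw [ly t ht]; omega) (t := t) ht
  have ez : ∃ f, (∀ t < n * n, f t ≤ 512) ∧ red1 (pack 24 (n * n) fun _ => 1) 257 (red1 (pack 24 (n * n) fun _ => 1) 32896 x) = pack 24 (n * n) f := by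
    refine ⟨_, fun t ht => (lz t ht).le.trans (by omega), eq_pack _ (lt_of_le_of_lt (Nat.sub_le ..) ?_)⟩
    have a := shand (w := 24) (n := n * n) (s := 0) (k := 8) (by decide) (red1 (pack 24 (n * n) fun _ => 1) 32896 x)
    exact ((congrArg₂ (· + ·) a (pack_const ..)).trans ((Nat.sub_zero _).symm.trans ((congrArg _ (by simp [pack])).trans
      (pack_as (h := fun _ => 0) fun _ _ => Nat.zero_le _)))).trans_lt (pack_lt' fun _ _ => by omega)
  obtain ⟨f, hf, ez⟩ := ez
  have ht : n * i + j < n * n := by nlinarith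
  have := lz _ ht
  rw [ly _ ht, ez, lane_pack (fun t h => (hf t h).trans_lt (by decide)) ht, lx i hi j hj] at this
  have e1 : pack 24 (n * n) f + 255 * pack 24 (n * n) (fun _ => 1) = pack 24 (n * n) fun t => f t + 255 := by
    simp [pack, mul_sum, add_mul, sum_add_distrib]
  have e2 := shand (w := 24) (n := n * n) (s := 9) (k := 1) (by decide) (pack 24 (n * n) fun t => f t + 255)
  show lane 24 (_ - 257 * ((_ + 255 * _) >>> 9 &&& _)) (n * i + j) % 512 = _
  rw [ez, e1, ← one_mul (pack 24 (n * n) fun _ => 1), show (_ &&& 1 * _) = _ from e2]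
  have e3 : pack 24 (n * n) f - 257 * pack 24 (n * n) (fun t => lane 24 (pack 24 (n * n) fun t => f t + 255) t / 2 ^ 9 % 2 ^ 1) =
      pack 24 (n * n) fun t => f t + 0 - 257 * ((f t + 255) / 512 % 2) := by
    rw [← pack_as fun t h => by have := hf t h; omega]
    refine congrArg₂ (· - ·) (by simp [pack]) ?_
    rw [pack, mul_sum]
    exact sum_congr rfl fun t h => by rw [lane_pack (fun t h => by have := hf t h; omega) (mem_range.1 h), ← mul_assoc]; rfl
  rw [e3, lane_pack (fun t h => by have := hf t h; omega) ht, this]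
  exact fin257 (hS i j) rfl rfl
noncomputable def mcQ (n o oc r u : ℕ) (h : okP 257 n 24 9 r u = true)
    (h2 : n ≤ 32 ∧ o = pack 24 (n * n) (fun _ => 1) ∧ oc = 511 * pack (24 * n) n (fun _ => 1) ∧ r = 511 * pack 24 n fun _ => 1) :
    MC (Matrix (Fin n) (Fin n) (ZMod 257)) :=
  { mcP 257 n 24 9 r u h with
    mul := mulQ n o oc r
    hmul := fun a b => by
      obtain ⟨h1, rfl, rfl, rfl⟩ := h2
      ext i j
      simp only [mcP, of_apply, mul_apply, mulQ_spec h1 a b i.2 j.2, ZMod.natCast_mod, Nat.cast_sum, Nat.cast_mul]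
      exact (Fin.sum_univ_eq_sum_range (fun k => (eP n 24 9 a i k : ZMod 257) * eP n 24 9 b k j) n).symm }
end H0
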