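import Cfsg.Agent.H0.Cox
import Cfsg.Agent.H0.MON.Main
import Cfsg.Prelude.Def_Spor_ON
set_option maxRecDepth 100000
namespace H0.PON
def idx (a : Cfsg.Spor.ON.Gen) : ℕ := Cfsg.Spor.ON.Gen.casesOn (motive := fun _ => ℕ) a 0 2 3 4 5 6 7
def tr : List (FreeGroup Cfsg.Spor.ON.Gen) := [Cfsg.Spor.ON.g, Cfsg.Spor.ON.g⁻¹, Cfsg.Spor.ON.a, Cfsg.Spor.ON.b, Cfsg.Spor.ON.c, Cfsg.Spor.ON.d, Cfsg.Spor.ON.e, Cfsg.Spor.ON.f]
theorem h1 : ∀ a, idx a < 8 ∧ tr.getD (idx a) 1 = FreeGroup.of a := by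
  intro a; cases a <;> exact ⟨by decide, rfl⟩
theorem h2 : coxChk Cfsg.Spor.ON.edges Cfsg.Spor.ON.extra 8 MON.B idx MON.inv tr = true := by decide +kernel
noncomputable def P : Pres Cfsg.Spor.ON 8 MON.B := Pres.ofCox _ _ _ _ idx MON.inv tr h1 h2
end H0.PON
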