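import Cfsg.Agent.H0.Cox
import Cfsg.Agent.H0.MSuz.Main
import Cfsg.Prelude.Def_Spor_Suz
set_option maxRecDepth 100000
namespace H0.PSuz
def idx (a : Cfsg.Spor.Suz.Gen) : ℕ := Cfsg.Spor.Suz.Gen.casesOn (motive := fun _ => ℕ) a 0 1 2 3 4 5 6
def tr : List (FreeGroup Cfsg.Spor.Suz.Gen) := [Cfsg.Spor.Suz.a, Cfsg.Spor.Suz.b, Cfsg.Spor.Suz.c, Cfsg.Spor.Suz.d, Cfsg.Spor.Suz.e, Cfsg.Spor.Suz.f, Cfsg.Spor.Suz.g]
theorem h1 : ∀ a, idx a < 7 ∧ tr.getD (idx a) 1 = FreeGroup.of a := by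
  intro a; cases a <;> exact ⟨by decide, rfl⟩
theorem h2 : coxChk Cfsg.Spor.Suz.edges Cfsg.Spor.Suz.extra 7 MSuz.B idx MSuz.inv tr = true := by decide +kernel
noncomputable def P : Pres Cfsg.Spor.Suz 7 MSuz.B := Pres.ofCox _ _ _ _ idx MSuz.inv tr h1 h2
end H0.PSuz
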