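import Cfsg.Agent.H0.Pc
import Cfsg.Agent.H0.TT
import Cfsg.Agent.H0.Cent

/-! Classes of `p`-elements by indexed normal forms; fixed point counts of subgroups. -/

namespace H0
open BN Subgroup
variable {G : Type*} [Group G]

noncomputable def wd (p : ℕ) (l : List ℕ) : ℕ → List ℕ :=
  List.rec (motive := fun _ => ℕ → List ℕ) (fun _ => []) (fun x _ ih i =>
    force (Nat.div i p) fun j => List.replicate (Nat.mod i p) x ++ ih j) l

theorem wd_cons (p x : ℕ) (l : List ℕ) (i : ℕ) : wd p (x :: l) i = List.replicate (i % p) x ++ wd p l (i / p) :=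
  force_eq (i / p) fun j => List.replicate (i % p) x ++ wd p l j

theorem wd_zero (p : ℕ) : ∀ l, wd p l 0 = []
  | [] => rfl
  | x :: l => by simp [wd_cons, wd_zero p l]

theorem nf_wd {p : ℕ} : ∀ {l w}, w ∈ nfW p l → ∃ i < p ^ l.length, w = wd p l i
  | [], w, h => ⟨0, by simp, (by simpa [nfW] using h : w = [])⟩
  | x :: l, w, h => by
    simp only [nfW, List.mem_flatMap, List.mem_range, List.mem_map] at h
    obtain ⟨e, he, v, hv, rfl⟩ := h
    obtain ⟨i, hi, rfl⟩ := nf_wd hv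
    refine ⟨e + p * i, ?_, by
      rw [wd_cons, Nat.add_mul_mod_self_left, Nat.mod_eq_of_lt he, Nat.add_mul_div_left _ _ (by omega), Nat.div_eq_of_lt he, zero_add]⟩
    rw [List.length_cons, pow_succ']
    nlinarith

noncomputable def needI (R : Rep) (bs : List ℕ) (p k : ℕ) (l : List ℕ) (S a n : ℕ) : Bool :=
  allN (fun i => force (Nat.add a i) fun j => Nat.beq j 0 || tbk S j || bs.any (neP R (wpow (wd p l j) k))) n

theorem Model.needI_of (m : Model G) {bs p k l S a n} (h : needI m.R bs p k l S a n = true) :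
    ∀ i < n, ev m.g (wd p l (a + i)) ^ k = 1 → ev m.g (wd p l (a + i)) ≠ 1 → S.testBit (a + i) = true := fun i hi e n => by
  have := allN_spec h i hi
  simp only [force_eq, Bool.or_eq_true, Nat.beq_eq, tbk_eq, List.any_eq_true, Nat.add_eq] at this
  rcases this with (h | h) | ⟨b, -, h⟩
  exacts [(n (by rw [h, wd_zero, ev_nil])).elim, h, (neP_of m h (by rw [ev_wpow, e])).elim]

noncomputable def chainB (T : ℕ) (L : List (ℕ × ℕ × ℕ)) : ℕ → Bool :=
  List.rec (motive := fun _ => ℕ → Bool) (fun S => Nat.beq S T)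
    (fun e _ ih S => Bool.rec false (force (Nat.lor S (Nat.pow 2 e.1)) ih) (tbk S e.2.2)) L

noncomputable def chE (p : ℕ) (l : List ℕ) (L : List (ℕ × ℕ × ℕ)) : List (List ℕ × List ℕ) :=
  L.map fun e => (e.2.1 :: wd p l e.2.2, wd p l e.1 ++ [e.2.1])

def Cl (g : ℕ → G) (p : ℕ) (l Rs : List ℕ) (S : ℕ) : Prop :=
  ∀ i, S.testBit i = true → ∃ r ∈ Rs, IsConj (ev g (wd p l r)) (ev g (wd p l i))

theorem cl_zero (g : ℕ → G) (p : ℕ) (l Rs : List ℕ) : Cl g p l Rs (bitsL Rs) := fun i h => ⟨i, bitsL_spec h, IsConj.refl _⟩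

theorem Cl.step {g : ℕ → G} {p : ℕ} {l Rs : List ℕ} {T : ℕ} : ∀ {L S}, Cl g p l Rs S → (∀ e ∈ chE p l L, ev g e.1 = ev g e.2) →
    chainB T L S = true → Cl g p l Rs T
  | [], S, h, _, e => Nat.eq_of_beq_eq_true e ▸ h
  | a :: L, S, h, h1, e => by
    have e : Bool.rec false (force (S ||| 2 ^ a.1) (chainB T L)) (tbk S a.2.2) = true := e
    cases q : tbk S a.2.2 with
    | false => rw [q] at e; cases e
    | true =>
      rw [q, force_eq] at e
      refine Cl.step (fun i hi => ?_) (fun e he => h1 e (List.mem_cons_of_mem _ he)) e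
      rw [Nat.testBit_or, Bool.or_eq_true, Nat.testBit_two_pow, decide_eq_true_eq] at hi
      rcases hi with hi | rfl
      · exact h i hi
      · obtain ⟨r, hr, c⟩ := h _ (tbk_eq _ _ ▸ q)
        have := h1 _ List.mem_cons_self
        simp only [ev_cons, ev_append, ev_nil, mul_one] at this
        exact ⟨r, hr, c.trans (isConj_iff.2 ⟨g a.2.1, by rw [this, mul_inv_cancel_right]⟩)⟩

theorem cls2 [Finite G] {g : ℕ → G} {p j : ℕ} (hp : p.Prime) {l W} (hE : ∀ e ∈ pcE p l W, ev g e.1 = ev g e.2)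
    (h1 : p ^ l.length ≤ Nat.card (gl g l)) {n : ℕ} (hn : Nat.card G = n) {Rs S N} (h3 : Cl g p l Rs S)
    (h4 : ∀ i < N, ev g (wd p l i) ^ p ^ j = 1 → ev g (wd p l i) ≠ 1 → S.testBit i = true)
    (h : (pcOK l W && Nat.ble (p ^ l.length) N && !Nat.beq (n % p ^ (l.length + 1)) 0) = true)
    (x : G) (hx : x ^ p ^ j = 1) (h0 : x ≠ 1) : ∃ r ∈ Rs, IsConj (ev g (wd p l r)) x := by
  simp only [Bool.and_eq_true, Nat.beq_eq, Bool.not_eq_true', ← Bool.not_eq_true, Nat.ble_eq] at h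
  obtain ⟨c, hc⟩ := pc_conj hp hE h.1.1 h1 (fun e => h.2 (Nat.mod_eq_zero_of_dvd (hn ▸ e))) (P := zpowers x) fun ⟨y, i, e⟩ =>
    ⟨j, Subtype.ext (by simp only [SubgroupClass.coe_pow, ← e]; rw [← zpow_natCast, ← zpow_mul, mul_comm, zpow_mul, zpow_natCast, hx]; simp)⟩
  obtain ⟨w, hw, e⟩ := hc x (mem_zpowers x)
  obtain ⟨i, hi, rfl⟩ := nf_wd hw
  have c2 : IsConj (ev g (wd p l i)) x := isConj_iff.2 ⟨c, by rw [← e]; group⟩
  obtain ⟨r, hr, c3⟩ := h3 i (h4 i (hi.trans_le h.1.2) (by rw [← e, ← inv_inv c, inv_inv c⁻¹, conj_pow, hx]; simp)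
    fun q => h0 (isConj_one_right.1 (q ▸ c2)))
  exact ⟨r, hr, c3.trans c2⟩

noncomputable def cntF (R : Rep) (u : List ℕ) (n : ℕ) : ℕ :=
  Nat.rec (motive := fun _ => ℕ) 0 (fun j ih => force ih fun c => wpt R u j fun y => Bool.rec c (Nat.succ c) (Nat.beq y j)) n

theorem cntF_eq (R : Rep) (u : List ℕ) : ∀ n, cntF R u n = Nat.count (fun j => ev R.p u j = j) n
  | 0 => rfl
  | n + 1 => by
    rw [Nat.count_succ, ← cntF_eq R u n]
    refine (force_eq (cntF R u n) fun c => wpt R u n fun y => Bool.rec (motive := fun _ => ℕ) c (Nat.succ c) (Nat.beq y n)).trans ?_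
    rw [wpt_eq]
    by_cases h : ev R.p u n = n
    · rw [if_pos h, h, Nat.beq_refl]
    · rw [if_neg h, Bool.eq_false_iff.2 fun e => h (Nat.eq_of_beq_eq_true e)]; rfl

namespace Model
variable (m : Model G)

noncomputable def fs (X : Subgroup G) : ℕ := {j | j < m.R.N ∧ ∀ x ∈ X, m.φ x j = j}.ncard

theorem fs_map (hB : m.Bdd) (X : Subgroup G) (g : G) : m.fs (X.map (MulAut.conj g).toMonoidHom) = m.fs X := by
  rw [fs, fs, eq_comm, ← Set.ncard_image_of_injective _ (m.φ g).injective, eq_comm]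
  congr 1
  ext j
  constructor
  · rintro ⟨h1, h2⟩
    refine ⟨m.φ g⁻¹ j, ⟨hB _ _ h1, fun x hx => ?_⟩, by simp⟩
    rw [← Equiv.Perm.mul_apply, ← map_mul, show x * g⁻¹ = g⁻¹ * (g * x * g⁻¹) by group, map_mul, Equiv.Perm.mul_apply,
      h2 (g * x * g⁻¹) ⟨x, hx, rfl⟩]
  · rintro ⟨i, ⟨h1, h2⟩, rfl⟩
    refine ⟨hB _ _ h1, ?_⟩
    rintro _ ⟨x, hx, rfl⟩
    show m.φ (g * x * g⁻¹) _ = _
    simp [h2 x hx]

theorem fs_zp {u v : List ℕ} {c : ℕ} (h : (eqW m.R 0 m.R.lg u v && Nat.beq (cntF m.R v m.R.N) c) = true) :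
    m.fs (zpowers (ev m.g u)) = c := by
  rw [Bool.and_eq_true] at h
  rw [← Nat.eq_of_beq_eq_true h.2, cntF_eq, ← eq_of_eqW _ h.1, ← m.φ_ev, Nat.count_eq_card_filter_range, ← Set.ncard_coe_finset, fs]
  congr 1
  ext j
  simp only [Set.mem_setOf_eq, Finset.coe_filter, Finset.mem_range]
  refine and_congr_right fun _ => ⟨fun h => h _ (mem_zpowers _), fun h x hx => ?_⟩
  exact (zpowers_le (H := m.pst [j])).2 (m.mem_pst.2 (by simpa using h)) hx j (by simp)
end Model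

theorem sub_cls {p n : ℕ} (hp : p.Prime) (y : Fin n → G) (hy : ∀ i, y i ^ p = 1 ∧ y i ≠ 1) (f : Subgroup G → ℕ)
    (hf : ∀ X g, f (X.map (MulAut.conj g).toMonoidHom) = f X) (hi : Function.Injective fun i => f (zpowers (y i)))
    (hc : ∀ x, x ^ p ^ 1 = 1 → x ≠ 1 → ∃ i, IsConj (y i) x) :
    ∃ Y : Fin n → Subgroup G, (∀ i, Nat.card (Y i) = p) ∧ (∀ i j, (∃ g : G, (Y i).map (MulAut.conj g).toMonoidHom = Y j) → i = j) ∧
      ∀ X : Subgroup G, Nat.card X = p → ∃ i, ∃ g : G, X.map (MulAut.conj g).toMonoidHom = Y i := by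
  haveI := Fact.mk hp
  refine ⟨fun i => zpowers (y i), fun i => by rw [Nat.card_zpowers, orderOf_eq_prime (hy i).1 (hy i).2],
    fun i j ⟨g, h⟩ => hi ((hf _ g).symm.trans (congrArg f h)), fun X hX => ?_⟩
  obtain ⟨x, rfl⟩ := (Subgroup.isCyclic_iff_exists_zpowers_eq_top X).1 (isCyclic_of_prime_card hX)
  rw [Nat.card_zpowers] at hX
  obtain ⟨i, h⟩ := hc x (by rw [pow_one, ← hX, pow_orderOf_eq_one]) (by rintro rfl; exact hp.one_lt.ne (by simpa using hX))
  obtain ⟨g, h⟩ := isConj_iff.1 h.symm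
  exact ⟨i, g, by rw [MonoidHom.map_zpowers]; exact congrArg zpowers h⟩

end H0
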