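import Cfsg.Agent.H0.Pc
import Cfsg.Agent.H0.Sym

/-! Transport of models along isomorphisms. -/

namespace H0
open BN Subgroup
namespace Model
variable {G H : Type*} [Group G] [Group H] (m : Model G) (e : G ≃* H)
def map : Model H := ⟨fun x => e (m.g x), m.R, m.φ.comp e.symm.toMonoidHom, fun x => by simp [m.hφ]⟩
theorem map_pst (bs : List ℕ) : (m.map e).pst bs = (m.pst bs).map e.toMonoidHom := by
  ext x; rw [mem_map_equiv]; rfl
theorem map_base {bs : List ℕ} (h : m.pst bs = ⊥) : (m.map e).pst bs = ⊥ := by rw [map_pst, h, Subgroup.map_bot]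
theorem map_orb (a : ℕ) : (m.map e).orb ⊤ a = m.orb ⊤ a :=
  Set.ext fun _ => ⟨fun ⟨k, _, h⟩ => ⟨e.symm k, trivial, h⟩, fun ⟨k, _, h⟩ => ⟨e k, trivial, by simpa [map] using h⟩⟩
theorem index0 {a n lo : ℕ} (h : m.orb ⊤ a = Set.Ico lo (lo + n)) : (m.pst [a]).index = n := by
  rw [← relIndex_top_right, relIndex_pst, h, ncard_ico]
theorem ex_pt {a b n lo : ℕ} (h : m.orb ⊤ a = Set.Ico lo (lo + n)) (hb : lo ≤ b ∧ b < lo + n) : ∃ g, m.φ g a = b :=
  let ⟨g, _, h⟩ := h.ge hb; ⟨g, h⟩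
end Model
theorem alt_off {G : Type*} [Group G] (g : ℕ → G) (off : ℕ) {n : ℕ}
    (h : ∀ e ∈ ((altW n).map (sh off)).map fun r => (r, ([] : List ℕ)), ev g e.1 = ev g e.2) (hn : 3 ≤ n) (h1 : ev g [off] ≠ ev g []) :
    Nonempty (alternatingGroup (Fin (n + 2)) ≃* gen g ((lets n).map (sh off))) := by
  obtain ⟨θ, a, b⟩ := alt_emb (g := fun x => g (off + x)) (rels_sh (rels_of_pairs h)) hn (by simpa using h1)
  exact ⟨(θ.ofInjective a).trans (MulEquiv.subgroupCongr (b.trans (gen_sh ..)))⟩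
theorem sym_off {G : Type*} [Group G] (g : ℕ → G) (off : ℕ) {n : ℕ}
    (h : ∀ e ∈ ((coxW n).map (sh off)).map fun r => (r, ([] : List ℕ)), ev g e.1 = ev g e.2) (hn : 4 ≤ n) (h1 : ev g [off] ≠ ev g [off + 1]) :
    Nonempty (Equiv.Perm (Fin (n + 1)) ≃* gen g ((lets n).map (sh off))) := by
  obtain ⟨θ, a, b⟩ := sym_emb (g := fun x => g (off + x)) (rels_sh (rels_of_pairs h)) hn (by simpa using h1)
  exact ⟨(θ.ofInjective a).trans (MulEquiv.subgroupCongr (b.trans (gen_sh ..)))⟩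
end H0
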