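import Cfsg.Agent.H0.Stein
set_option maxRecDepth 100000
namespace H0.St11
open H0.St
def s64 : List ℕ := [244, 812]
def s0 : List ℕ := [527, 1299, 790, 1294, 793, 1826, 1577, 299, 309, 62, 1588, 1797, 1336, 1612, 91, 348, 1603, 865, 1380, 614, 1137, 632, 842, 1110, 109, 1928, 397, 1681, 151, 677, 1196, 944, 1202, 682, 1163, 668, 422, 1474, 1221, 722, 964, 1240, 227, 488, 465, 1562, 1063, 1353, 597, 370, 899, 1428, 185, 206, 1760, 1053, 563, 327, 1872, 1130, 1670, 410, 1441, 713]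
noncomputable def t0 : T := (.br 278 [] (.cons 790 (.br 281 [] (.cons 793 (.br 291 [] (.cons 803 (.br 294 [] (.cons 1318 (.br 325 [] (.cons 837 (.br 344 [] (.cons 1368 (.br 353 [] (.cons 1377 (.br 360 [] (.cons 872 (.br 394 [] (.cons 906 (.br 402 [] (.cons 1426 (.br 420 [] (.cons 932 (.br 424 [] (.cons 1448 (.br 452 [] (.cons 1476 (.br 464 [] (.cons 976 (.br 519 [] (.cons 1543 (.br 538 [] (.cons 1562 (.br 553 [] (.cons 1577 (.br 593 [] (.cons 1617 (.br 612 [] (.cons 1636 (.br 660 [] (.cons 1684 (.br 674 [] (.cons 1698 (.br 712 [] (.cons 1736 (.br 780 [] (.cons 1804 (.br 816 [] (.cons 1840 (.br 834 [] (.cons 1858 (.br 897 [] (.cons 1921 (.fin 5780384092620832) .nil)) .nil)) .nil)) .nil)) .nil)) .nil)) .nil)) .nil)) .nil)) .nil)) .nil)) .nil)) .nil)) .nil)) .nil)) .nil)) .nil)) .nil)) .nil)) .nil)) .nil)) .nil)) .nil)) .nil)) .nil)) .nil))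
noncomputable def t1 : T := (.br 281 [] (.cons 1305 (.br 282 [] (.cons 794 (.br 291 [] (.cons 803 (.br 298 [] (.cons 1322 (.br 326 [] (.cons 838 (.br 338 [] (.cons 1362 (.br 356 [] (.cons 1380 (.br 360 [] (.cons 872 (.br 393 [] (.cons 905 (.br 404 [] (.cons 1428 (.br 417 [] (.cons 1441 (.br 420 [] (.cons 932 (.br 456 [] (.cons 1480 (.br 464 [] (.cons 976 (.br 523 [] (.cons 1547 (.br 534 [] (.cons 1558 (.br 549 [] (.cons 1573 (.br 600 [] (.cons 1624 (.br 610 [] (.cons 1634 (.br 657 [] (.cons 1681 (.br 680 [] (.cons 1704 (.br 708 [] (.cons 1732 (.br 780 [] (.cons 1804 (.br 816 [] (.cons 1840 (.br 833 [] (.cons 1857 (.br 898 [] (.cons 1922 (.fin 11406648508778528) .nil)) .nil)) .nil)) .nil)) .nil)) .nil)) .nil)) .nil)) .nil)) .nil)) .nil)) .nil)) .nil)) .nil)) .nil)) .nil)) .nil)) .nil)) .nil)) .nil)) .nil)) .nil)) .nil)) .nil)) .nil)) .nil))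
noncomputable def t2 : T := (.br 278 [] (.cons 790 (.br 284 [] (.cons 1308 (.br 298 [] (.cons 1322 (.br 312 [] (.cons 824 (.br 325 [] (.cons 837 (.br 338 [] (.cons 1362 (.br 353 [] (.cons 1377 (.br 354 [] (.cons 866 (.br 393 [] (.cons 1417 (.br 396 [] (.cons 908 (.br 417 [] (.cons 929 (.br 432 [] (.cons 1456 (.br 452 [] (.cons 1476 (.br 464 [] (.cons 976 (.br 525 [] (.cons 1549 (.br 538 [] (.cons 1562 (.br 547 [] (.cons 1571 (.br 582 [] (.cons 1606 (.br 624 [] (.cons 1648 (.br 660 [] (.cons 1684 (.br 680 [] (.cons 1704 (.br 705 [] (.cons 1729 (.br 785 [] (.cons 1809 (.br 804 [] (.cons 1828 (.br 840 [] (.cons 1864 (.br 898 [] (.cons 1922 (.fin 10279615773902880) .nil)) .nil)) .nil)) .nil)) .nil)) .nil)) .nil)) .nil)) .nil)) .nil)) .nil)) .nil)) .nil)) .nil)) .nil)) .nil)) .nil)) .nil)) .nil)) .nil)) .nil)) .nil)) .nil)) .nil)) .nil)) .nil))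
noncomputable def t3 : T := (.br 282 [] (.cons 794 (.br 284 [] (.cons 1308 (.br 294 [] (.cons 1318 (.br 308 [] (.cons 820 (.br 325 [] (.cons 1349 (.br 332 [] (.cons 844 (.br 353 [] (.cons 865 (.br 368 [] (.cons 1392 (.br 393 [] (.cons 905 (.br 402 [] (.cons 1426 (.br 417 [] (.cons 1441 (.br 418 [] (.cons 930 (.br 456 [] (.cons 1480 (.br 464 [] (.cons 976 (.br 525 [] (.cons 1549 (.br 534 [] (.cons 1558 (.br 547 [] (.cons 1571 (.br 600 [] (.cons 1624 (.br 612 [] (.cons 1636 (.br 650 [] (.cons 1674 (.br 688 [] (.cons 1712 (.br 705 [] (.cons 1729 (.br 785 [] (.cons 1809 (.br 808 [] (.cons 1832 (.br 834 [] (.cons 1858 (.br 900 [] (.cons 1924 (.fin 8031014733580320) .nil)) .nil)) .nil)) .nil)) .nil)) .nil)) .nil)) .nil)) .nil)) .nil)) .nil)) .nil)) .nil)) .nil)) .nil)) .nil)) .nil)) .nil)) .nil)) .nil)) .nil)) .nil)) .nil)) .nil)) .nil)) .nil))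
def S : List ℕ := s0 ++ (s64)
noncomputable def tr : T := (.br 15 [(47, 11584701610428448, 31), (79, 11584700537735200, 31), (143, 11584666179045408, 31), (271, 11583566668466208, 31), (527, 11548382297425952, 31), (1039, 10422482391631904, 31)] (.cons 31 (.br 39 [(167, 11584668356937760, 103), (295, 11583569919051808, 103), (551, 11548386620704800, 103), (1063, 10422487787604000, 103)] (.cons 103 (.br 43 [(299, 11583636491044896, 171), (555, 11548486478694432, 171), (1067, 10422620931590176, 171)] (.cons 171 (.br 45 [(557, 11550616782473248, 301), (1069, 10425816387258400, 301)] (.cons 301 (.br 46 [(1070, 10493986108180512, 558)] (.cons 558 (.br 51 [(563, 11550616782473217, 307)] (.cons 307 (.br 54 [] (.cons 182 (.br 53 [] (.cons 565 (.br 57 [] (.cons 121 (.br 58 [] (.cons 1082 (.br 60 [] .nil) .nil)) (.cons 1081 (.br 58 [] (.cons 122 (.br 60 [] .nil) .nil)) .nil))) (.cons 1077 (.br 60 [] (.cons 124 (.br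 57 [] (.cons 569 (.br 58 [] (.cons 1082 (.br 105 [] (.cons 1129 (.br 106 [] (.cons 362 (.br 75 [] (.cons 587 (.br 77 [] (.cons 205 (.br 78 [] (.cons 1102 (.br 89 [] (.cons 345 (.br 85 [] (.cons 597 (.br 86 [] (.cons 342 (.br 90 [] (.cons 218 (.br 83 [] (.cons 1107 (.br 113 [] (.cons 241 (.br 114 [] (.cons 626 (.br 142 [] (.cons 398 (.br 147 [] (.cons 659 (.br 135 [] (.cons 1159 (.br 149 [] (.cons 405 (.br 153 [] (.cons 1177 (.br 156 [] (.cons 668 (.br 165 [] (.cons 677 (.br 172 [] (.cons 1196 (.br 184 [] (.cons 440 (.br 195 [] (.cons 451 (.br 198 [] (.cons 710 (.br 212 [] (.cons 1236 (.br 226 [] (.cons 1250 (.br 228 [] (.cons 484 (.br 232 [] (.cons 744 (.br 263 [] (.cons 775 (.br 267 [] (.cons 1291 t3 .nil)) .nil)) .nil)) .nil)) .nil)) .nil)) .nil)) .nil)) .nil)) .nil)) .nil)) .nil)) .nil)) .nil)) .nil)) .nil)) .nil)) .nil)) .nil)) .nil)) .nil)) .nil)) .nil)) .nil)) .nil)) .nil)) .nil)) .nil)) .nil)) .nil))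 .nil)) .nil)) .nil))) (.cons 1078 (.br 58 [] (.cons 122 (.br 60 [] (.cons 188 (.br 53 [] (.cons 565 (.br 57 [] (.cons 1081 (.br 105 [] (.cons 617 (.br 108 [] (.cons 1132 (.br 77 [] (.cons 205 (.br 78 [] (.cons 334 (.br 75 [] (.cons 1099 (.br 89 [] (.cons 345 (.br 85 [] (.cons 1109 (.br 92 [] (.cons 604 (.br 86 [] (.cons 214 (.br 83 [] (.cons 595 (.br 113 [] (.cons 241 (.br 116 [] (.cons 372 (.br 142 [] (.cons 1166 (.br 147 [] (.cons 1171 (.br 149 [] (.cons 405 (.br 135 [] (.cons 647 (.br 153 [] (.cons 665 (.br 154 [] (.cons 410 (.br 165 [] (.cons 1189 (.br 166 [] (.cons 422 (.br 178 [] (.cons 690 (.br 195 [] (.cons 451 (.br 202 [] (.cons 714 (.br 216 [] (.cons 1240 (.br 226 [] (.cons 1250 (.br 228 [] (.cons 740 (.br 232 [] (.cons 488 (.br 263 [] (.cons 1287 (.br 267 [] (.cons 779 t2 .nil)) .nil)) .nil)) .nil)) .nil)) .nil)) .nil)) .nil)) .nil)) .nil)) .nil)) .nil)) .nil)) .nil)) .nil)) .nil)) .nil)) .nil))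 .nil)) .nil)) .nil)) .nil)) .nil)) .nil)) .nil)) .nil)) .nil)) .nil)) .nil)) .nil)) .nil)) .nil)) .nil)) .nil))) (.cons 1075 (.br 53 [] (.cons 181 (.br 54 [] (.cons 310 (.br 58 [] (.cons 122 (.br 57 [] (.cons 569 (.br 60 [] (.cons 1084 (.br 105 [] (.cons 1129 (.br 108 [] (.cons 236 (.br 77 [] (.cons 589 (.br 75 [] (.cons 331 (.br 78 [] (.cons 1102 (.br 89 [] (.cons 217 (.br 83 [] (.cons 595 (.br 86 [] (.cons 214 (.br 92 [] (.cons 348 (.br 85 [] (.cons 1109 (.br 113 [] (.cons 369 (.br 116 [] (.cons 628 (.br 141 [] (.cons 1165 (.br 142 [] (.cons 398 (.br 135 [] (.cons 647 (.br 147 [] (.cons 403 (.br 156 [] (.cons 668 (.br 154 [] (.cons 1178 (.br 166 [] (.cons 1190 (.br 178 [] (.cons 690 (.br 184 [] (.cons 440 (.br 195 [] (.cons 1219 (.br 197 [] (.cons 453 (.br 202 [] (.cons 714 (.br 225 [] (.cons 737 (.br 226 [] (.cons 482 (.br 240 [] (.cons 1264 (.br 263 [] (.cons 1287 (.br 277 [] (.cons 789 t1 .nil)) .nil))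 .nil)) .nil)) .nil)) .nil)) .nil)) .nil)) .nil)) .nil)) .nil)) .nil)) .nil)) .nil)) .nil)) .nil)) .nil)) .nil)) .nil)) .nil)) .nil)) .nil)) .nil)) .nil)) .nil)) .nil)) .nil)) .nil)) .nil)) .nil)) .nil)) .nil)) .nil)) (.cons 565 (.br 57 [] (.cons 121 (.br 58 [] (.cons 314 (.br 54 [] (.cons 182 (.br 60 [] (.cons 1084 (.br 106 [] (.cons 1130 (.br 108 [] (.cons 236 (.br 78 [] (.cons 334 (.br 75 [] (.cons 587 (.br 77 [] (.cons 1101 (.br 90 [] (.cons 218 (.br 83 [] (.cons 339 (.br 85 [] (.cons 213 (.br 92 [] (.cons 604 (.br 86 [] (.cons 1110 (.br 114 [] (.cons 626 (.br 116 [] (.cons 372 (.br 141 [] (.cons 653 (.br 142 [] (.cons 1166 (.br 135 [] (.cons 391 (.br 147 [] (.cons 659 (.br 156 [] (.cons 412 (.br 153 [] (.cons 1177 (.br 165 [] (.cons 1189 (.br 177 [] (.cons 433 (.br 184 [] (.cons 696 (.br 195 [] (.cons 1219 (.br 198 [] (.cons 710 (.br 201 [] (.cons 457 (.br 225 [] (.cons 737 (.br 226 [] (.cons 482 (.br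 240 [] (.cons 1264 (.br 267 [] (.cons 1291 (.br 277 [] (.cons 1301 t0 .nil)) .nil)) .nil)) .nil)) .nil)) .nil)) .nil)) .nil)) .nil)) .nil)) .nil)) .nil)) .nil)) .nil)) .nil)) .nil)) .nil)) .nil)) .nil)) .nil)) .nil)) .nil)) .nil)) .nil)) .nil)) .nil)) .nil)) .nil)) .nil)) .nil)) .nil)) .nil)) .nil)) .nil))) .nil))) .nil)) .nil)) .nil)) .nil)) .nil))
theorem claim : Claim 11 4 5 S [] := claim_of tr (by decide +kernel)
theorem ok : stChk 11 4 5 S = true := by decide +kernel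
theorem stein : Cfsg.IsSteinerSystem 4 5 (fam 11 S) := stein_fam ok
theorem uniq {α : Type*} [Fintype α] [DecidableEq α] (hα : Fintype.card α = 11) {B : Set (Finset α)}
    (hB : Cfsg.IsSteinerSystem 4 5 B) : ∃ e : Fin 11 ≃ α, (fun b => b.image e) '' fam 11 S = B :=
  uniq_fam claim ok hα hB
end H0.St11
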