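import Cfsg.Agent.H0.Stein
set_option maxRecDepth 100000
namespace H0.St12
open H0.St
def s128 : List ℕ := [2292, 1484, 2860, 1235]
def s64 : List ℕ := [2716, 1938, 2470, 937, 1205, 1985, 3522, 3269, 1738, 2770, 1748, 470, 221, 3012, 459, 3288, 2275, 2536, 1257, 748, 1520, 1254, 753, 711, 2513, 250, 3610, 3111, 1841, 287, 1862, 3401, 2645, 619, 1148, 2418, 2947, 3476, 1677, 1450, 694, 2233, 2254, 984, 485, 3808, 1803, 3101, 1334, 2611, 2375, 3920, 606, 1637, 3178, 377, 3718, 917, 2458, 175, 1720, 3489, 2761, 994]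
def s0 : List ℕ := [2575, 3347, 2838, 1559, 1820, 3342, 2841, 3874, 3625, 2347, 1325, 2357, 826, 573, 2110, 807, 3636, 1083, 3845, 1582, 3384, 3660, 845, 1103, 851, 1370, 2139, 2396, 3651, 1365, 2913, 3428, 2662, 366, 3185, 1650, 119, 2680, 1896, 2890, 3158, 1625, 1379, 884, 2157, 1415, 3976, 2445, 910, 3729, 1433, 667, 1182, 2199, 1699, 1956, 2725, 3244, 2992, 3250, 435, 2730, 444, 3211]
noncomputable def t0 : T := (.br 1564 [] (.cons 3612 (.br 1571 [] (.cons 3619 (.br 1609 [] (.cons 3657 (.br 1618 [] (.cons 3666 (.br 1636 [] (.cons 3684 (.br 1670 [] (.cons 3718 (.br 1681 [] (.cons 3729 (.br 1704 [] (.cons 3752 (.br 1797 [] (.cons 3845 (.br 1802 [] (.cons 3850 (.br 1840 [] (.cons 3888 (.br 1984 [] (.cons 4032 (.fin 332533348482254880) .nil)) .nil)) .nil)) .nil)) .nil)) .nil)) .nil)) .nil)) .nil)) .nil)) .nil)) .nil))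
noncomputable def t1 : T := (.br 707 [] (.cons 2755 (.br 709 [] (.cons 1733 (.br 716 [] (.cons 2764 (.br 728 [] (.cons 1752 (.br 738 [] (.cons 1762 (.br 752 [] (.cons 2800 (.br 787 [] (.cons 2835 (.br 793 [] (.cons 1817 (.br 806 [] (.cons 1830 (.br 812 [] (.cons 2860 (.br 835 [] (.cons 1859 (.br 838 [] (.cons 2886 (.br 852 [] (.cons 1876 (.br 856 [] (.cons 2904 (.br 865 [] (.cons 2913 (.br 872 [] (.cons 1896 (.br 905 [] (.cons 2953 (.br 908 [] (.cons 1932 (.br 914 [] (.cons 1938 (.br 916 [] (.cons 2964 (.br 929 [] (.cons 1953 (.br 930 [] (.cons 2978 (.br 1051 [] (.cons 3099 (.br 1070 [] (.cons 3118 (.br 1077 [] (.cons 3125 (.br 1095 [] (.cons 3143 (.br 1144 [] (.cons 3192 (.br 1165 [] (.cons 3213 (.br 1202 [] (.cons 3250 (.br 1226 [] (.cons 3274 (.br 1236 [] (.cons 3284 (.br 1249 [] (.cons 3297 (.br 1302 [] (.cons 3350 (.br 1321 [] (.cons 3369 (.br 1356 [] (.cons 3404 (.br 1361 [] (.cons 3409 (.br 1378 []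 (.cons 3426 (.br 1411 [] (.cons 3459 (.br 1432 [] (.cons 3480 (.br 1444 [] (.cons 3492 t0 .nil)) .nil)) .nil)) .nil)) .nil)) .nil)) .nil)) .nil)) .nil)) .nil)) .nil)) .nil)) .nil)) .nil)) .nil)) .nil)) .nil)) .nil)) .nil)) .nil)) .nil)) .nil)) .nil)) .nil)) .nil)) .nil)) .nil)) .nil)) .nil)) .nil)) .nil)) .nil)) .nil)) .nil)) .nil)) .nil)) .nil)) .nil)) .nil)) .nil))
noncomputable def t2 : T := (.br 299 [] (.cons 811 (.br 307 [] (.cons 1331 (.br 309 [] (.cons 821 (.br 314 [] (.cons 2362 (.br 316 [] (.cons 1340 (.br 331 [] (.cons 2379 (.br 333 [] (.cons 845 (.br 346 [] (.cons 1370 (.br 357 [] (.cons 1381 (.br 370 [] (.cons 882 (.br 372 [] (.cons 2420 (.br 391 [] (.cons 903 (.br 398 [] (.cons 2446 (.br 405 [] (.cons 1429 (.br 426 [] (.cons 1450 (.br 433 [] (.cons 2481 (.br 440 [] (.cons 952 (.br 453 [] (.cons 2501 (.br 454 [] (.cons 1478 (.br 457 [] (.cons 1481 (.br 458 [] (.cons 970 (.br 465 [] (.cons 977 (.br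 466 [] (.cons 2514 (.br 484 [] (.cons 996 (.br 488 [] (.cons 2536 (.br 496 [] (.cons 1520 (.br 527 [] (.cons 2575 (.br 535 [] (.cons 1559 (.br 557 [] (.cons 1581 (.br 566 [] (.cons 2614 (.br 569 [] (.cons 2617 (.br 570 [] (.cons 1594 (.br 590 [] (.cons 1614 (.br 597 [] (.cons 2645 (.br 618 [] (.cons 2666 (.br 625 [] (.cons 1649 (.br 651 [] (.cons 1675 (.br 666 [] (.cons 2714 (.br 677 [] (.cons 2725 (.br 692 [] (.cons 1716 t1 .nil)) .nil)) .nil)) .nil)) .nil)) .nil)) .nil)) .nil)) .nil)) .nil)) .nil)) .nil)) .nil)) .nil)) .nil)) .nil)) .nil)) .nil)) .nil)) .nil)) .nil)) .nil)) .nil)) .nil)) .nil)) .nil)) .nil)) .nil)) .nil)) .nil)) .nil)) .nil)) .nil)) .nil)) .nil)) .nil)) .nil)) .nil)) .nil)) .nil))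
noncomputable def t3 : T := (.br 1564 [] (.cons 3612 (.br 1571 [] (.cons 3619 (.br 1610 [] (.cons 3658 (.br 1617 [] (.cons 3665 (.br 1636 [] (.cons 3684 (.br 1669 [] (.cons 3717 (.br 1682 [] (.cons 3730 (.br 1704 [] (.cons 3752 (.br 1798 [] (.cons 3846 (.br 1801 [] (.cons 3849 (.br 1840 [] (.cons 3888 (.br 1984 [] (.cons 4032 (.fin 227683854259947552) .nil)) .nil)) .nil)) .nil)) .nil)) .nil)) .nil)) .nil)) .nil)) .nil)) .nil)) .nil))
noncomputable def t4 : T := (.br 707 [] (.cons 1731 (.br 710 [] (.cons 2758 (.br 716 [] (.cons 1740 (.br 728 [] (.cons 2776 (.br 737 [] (.cons 2785 (.br 752 [] (.cons 1776 (.br 787 [] (.cons 1811 (.br 794 [] (.cons 2842 (.br 805 [] (.cons 2853 (.br 812 [] (.cons 1836 (.br 835 [] (.cons 2883 (.br 837 [] (.cons 1861 (.br 852 [] (.cons 2900 (.br 856 [] (.cons 1880 (.br 866 [] (.cons 1890 (.br 872 [] (.cons 2920 (.br 906 [] (.cons 1930 (.br 908 [] (.cons 2956 (.br 913 [] (.cons 2961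 (.br 916 [] (.cons 1940 (.br 929 [] (.cons 1953 (.br 930 [] (.cons 2978 (.br 1051 [] (.cons 3099 (.br 1069 [] (.cons 3117 (.br 1078 [] (.cons 3126 (.br 1095 [] (.cons 3143 (.br 1144 [] (.cons 3192 (.br 1166 [] (.cons 3214 (.br 1201 [] (.cons 3249 (.br 1225 [] (.cons 3273 (.br 1236 [] (.cons 3284 (.br 1250 [] (.cons 3298 (.br 1301 [] (.cons 3349 (.br 1322 [] (.cons 3370 (.br 1356 [] (.cons 3404 (.br 1362 [] (.cons 3410 (.br 1377 [] (.cons 3425 (.br 1411 [] (.cons 3459 (.br 1432 [] (.cons 3480 (.br 1444 [] (.cons 3492 t3 .nil)) .nil)) .nil)) .nil)) .nil)) .nil)) .nil)) .nil)) .nil)) .nil)) .nil)) .nil)) .nil)) .nil)) .nil)) .nil)) .nil)) .nil)) .nil)) .nil)) .nil)) .nil)) .nil)) .nil)) .nil)) .nil)) .nil)) .nil)) .nil)) .nil)) .nil)) .nil)) .nil)) .nil)) .nil)) .nil)) .nil)) .nil)) .nil)) .nil))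
noncomputable def t5 : T := (.br 299 [] (.cons 811 (.br 307 [] (.cons 2355 (.br 310 [] (.cons 822 (.br 313 [] (.cons 1337 (.br 316 [] (.cons 2364 (.br 331 [] (.cons 1355 (.br 334 [] (.cons 846 (.br 345 [] (.cons 2393 (.br 358 [] (.cons 2406 (.br 369 [] (.cons 881 (.br 372 [] (.cons 1396 (.br 391 [] (.cons 903 (.br 397 [] (.cons 1421 (.br 406 [] (.cons 2454 (.br 425 [] (.cons 2473 (.br 434 [] (.cons 1458 (.br 440 [] (.cons 952 (.br 453 [] (.cons 2501 (.br 454 [] (.cons 1478 (.br 457 [] (.cons 969 (.br 458 [] (.cons 2506 (.br 465 [] (.cons 1489 (.br 466 [] (.cons 978 (.br 484 [] (.cons 996 (.br 488 [] (.cons 1512 (.br 496 [] (.cons 2544 (.br 527 [] (.cons 1551 (.br 535 [] (.cons 2583 (.br 558 [] (.cons 2606 (.br 565 [] (.cons 1589 (.br 569 [] (.cons 2617 (.br 570 [] (.cons 1594 (.br 589 [] (.cons 2637 (.br 598 [] (.cons 1622 (.br 617 [] (.cons 1641 (.br 626 [] (.cons 2674 (.br 651 [] (.cons 2699 (.br 665 []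 (.cons 1689 (.br 678 [] (.cons 1702 (.br 692 [] (.cons 2740 t4 .nil)) .nil)) .nil)) .nil)) .nil)) .nil)) .nil)) .nil)) .nil)) .nil)) .nil)) .nil)) .nil)) .nil)) .nil)) .nil)) .nil)) .nil)) .nil)) .nil)) .nil)) .nil)) .nil)) .nil)) .nil)) .nil)) .nil)) .nil)) .nil)) .nil)) .nil)) .nil)) .nil)) .nil)) .nil)) .nil)) .nil)) .nil)) .nil)) .nil))
def S : List ℕ := s0 ++ (s64 ++ (s128))
noncomputable def tr : T := (.br 31 [(95, 407901467811350560, 63), (159, 407901433485166624, 63), (287, 407900334007093280, 63), (543, 407865149668558880, 63), (1055, 406739249795270688, 63), (2079, 370710452809861152, 63)] (.cons 63 (.br 79 [(335, 407900403699648544, 207), (591, 407865253687298080, 207), (1103, 406739388140193824, 207), (2127, 370710625480968224, 207)] (.cons 207 (.br 87 [(599, 407867383991076896, 343), (1111, 406742583595862048, 343), (2135, 370714886088525856, 343)] (.cons 343 (.br 91 [(1115, 406810753316784160,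 603), (2139, 370817140669909024, 603)] (.cons 603 (.br 93 [(2141, 372998571739416608, 1117)] (.cons 1117 (.br 94 [] (.cons 2142 (.br 103 [(1127, 406810753316783168, 615), (2151, 370817140669907009, 615)] (.cons 615 (.br 109 [] (.cons 365 (.br 110 [] (.cons 1134 (.br 107 [] (.cons 2155 (.br 118 [] (.cons 246 (.br 115 [] (.cons 1139 (.br 117 [] (.cons 2165 (.br 121 [] (.cons 249 (.br 122 [] (.cons 378 (.br 124 [] (.cons 636 (.br 151 [(2199, 370676540616314945, 663)] (.cons 663 (.br 211 [] (.cons 2259 (.br 179 [] (.cons 435 (.br 155 [] (.cons 1179 (.br 158 [] (.cons 414 (.br 157 [] (.cons 2205 (.br 171 [] (.cons 683 (.br 173 [] (.cons 1197 (.br 167 [] (.cons 2215 (.br 174 [] .nil) .nil)) .nil)) .nil)) .nil)) .nil)) .nil)) .nil)) .nil)) (.cons 1175 (.br 211 [] (.cons 2259 (.br 155 [] (.cons 411 (.br 158 [] (.cons 670 (.br 157 [] (.cons 2205 (.br 179 [] (.cons 691 (.br 171 [] (.cons 1195 (.br 173 [] (.cons 685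 (.br 181 [] (.cons 437 (.br 167 [] (.cons 2215 (.br 174 [] (.cons 430 (.br 186 [] (.cons 2234 (.br 188 [] (.cons 1212 (.br 213 [] (.cons 725 (.br 218 [] (.cons 1242 (.br 220 [] (.cons 476 (.br 227 [] (.cons 483 (.br 229 [] (.cons 1253 (.br 234 [] (.cons 746 (.br 236 [] (.cons 2284 (.br 285 [] (.cons 797 (.br 286 [] (.cons 1310 (.br 271 [] (.cons 2319 (.br 295 [] (.cons 1319 t5 .nil)) .nil)) .nil)) .nil)) .nil)) .nil)) .nil)) .nil)) .nil)) .nil)) .nil)) .nil)) .nil)) .nil)) .nil)) .nil)) .nil)) .nil)) .nil)) .nil)) .nil)) .nil)) .nil)) .nil))) .nil)) .nil)) .nil)) .nil)) .nil)) .nil)) .nil)) .nil)) (.cons 2157 (.br 117 [] (.cons 245 (.br 118 [] (.cons 1142 (.br 110 [] (.cons 366 (.br 107 [] (.cons 1131 (.br 115 [] (.cons 2163 (.br 121 [] (.cons 377 (.br 122 [] (.cons 250 (.br 124 [] (.cons 636 (.br 151 [(1175, 406810753246593154, 663)] (.cons 663 (.br 211 [] (.cons 1235 (.br 179 [] (.cons 435 (.br 155 [] (.cons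 2203 (.br 157 [] (.cons 413 (.br 158 [] (.cons 1182 (.br 171 [] (.cons 683 (.br 173 [] (.cons 1197 (.br 167 [] (.cons 2215 (.br 174 [] .nil) .nil)) .nil)) .nil)) .nil)) .nil)) .nil)) .nil)) .nil)) (.cons 2199 (.br 211 [] (.cons 1235 (.br 155 [] (.cons 411 (.br 157 [] (.cons 669 (.br 158 [] (.cons 1182 (.br 179 [] (.cons 691 (.br 171 [] (.cons 2219 (.br 174 [] (.cons 686 (.br 182 [] (.cons 438 (.br 167 [] (.cons 1191 (.br 173 [] (.cons 429 (.br 185 [] (.cons 1209 (.br 188 [] (.cons 2236 (.br 214 [] (.cons 726 (.br 217 [] (.cons 2265 (.br 220 [] (.cons 476 (.br 227 [] (.cons 483 (.br 230 [] (.cons 2278 (.br 233 [] (.cons 745 (.br 236 [] (.cons 1260 (.br 285 [] (.cons 2333 (.br 286 [] (.cons 798 (.br 271 [] (.cons 1295 (.br 295 [] (.cons 2343 t2 .nil)) .nil)) .nil)) .nil)) .nil)) .nil)) .nil)) .nil)) .nil)) .nil)) .nil)) .nil)) .nil)) .nil)) .nil)) .nil)) .nil)) .nil)) .nil)) .nil)) .nil)) .nil)) .nil)) .nil)))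 .nil)) .nil)) .nil)) .nil)) .nil)) .nil)) .nil)) .nil)) .nil))) .nil)) .nil)) .nil)) .nil)) .nil)) .nil)) .nil))
theorem claim : Claim 12 5 6 S [] := claim_of tr (by decide +kernel)
theorem ok : stChk 12 5 6 S = true := by decide +kernel
theorem stein : Cfsg.IsSteinerSystem 5 6 (fam 12 S) := stein_fam ok
theorem uniq {α : Type*} [Fintype α] [DecidableEq α] (hα : Fintype.card α = 12) {B : Set (Finset α)}
    (hB : Cfsg.IsSteinerSystem 5 6 B) : ∃ e : Fin 12 ≃ α, (fun b => b.image e) '' fam 12 S = B :=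
  uniq_fam claim ok hα hB
end H0.St12
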