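import Cfsg.Agent.H6.Golay
import Cfsg.Agent.H6.Orb
import Cfsg.Agent.H0.TC

/-! A kernel-checkable search proving the uniqueness of a Steiner system. -/

namespace H0.St
open Finset Cfsg H6

theorem stein_uq {α : Type*} [DecidableEq α] {t k : ℕ} {B : Set (Finset α)} (h : IsSteinerSystem t k B)
    {b c : Finset α} (hb : b ∈ B) (hc : c ∈ B) (ht : t ≤ (b ∩ c).card) : b = c := by
  obtain ⟨s, hs, hst⟩ := exists_subset_card_eq ht
  exact (h.2 s hst).unique ⟨hb, hs.trans inter_subset_left⟩ ⟨hc, hs.trans inter_subset_right⟩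

theorem stein_ex {α : Type*} {t k : ℕ} {B : Set (Finset α)} (h : IsSteinerSystem t k B)
    {s : Finset α} (hs : s.card = t) : ∃ b ∈ B, s ⊆ b := (h.2 s hs).exists

theorem stein_of {α : Type*} [DecidableEq α] {t k : ℕ} {B : Set (Finset α)} (h1 : ∀ b ∈ B, b.card = k)
    (h2 : ∀ s : Finset α, s.card = t → ∃ b ∈ B, s ⊆ b)
    (h3 : ∀ b ∈ B, ∀ c ∈ B, t ≤ (b ∩ c).card → b = c) : IsSteinerSystem t k B :=
  ⟨h1, fun s hs => by
    obtain ⟨b, hb, hsb⟩ := h2 s hs
    exact ⟨b, ⟨hb, hsb⟩, fun c hc => h3 c hc.1 b hb (hs ▸ card_le_card (subset_inter hc.2 hsb))⟩⟩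

theorem stein_map {α β : Type*} [DecidableEq α] [DecidableEq β] {t k : ℕ} {B : Set (Finset α)}
    (h : IsSteinerSystem t k B) (e : α ≃ β) : IsSteinerSystem t k ((fun b => b.image e) '' B) := by
  refine stein_of ?_ (fun s hs => ?_) ?_
  · rintro _ ⟨b, hb, rfl⟩; rw [card_image_of_injective _ e.injective, h.1 b hb]
  · obtain ⟨b, hb, hsb⟩ := stein_ex h (s := s.image e.symm) (by rwa [card_image_of_injective _ e.symm.injective])
    exact ⟨_, ⟨b, hb, rfl⟩, fun x hx => mem_image.2 ⟨_, hsb (mem_image_of_mem _ hx), e.apply_symm_apply x⟩⟩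
  · rintro _ ⟨b, hb, rfl⟩ _ ⟨c, hc, rfl⟩ ht
    rw [← image_inter _ _ e.injective, card_image_of_injective _ e.injective] at ht
    rw [stein_uq h hb hc ht]

theorem stein_eq {α : Type*} [DecidableEq α] {t k : ℕ} {B C : Set (Finset α)} (hB : IsSteinerSystem t k B)
    (hC : IsSteinerSystem t k C) (htk : t ≤ k) (h : C ⊆ B) : C = B := by
  refine h.antisymm fun b hb => ?_
  obtain ⟨s, hs, hst⟩ := exists_subset_card_eq (htk.trans (hB.1 b hb).ge)
  obtain ⟨c, hc, hsc⟩ := stein_ex hC hst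
  rwa [stein_uq hB hb (h hc) (hst ▸ card_le_card (subset_inter hs hsc))]

def dc (v m : ℕ) : Finset (Fin v) := univ.filter fun x => m.testBit x = true
@[simp] theorem mem_dc {v m : ℕ} {x : Fin v} : x ∈ dc v m ↔ m.testBit x = true := by simp [dc]

theorem card_dc (v m : ℕ) : (dc v m).card = popc v m := by
  rw [popc_eq]
  refine card_bij (fun x _ => x.1) (fun x hx => ?_) (fun _ _ _ _ h => Fin.ext h) fun y hy => ?_
  · simpa [bitsOf] using hx
  · simp only [bitsOf, mem_filter, mem_range] at hy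
    exact ⟨⟨y, hy.1⟩, mem_dc.2 hy.2, rfl⟩

theorem dc_or {v : ℕ} (m : ℕ) (x : Fin v) : dc v (Nat.lor m (Nat.pow 2 x)) = insert x (dc v m) := by
  ext y
  have : (Nat.lor m (Nat.pow 2 x)).testBit y = (m.testBit y || decide (x.1 = y.1)) := by
    rw [← Nat.testBit_two_pow]; exact Nat.testBit_or _ _ _
  simp only [mem_dc, this, mem_insert, Bool.or_eq_true, decide_eq_true_eq, Fin.ext_iff]
  tauto

def lanes (K : List ℕ) (f : ℕ → ℕ) : ℕ := K.foldr (fun b a => 16 * a + f b) 0

theorem lanes_add (K : List ℕ) (f g : ℕ → ℕ) : lanes K f + lanes K g = lanes K fun b => f b + g b := by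
  induction K with
  | nil => rfl
  | cons b K ih => simp only [lanes, List.foldr_cons] at ih ⊢; omega

theorem lanes_land {K : List ℕ} {f : ℕ → ℕ} (h : ∀ b ∈ K, f b < 8) :
    Nat.land (lanes K f) (lanes K fun _ => 8) = 0 := by
  induction K with
  | nil => exact Nat.zero_and _
  | cons b K ih =>
    have h1 := ih fun c hc => h c (List.mem_cons_of_mem _ hc)
    have h2 := h b List.mem_cons_self
    refine Nat.eq_of_testBit_eq fun i => ?_
    show ((2 ^ 4 * lanes K f + f b) &&& (2 ^ 4 * (lanes K fun _ => 8) + 8)).testBit i = _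
    rw [Nat.testBit_and, Nat.testBit_two_pow_mul_add _ (by omega), Nat.testBit_two_pow_mul_add _ (by omega),
      Nat.zero_testBit]
    split_ifs with hi
    · generalize f b = x at h2
      interval_cases i <;> interval_cases x <;> rfl
    · rw [← Nat.testBit_and]
      exact (congrArg (·.testBit (i - 4)) h1).trans (Nat.zero_testBit _)

def Inv (v t : ℕ) (K : List ℕ) (m c : ℕ) : Prop := c = lanes K fun b => 8 - t + (dc v m ∩ dc v b).card

theorem Inv.step {v t m c : ℕ} {K : List ℕ} (h : Inv v t K m c) (x : Fin v) (hx : x ∉ dc v m) :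
    Inv v t K (Nat.lor m (Nat.pow 2 x)) (Nat.add c (lanes K fun b => bit b x)) := by
  unfold Inv at *
  rw [h, Nat.add_eq, lanes_add, dc_or]
  congr 1; funext b
  rw [bit_eq]
  split_ifs with hb
  · rw [insert_inter_of_mem (mem_dc.2 hb), card_insert_of_notMem (fun h => hx (mem_inter.1 h).1), add_assoc]
  · rw [insert_inter_of_notMem (fun h => hb (mem_dc.1 h)), add_zero]

noncomputable def dfs (H : ℕ) (f : ℕ → Bool) (P : List (ℕ × ℕ)) : ℕ → ℕ → ℕ → Bool :=
  List.rec (motive := fun _ => ℕ → ℕ → ℕ → Bool)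
    (fun r m _ => Nat.rec (motive := fun _ => Bool) (f m) (fun _ _ => true) r)
    (fun e _ ih r m c => Nat.rec (motive := fun _ => Bool) (f m) (fun r' _ =>
      Bool.rec false (ih r m c) (Bool.rec (force (Nat.add c e.2) fun c' =>
        Bool.rec true (force (Nat.lor m (Nat.pow 2 e.1)) fun m' => ih r' m' c') (Nat.beq (Nat.land c' H) 0))
        true (tb m e.1))) r) P

theorem rec_and (a b : Bool) : Bool.rec (motive := fun _ => Bool) false a b = (b && a) := by cases b <;> rfl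

theorem dfs_cons (H : ℕ) (f : ℕ → Bool) (e : ℕ × ℕ) (P : List (ℕ × ℕ)) (r m c : ℕ) :
    dfs H f (e :: P) (r + 1) m c = Bool.rec false (dfs H f P (r + 1) m c) (Bool.rec (force (Nat.add c e.2) fun c' =>
      Bool.rec true (force (Nat.lor m (Nat.pow 2 e.1)) fun m' => dfs H f P r m' c') (Nat.beq (Nat.land c' H) 0))
        true (tb m e.1)) := rfl

theorem dfs_spec {v t : ℕ} (ht : t ≤ 8) {K : List ℕ} {f : ℕ → Bool} {b : Finset (Fin v)}
    (hb : ∀ a ∈ K, (b ∩ dc v a).card < t) (P : List (ℕ × ℕ))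
    (hP : ∀ e ∈ P, e.1 < v ∧ e.2 = lanes K fun a => bit a e.1) :
    ∀ r m c, Inv v t K m c → dc v m ⊆ b → (b \ dc v m).card = r → (∀ x ∈ b \ dc v m, ∃ e ∈ P, e.1 = x.1) →
      dfs (lanes K fun _ => 8) f P r m c = true → ∃ m', dc v m' = b ∧ f m' = true := by
  have h0 : ∀ m, dc v m ⊆ b → (b \ dc v m).card = 0 → dc v m = b := fun m h1 h2 =>
    h1.antisymm (sdiff_eq_empty_iff_subset.1 (card_eq_zero.1 h2))
  induction P with
  | nil =>
    intro r m c _ h1 h2 h3 h
    have : r = 0 := by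
      rw [← h2, card_eq_zero, eq_empty_iff_forall_notMem]
      intro x hx; simpa using h3 x hx
    subst this
    exact ⟨m, h0 m h1 h2, h⟩
  | cons e P ih =>
    intro r m c hi h1 h2 h3 h
    replace ih := ih fun e he => hP e (List.mem_cons_of_mem _ he)
    obtain ⟨he1, he2⟩ := hP e List.mem_cons_self
    cases r with
    | zero => exact ⟨m, h0 m h1 h2, h⟩
    | succ r =>
      by_cases hx : (⟨e.1, he1⟩ : Fin v) ∈ b \ dc v m
      · obtain ⟨hx1, hx2⟩ := mem_sdiff.1 hx
        have hi' := hi.step ⟨e.1, he1⟩ hx2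
        have hs : dc v (Nat.lor m (Nat.pow 2 e.1)) ⊆ b := by
          rw [dc_or m ⟨e.1, he1⟩]; exact insert_subset hx1 h1
        have hl : Nat.beq (Nat.land (Nat.add c e.2) (lanes K fun _ => 8)) 0 = true := by
          rw [he2, Nat.beq_eq, show Nat.add c _ = _ from hi']
          refine lanes_land fun a ha => ?_
          have := (card_le_card (inter_subset_inter_right hs)).trans_lt (hb a ha)
          dsimp only
          omega
        have ht' : tb m e.1 = false := by rw [tb_eq]; simpa using hx2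
        simp only [dfs_cons, rec_and, force_eq, hl, ht', Bool.and_eq_true] at h
        refine ih r _ _ (he2 ▸ hi') hs ?_ (fun y hy => ?_) h.1
        · rw [dc_or m ⟨e.1, he1⟩, sdiff_insert, card_erase_of_mem hx, h2]; rfl
        · rw [dc_or m ⟨e.1, he1⟩, sdiff_insert, mem_erase] at hy
          obtain ⟨e', h4, h5⟩ := h3 y hy.2
          rcases List.mem_cons.1 h4 with rfl | h4
          · exact absurd (Fin.ext h5.symm) hy.1
          · exact ⟨e', h4, h5⟩
      · rw [dfs_cons, rec_and, Bool.and_eq_true] at h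
        refine ih (r + 1) m c hi h1 h2 (fun y hy => ?_) h.2
        obtain ⟨e', h4, h5⟩ := h3 y hy
        rcases List.mem_cons.1 h4 with rfl | h4
        · have : y = ⟨e'.1, he1⟩ := Fin.ext h5.symm
          exact absurd (this ▸ hy) hx
        · exact ⟨e', h4, h5⟩

noncomputable def pre (s : ℕ) (k : ℕ → ℕ → Bool) (P : List (ℕ × ℕ)) : ℕ → ℕ → Bool :=
  List.rec (motive := fun _ => ℕ → ℕ → Bool) k (fun e _ ih m c =>
    Bool.rec (ih m c) (force (Nat.lor m (Nat.pow 2 e.1)) fun m' => force (Nat.add c e.2) fun c' => ih m' c')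
      (tb s e.1 && !tb m e.1)) P

theorem pre_cons (s : ℕ) (k : ℕ → ℕ → Bool) (e : ℕ × ℕ) (P : List (ℕ × ℕ)) (m c : ℕ) : pre s k (e :: P) m c =
    Bool.rec (pre s k P m c) (force (Nat.lor m (Nat.pow 2 e.1)) fun m' => force (Nat.add c e.2) fun c' =>
      pre s k P m' c') (tb s e.1 && !tb m e.1) := rfl

theorem pre_spec {v t s : ℕ} {K : List ℕ} {k : ℕ → ℕ → Bool} (P : List (ℕ × ℕ))
    (hP : ∀ e ∈ P, e.1 < v ∧ e.2 = lanes K fun a => bit a e.1) :
    ∀ m c, Inv v t K m c → pre s k P m c = true → ∃ m' c', Inv v t K m' c' ∧ k m' c' = true := by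
  induction P with
  | nil => exact fun m c hi h => ⟨m, c, hi, h⟩
  | cons e P ih =>
    intro m c hi h
    replace ih := ih fun e he => hP e (List.mem_cons_of_mem _ he)
    obtain ⟨he1, he2⟩ := hP e List.mem_cons_self
    cases hc : (tb s e.1 && !tb m e.1)
    · simp only [pre_cons, hc] at h; exact ih m c hi h
    · simp only [pre_cons, hc, force_eq] at h
      refine ih _ _ (he2 ▸ hi.step ⟨e.1, he1⟩ ?_) h
      simp only [tb_eq, Bool.and_eq_true, Bool.not_eq_true'] at hc
      simpa using hc.2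

noncomputable def img (v : ℕ) (g : ℕ → ℕ) (m : ℕ) : ℕ :=
  Nat.rec (motive := fun _ => ℕ) 0 (fun j ih => Bool.rec ih (Nat.lor ih (Nat.pow 2 (g j))) (tb m j)) v

theorem testBit_img (v : ℕ) (g : ℕ → ℕ) (m y : ℕ) :
    (img v g m).testBit y = true ↔ ∃ j < v, m.testBit j = true ∧ g j = y := by
  induction v with
  | zero => simp [img]
  | succ v ih =>
    have e : img (v + 1) g m = Bool.rec (img v g m) (Nat.lor (img v g m) (Nat.pow 2 (g v))) (tb m v) := rfl
    have e2 : (Nat.lor (img v g m) (Nat.pow 2 (g v))).testBit y = ((img v g m).testBit y || decide (g v = y)) := by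
      rw [← Nat.testBit_two_pow]; exact Nat.testBit_or _ _ _
    rw [e, tb_eq]
    simp only [Nat.lt_succ_iff_lt_or_eq, or_and_right, exists_or, exists_eq_left, ← ih]
    cases m.testBit v
    · simp
    · dsimp only; rw [e2]; simp

theorem image_dc {v w : ℕ} {g : ℕ → ℕ} {f : Fin v → Fin w} (h : ∀ x, (f x).1 = g x) (m : ℕ) :
    (dc v m).image f = dc w (img v g m) := by
  ext y
  simp only [mem_image, mem_dc, testBit_img]
  exact ⟨fun ⟨x, h1, h2⟩ => ⟨x, x.2, h1, h x ▸ congrArg Fin.val h2⟩,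
    fun ⟨j, hj, h1, h2⟩ => ⟨⟨j, hj⟩, h1, Fin.ext ((h _).trans h2)⟩⟩

noncomputable def isP (v g : ℕ) : Bool :=
  allLt v (fun j => Nat.blt (lane 5 g j) v) && Nat.beq (img v (lane 5 g) (Nat.sub (Nat.pow 2 v) 1)) (Nat.sub (Nat.pow 2 v) 1)

theorem isP_spec {v g : ℕ} (h : isP v g = true) :
    ∃ σ : Equiv.Perm (Fin v), (∀ x, (σ x).1 = lane 5 g x) ∧ ∀ m, (dc v m).image σ = dc v (img v (lane 5 g) m) := by
  simp only [isP, Bool.and_eq_true, allLt_iff, Nat.blt_eq, Nat.beq_eq] at h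
  let f : Fin v → Fin v := fun x => ⟨lane 5 g x, h.1 x x.2⟩
  have hf : Function.Surjective f := fun y => by
    have : (img v (lane 5 g) (Nat.sub (Nat.pow 2 v) 1)).testBit y = true := by
      rw [h.2]; exact (Nat.testBit_two_pow_sub_one v y).trans (by simp)
    obtain ⟨j, hj, -, h2⟩ := (testBit_img _ _ _ _).1 this
    exact ⟨⟨j, hj⟩, Fin.ext h2⟩
  exact ⟨Equiv.ofBijective f ⟨Finite.injective_iff_surjective.2 hf, hf⟩, fun _ => rfl, image_dc fun _ => rfl⟩

def Claim (v t k : ℕ) (S K : List ℕ) : Prop := ∀ B : Set (Finset (Fin v)), IsSteinerSystem t k B →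
  (∀ m ∈ K, dc v m ∈ B) → ∃ σ : Equiv.Perm (Fin v), ∀ m ∈ S, (dc v m).image σ ∈ B

noncomputable def mem (y : ℕ) (K : List ℕ) : Bool := anyL (Nat.beq y) K
theorem mem_spec {y : ℕ} {K : List ℕ} (h : mem y K = true) : y ∈ K := by
  obtain ⟨a, ha, e⟩ := anyL_iff.1 h
  rwa [Nat.eq_of_beq_eq_true e]

/-- the image of `K'` under `g` lies in `K` -/
noncomputable def into (v g : ℕ) (K' K : List ℕ) : Bool := isP v g && allL (fun m => force (img v (lane 5 g) m) (mem · K)) K'

theorem into_spec {v g : ℕ} {K' K : List ℕ} (h : into v g K' K = true) :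
    ∃ σ : Equiv.Perm (Fin v), ∀ m ∈ K', ∃ a ∈ K, (dc v m).image σ = dc v a := by
  simp only [into, Bool.and_eq_true, allL_iff, force_eq] at h
  obtain ⟨σ, -, hσ⟩ := isP_spec h.1
  exact ⟨σ, fun m hm => ⟨_, mem_spec (h.2 m hm), hσ m⟩⟩

theorem Claim.fin {v t k g : ℕ} {S K : List ℕ} (h : into v g S K = true) : Claim v t k S K := fun B _ hK => by
  obtain ⟨σ, hσ⟩ := into_spec h
  refine ⟨σ, fun m hm => ?_⟩
  obtain ⟨a, ha, e⟩ := hσ m hm
  exact e ▸ hK a ha

theorem Claim.red {v t k g : ℕ} {S K K' : List ℕ} (h : into v g K' K = true) (h' : Claim v t k S K') :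
    Claim v t k S K := fun B hB hK => by
  obtain ⟨σ, hσ⟩ := into_spec h
  obtain ⟨τ, hτ⟩ := h' _ (stein_map hB σ.symm) fun m hm => by
    obtain ⟨a, ha, e⟩ := hσ m hm
    exact ⟨_, hK a ha, by simp only [← e, image_image]; simp⟩
  refine ⟨τ.trans σ, fun m hm => ?_⟩
  obtain ⟨b, hb, e⟩ := hτ m hm
  rw [Equiv.coe_trans, ← image_image, ← e, image_image]
  simpa using hb

inductive T
  | fin (g : ℕ)
  | br (s : ℕ) (red : List (ℕ × ℕ × ℕ)) (ch : T)
  | nil
  | cons (c : ℕ) (t : T) (rest : T)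

noncomputable def T.reps (x : T) : List ℕ :=
  T.rec (motive := fun _ => List ℕ) (fun _ => []) (fun _ _ _ _ => []) [] (fun c _ _ _ ih => c :: ih) x
noncomputable def T.tree (x : T) : Bool :=
  T.rec (motive := fun _ => Bool) (fun _ => true) (fun _ _ _ _ => true) false (fun _ _ _ _ _ => false) x

noncomputable def upd (c : ℕ) (P : List (ℕ × ℕ)) : (List (ℕ × ℕ) → Bool) → Bool :=
  List.rec (motive := fun _ => (List (ℕ × ℕ) → Bool) → Bool) (fun k => k [])
    (fun e _ ih k => force e.1 fun x => force (Nat.add (Nat.mul 16 e.2) (bit c x)) fun i => ih fun Q => k ((x, i) :: Q)) P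

theorem upd_eq (c : ℕ) (P : List (ℕ × ℕ)) (k : List (ℕ × ℕ) → Bool) :
    upd c P k = k (P.map fun e => (e.1, 16 * e.2 + bit c e.1)) := by
  induction P generalizing k with
  | nil => rfl
  | cons e P ih => simp only [upd, force_eq] at ih ⊢; rw [ih]; rfl

noncomputable def act (v : ℕ) (K R : List ℕ) (red : List (ℕ × ℕ × ℕ)) (m : ℕ) : Bool :=
  Bool.rec (anyL (fun e => Bool.rec false (mem e.2.2 R && into v e.2.1 (e.2.2 :: K) (m :: K)) (Nat.beq e.1 m)) red)
    true (mem m R)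

noncomputable def chk (v t k : ℕ) (S : List ℕ) (x : T) : List ℕ → List (ℕ × ℕ) → ℕ → ℕ → Bool :=
  T.rec (motive := fun _ => List ℕ → List (ℕ × ℕ) → ℕ → ℕ → Bool)
    (fun g K _ _ _ => into v g S K)
    (fun s red ch ih K P a H => Bool.rec false (ih K P a H) (pre s (fun m c =>
      Nat.beq (popc v m) t && Nat.blt m (Nat.pow 2 v) && allL (fun b => !Nat.beq (Nat.land m b) m) K &&
        dfs H (act v K ch.reps red) P (Nat.sub k t) m c) P 0 a))
    (fun _ _ _ _ => true)
    (fun c x _ ih ihr K P a H => Bool.rec false (upd c P fun Q =>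
      force (Nat.add (Nat.mul 16 a) (Nat.sub 8 t)) fun a' => force (Nat.add (Nat.mul 16 H) 8) fun H' =>
        ih (c :: K) Q a' H') (x.tree && ihr K P a H)) x

theorem chk_cons (v t k : ℕ) (S : List ℕ) (c : ℕ) (x r : T) (K : List ℕ) (P : List (ℕ × ℕ)) (a H : ℕ) :
    chk v t k S (.cons c x r) K P a H = Bool.rec false (upd c P fun Q =>
      force (Nat.add (Nat.mul 16 a) (Nat.sub 8 t)) fun a' => force (Nat.add (Nat.mul 16 H) 8) fun H' =>
        chk v t k S x (c :: K) Q a' H') (x.tree && chk v t k S r K P a H) := rfl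

theorem chk_br (v t k : ℕ) (S : List ℕ) (s : ℕ) (red : List (ℕ × ℕ × ℕ)) (ch : T) (K : List ℕ) (P : List (ℕ × ℕ))
    (a H : ℕ) : chk v t k S (.br s red ch) K P a H = Bool.rec false (chk v t k S ch K P a H) (pre s (fun m c =>
      Nat.beq (popc v m) t && Nat.blt m (Nat.pow 2 v) && allL (fun b => !Nat.beq (Nat.land m b) m) K &&
        dfs H (act v K ch.reps red) P (Nat.sub k t) m c) P 0 a) := rfl

theorem chk_spec {v t k : ℕ} (ht : t ≤ 8) {S : List ℕ} (x : T) : ∀ (K : List ℕ) (P : List (ℕ × ℕ)),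
    (∀ e ∈ P, e.1 < v ∧ e.2 = lanes K fun a => bit a e.1) → (∀ y < v, ∃ e ∈ P, e.1 = y) →
    chk v t k S x K P (lanes K fun _ => 8 - t) (lanes K fun _ => 8) = true →
      (x.tree = true → Claim v t k S K) ∧ ∀ c ∈ x.reps, Claim v t k S (c :: K) := by
  induction x with
  | fin g => exact fun K P _ _ h => ⟨fun _ => Claim.fin h, fun c hc => by simp [T.reps] at hc⟩
  | nil => exact fun K P _ _ _ => ⟨fun h => by simp [T.tree] at h, fun c hc => by simp [T.reps] at hc⟩
  | cons c x r ih ihr =>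
    intro K P h1 h2 h
    refine ⟨fun h => by simp [T.tree] at h, ?_⟩
    simp only [chk_cons, rec_and, upd_eq, force_eq, Bool.and_eq_true] at h
    obtain ⟨h3, h⟩ := h
    intro d hd
    rcases List.mem_cons.1 hd with rfl | hd
    · refine (ih (d :: K) _ ?_ (fun y hy => ?_) h).1 h3.1
      · intro e he
        obtain ⟨e', he', rfl⟩ := List.mem_map.1 he
        exact ⟨(h1 e' he').1, by rw [(h1 e' he').2]; rfl⟩
      · obtain ⟨e, he, rfl⟩ := h2 y hy
        exact ⟨_, List.mem_map_of_mem he, rfl⟩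
    · exact (ihr K P h1 h2 h3.2).2 d hd
  | br s red ch ih =>
    intro K P h1 h2 h
    refine ⟨fun _ B hB hK => ?_, fun c hc => by simp [T.reps] at hc⟩
    have h3 := h
    rw [chk_br, rec_and, Bool.and_eq_true] at h3
    have hc := (ih K P h1 h2 h3.2).2
    obtain ⟨m, c, hi, h4⟩ := pre_spec (v := v) (t := t) P h1 0 _ (by
      unfold Inv; congr 1; funext b; rw [show dc v 0 = ∅ by ext; simp]; simp) h3.1
    simp only [Bool.and_eq_true, Nat.beq_eq, Nat.blt_eq, allL_iff, Bool.not_eq_true'] at h4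
    obtain ⟨⟨⟨h5, h6⟩, h7⟩, h8⟩ := h4
    rw [← card_dc] at h5
    obtain ⟨b, hb, hmb⟩ := stein_ex hB h5
    obtain ⟨m', rfl, h9⟩ := dfs_spec ht (b := b) (fun a ha => not_le.1 fun hle => by
      rw [stein_uq hB hb (hK a ha) hle] at hmb
      refine Nat.ne_of_beq_eq_false (h7 a ha) (Nat.eq_of_testBit_eq fun i => (Nat.testBit_and _ _ _).trans ?_)
      by_cases hi : i < v
      · cases hm : m.testBit i
        · rfl
        · exact mem_dc.1 (hmb (mem_dc.2 (show m.testBit (⟨i, hi⟩ : Fin v) = true from hm)))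
      · rw [Nat.testBit_lt_two_pow (h6.trans_le (Nat.pow_le_pow_right two_pos (not_lt.1 hi)))]; rfl) P h1 _ m c hi hmb
      (by rw [card_sdiff_of_subset hmb, hB.1 b hb, h5]; rfl) (fun x _ => h2 x x.2) h8
    have hK' : ∀ a ∈ m' :: K, dc v a ∈ B := fun a ha => (List.mem_cons.1 ha).elim (fun e => e ▸ hb) (hK a)
    cases hm : mem m' ch.reps
    · simp only [act, hm, anyL_iff] at h9
      obtain ⟨e, -, he⟩ := h9
      cases hq : Nat.beq e.1 m'
      · simp [hq] at he
      · simp only [hq, Bool.and_eq_true] at he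
        exact Claim.red he.2 (hc _ (mem_spec he.1)) B hB hK'
    · exact hc _ (mem_spec hm) B hB hK'

theorem claim_of {v t k : ℕ} {S : List ℕ} (x : T)
    (h : (Nat.ble t 8 && x.tree && chk v t k S x [] ((List.range v).map fun y => (y, 0)) 0 0) = true) :
    Claim v t k S [] := by
  simp only [Bool.and_eq_true, Nat.ble_eq] at h
  refine (chk_spec h.1.1 x [] _ (fun e he => ?_) (fun y hy => ?_) h.2).1 h.1.2
  · obtain ⟨y, hy, rfl⟩ := List.mem_map.1 he
    exact ⟨List.mem_range.1 hy, rfl⟩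
  · exact ⟨_, List.mem_map_of_mem (List.mem_range.2 hy), rfl⟩

/-- uniqueness, given one system all of whose blocks are listed in `S` -/
theorem uniq {v t k : ℕ} {S : List ℕ} (h : Claim v t k S []) (htk : t ≤ k) {γ : Type*} [DecidableEq γ]
    {D : Set (Finset γ)} (hD : IsSteinerSystem t k D) (d : Fin v ≃ γ) (hS : ∀ b ∈ D, ∃ m ∈ S, (dc v m).image d = b)
    {α : Type*} [Fintype α] [DecidableEq α] (hα : Fintype.card α = v) {B : Set (Finset α)}
    (hB : IsSteinerSystem t k B) : ∃ e : γ ≃ α, (fun b => b.image e) '' D = B := by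
  let a := Fintype.equivFinOfCardEq hα
  obtain ⟨σ, hσ⟩ := h _ (stein_map hB a) (by simp)
  refine ⟨d.symm.trans (σ.trans a.symm), stein_eq hB (stein_map hD _) htk ?_⟩
  rintro _ ⟨b, hb, rfl⟩
  obtain ⟨m, hm, rfl⟩ := hS b hb
  obtain ⟨c, hc, e⟩ := hσ m hm
  have : c = ((dc v m).image σ).image a.symm := by rw [← e, image_image]; simp
  convert hc using 1
  rw [this]; simp only [image_image]; congr 1; funext x; simp

theorem iso_of {γ α β : Type*} [DecidableEq γ] [DecidableEq α] [DecidableEq β] {D : Set (Finset γ)}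
    {B : Set (Finset α)} {B' : Set (Finset β)} (h : ∃ e : γ ≃ α, (fun b => b.image e) '' D = B)
    (h' : ∃ e : γ ≃ β, (fun b => b.image e) '' D = B') : SetSystemIso B B' := by
  obtain ⟨e, rfl⟩ := h
  obtain ⟨e', rfl⟩ := h'
  refine ⟨e.symm.trans e', ?_⟩
  rw [Set.image_image]; congr 1; funext b; rw [image_image]; congr 1; funext x; simp

/-- the family listed in `S` -/
def fam (v : ℕ) (S : List ℕ) : Set (Finset (Fin v)) := {b | ∃ m ∈ S, dc v m = b}

theorem card_inter_dc (v a b : ℕ) : (dc v a ∩ dc v b).card = popc v (Nat.land a b) := by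
  rw [← card_dc]; congr 1; ext x
  simp only [mem_inter, mem_dc]
  rw [show (Nat.land a b).testBit x = (a.testBit x && b.testBit x) from Nat.testBit_and _ _ _, Bool.and_eq_true]

theorem popc_pc {v m : ℕ} (hv : v ≤ 24) (h : m < 2 ^ v) : popc v m = pc m := by
  rw [popc_eq, pc_eq_lin, lin_one]; congr 1; ext i
  simp only [bitsOf, mem_filter, mem_range]
  refine ⟨fun h => ⟨by omega, h.2⟩, fun h1 => ⟨not_le.1 fun hi => ?_, h1.2⟩⟩
  rw [Nat.testBit_lt_two_pow (h.trans_le (Nat.pow_le_pow_right two_pos hi))] at h1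
  exact absurd h1.2 (by simp)

theorem inter_pc {v a : ℕ} (b : ℕ) (hv : v ≤ 24) (h : a < 2 ^ v) : (dc v a ∩ dc v b).card = pc (Nat.land a b) := by
  rw [card_inter_dc]; exact popc_pc hv (lt_of_le_of_lt Nat.and_le_left h)

noncomputable def pw (r : ℕ → ℕ → Bool) (l : List ℕ) : Bool :=
  List.rec (motive := fun _ => Bool) true (fun a l ih => Bool.rec false ih (allL (r a) l)) l
theorem pw_spec {r : ℕ → ℕ → Bool} {l : List ℕ} (h : pw r l = true) : l.Pairwise fun a b => r a b = true := by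
  induction l with
  | nil => exact .nil
  | cons a l ih =>
    have : (allL (r a) l && pw r l) = true := (rec_and _ _).symm.trans h
    rw [Bool.and_eq_true, allL_iff] at this
    exact .cons this.1 (ih this.2)

noncomputable def stChk (v t k : ℕ) (S : List ℕ) : Bool :=
  Nat.ble v 24 && Nat.ble t k && allL (fun m => Nat.blt m (Nat.pow 2 v) && Nat.beq (pc m) k) S &&
    pw (fun a b => Nat.blt (pc (Nat.land a b)) t) S && Nat.ble (Nat.choose v t) (S.length * Nat.choose k t)

theorem stein_fam {v t k : ℕ} {S : List ℕ} (h : stChk v t k S = true) : IsSteinerSystem t k (fam v S) := by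
  simp only [stChk, Bool.and_eq_true, Nat.ble_eq, allL_iff, Nat.blt_eq, Nat.beq_eq] at h
  obtain ⟨⟨⟨⟨hv, htk⟩, h1⟩, h2⟩, h3⟩ := h
  have hc : ∀ m ∈ S, (dc v m).card = k := fun m hm => by rw [card_dc, popc_pc hv (h1 m hm).1, (h1 m hm).2]
  have h4 : S.Pairwise fun a b => (dc v a ∩ dc v b).card < t :=
    (pw_spec h2).imp_of_mem fun {a b} ha _ hab => by rw [inter_pc b hv (h1 a ha).1]; simpa using hab
  have h5 : ∀ a ∈ S, ∀ b ∈ S, a ≠ b → (dc v a ∩ dc v b).card < t := fun a ha b hb hab =>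
    haveI : Std.Symm fun a b => (dc v a ∩ dc v b).card < t := ⟨fun a b h => by rwa [inter_comm]⟩
    h4.forall ha hb hab
  have hn : S.Nodup := h4.imp_of_mem fun {a b} ha _ hab e => by
    rw [← e, inter_self, hc a ha] at hab; omega
  refine stein_of ?_ (fun s hs => ?_) ?_
  · rintro _ ⟨m, hm, rfl⟩; exact hc m hm
  · have h6 : S.toFinset.biUnion (fun m => powersetCard t (dc v m)) = powersetCard t univ := by
      refine eq_of_subset_of_card_le (fun x hx => ?_) ?_
      · obtain ⟨m, -, hm⟩ := mem_biUnion.1 hx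
        exact mem_powersetCard_univ.2 (mem_powersetCard.1 hm).2
      · rw [card_biUnion, sum_const_nat (m := k.choose t) fun m hm => by
          rw [card_powersetCard, hc m (List.mem_toFinset.1 hm)], List.toFinset_card_of_nodup hn]
        · simpa using h3
        · intro a ha b hb hab
          refine disjoint_left.2 fun x h7 h8 => ?_
          rw [mem_powersetCard] at h7 h8
          have := (card_le_card (subset_inter h7.1 h8.1)).trans_lt (h5 a (by simpa using ha) b (by simpa using hb) hab)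
          omega
    obtain ⟨m, hm, h7⟩ := mem_biUnion.1 (h6 ▸ mem_powersetCard_univ.2 hs)
    exact ⟨_, ⟨m, List.mem_toFinset.1 hm, rfl⟩, (mem_powersetCard.1 h7).1⟩
  · rintro _ ⟨a, ha, rfl⟩ _ ⟨b, hb, rfl⟩ ht
    by_contra hne
    exact absurd (h5 a ha b hb fun e => hne (e ▸ rfl)) (not_lt.2 ht)

theorem uniq_fam {v t k : ℕ} {S : List ℕ} (h : Claim v t k S []) (h2 : stChk v t k S = true)
    {α : Type*} [Fintype α] [DecidableEq α] (hα : Fintype.card α = v) {B : Set (Finset α)}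
    (hB : IsSteinerSystem t k B) : ∃ e : Fin v ≃ α, (fun b => b.image e) '' fam v S = B :=
  uniq h (by simp only [stChk, Bool.and_eq_true, Nat.ble_eq] at h2; exact h2.1.1.1.2) (stein_fam h2) (Equiv.refl _)
    (fun b ⟨m, hm, e⟩ => ⟨m, hm, by simpa using e⟩) hα hB

/-! ### enumerating automorphisms -/

noncomputable def cov (S : List ℕ) (y : ℕ) : Bool := anyL (fun s => Nat.beq (Nat.land y s) y) S

noncomputable def aut (v : ℕ) (S : List ℕ) (f : (ℕ → ℕ) → Bool) (C : List (ℕ × List ℕ)) : ℕ → (ℕ → ℕ) → ℕ → Bool :=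
  List.rec (motive := fun _ => ℕ → (ℕ → ℕ) → ℕ → Bool) (fun A g _ => allLt v (tb A) && f g)
    (fun c _ ih A g U => Nat.blt c.1 v && !tb A c.1 && allL (mem · S) c.2 &&
      force (Nat.lor A (Nat.pow 2 c.1)) fun A' =>
      allLt v fun y => Bool.rec (Bool.rec true (force (Nat.lor U (Nat.pow 2 y)) fun U' =>
        ih A' (fun j => Bool.rec (g j) y (Nat.beq j c.1)) U')
        (allL (fun b => force (img v (fun j => Bool.rec (g j) y (Nat.beq j c.1)) (Nat.land b A')) (cov S)) c.2))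
        true (tb U y)) C

theorem dc_inj {v a b : ℕ} (ha : a < 2 ^ v) (hb : b < 2 ^ v) (h : dc v a = dc v b) : a = b := by
  refine Nat.eq_of_testBit_eq fun i => ?_
  by_cases hi : i < v
  · have := congrArg ((⟨i, hi⟩ : Fin v) ∈ ·) h
    simp only [mem_dc, eq_iff_iff] at this
    exact Bool.eq_iff_iff.2 this
  · have := Nat.pow_le_pow_right two_pos (not_lt.1 hi)
    rw [Nat.testBit_lt_two_pow (ha.trans_le this), Nat.testBit_lt_two_pow (hb.trans_le this)]

theorem testBit_lor (a i y : ℕ) : (Nat.lor a (Nat.pow 2 i)).testBit y = true ↔ a.testBit y = true ∨ i = y := by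
  rw [show (Nat.lor a (Nat.pow 2 i)).testBit y = _ from Nat.testBit_or _ _ _, Bool.or_eq_true]
  exact or_congr Iff.rfl (by rw [show Nat.pow 2 i = 2 ^ i from rfl, Nat.testBit_two_pow]; simp)

theorem aut_spec {v : ℕ} {S : List ℕ} {f : (ℕ → ℕ) → Bool} {σ : Equiv.Perm (Fin v)}
    (hσ : ∀ b ∈ fam v S, b.image σ ∈ fam v S) (C : List (ℕ × List ℕ)) : ∀ A g U,
    (∀ x : Fin v, A.testBit x = true → (σ x).1 = g x) →
    (∀ y, U.testBit y = true → ∃ x : Fin v, A.testBit x = true ∧ (σ x).1 = y) → aut v S f C A g U = true →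
      ∃ g', (∀ x, (σ x).1 = g' x) ∧ f g' = true := by
  induction C with
  | nil =>
    intro i g U h1 _ h
    simp only [aut, Bool.and_eq_true, allLt_iff, tb_eq] at h
    exact ⟨g, fun x => h1 x (h.1 x x.2), h.2⟩
  | cons c C ih =>
    intro A g U h1 h2 h
    have h3 : (Nat.blt c.1 v && !tb A c.1 && allL (mem · S) c.2 &&
      force (Nat.lor A (Nat.pow 2 c.1)) fun A' =>
      allLt v fun y => Bool.rec (Bool.rec true (force (Nat.lor U (Nat.pow 2 y)) fun U' =>
        aut v S f C A' (fun j => Bool.rec (g j) y (Nat.beq j c.1)) U')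
        (allL (fun b => force (img v (fun j => Bool.rec (g j) y (Nat.beq j c.1)) (Nat.land b A')) (cov S)) c.2))
        true (tb U y)) = true := h
    simp only [Bool.and_eq_true, Nat.blt_eq, allL_iff, allLt_iff, force_eq, Bool.not_eq_true', tb_eq] at h3
    obtain ⟨⟨⟨hi, hA⟩, h4⟩, h5⟩ := h3
    replace h5 := h5 _ (σ ⟨c.1, hi⟩).2
    have h6 : ∀ x : Fin v, (Nat.lor A (Nat.pow 2 c.1)).testBit x = true →
        (σ x).1 = Bool.rec (g x) (σ ⟨c.1, hi⟩).1 (Nat.beq x c.1) := fun x hx => by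
      cases hb : Nat.beq x c.1
      · exact h1 x (((testBit_lor _ _ _).1 hx).resolve_right (Ne.symm (Nat.ne_of_beq_eq_false hb)))
      · rw [show x = ⟨c.1, hi⟩ from Fin.ext (Nat.eq_of_beq_eq_true hb)]
    have h7 : U.testBit (σ ⟨c.1, hi⟩).1 = false := by
      rw [Bool.eq_false_iff]
      intro h7
      obtain ⟨x, hx, e⟩ := h2 _ h7
      rw [σ.injective (Fin.ext e), hA] at hx
      cases hx
    have h8 : allL (fun b => cov S (img v (fun j => Bool.rec (g j) (σ ⟨c.1, hi⟩).1 (Nat.beq j c.1))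
        (Nat.land b (Nat.lor A (Nat.pow 2 c.1))))) c.2 = true := by
      refine allL_iff.2 fun b hb => ?_
      obtain ⟨m, hm, e⟩ := hσ _ ⟨b, mem_spec (h4 b hb), rfl⟩
      refine anyL_iff.2 ⟨m, hm, Nat.beq_eq ▸ Nat.eq_of_testBit_eq fun y => (Nat.testBit_and _ _ _).trans ?_⟩
      rw [Bool.and_eq_left_iff_imp, testBit_img]
      rintro ⟨j, hj, h9, rfl⟩
      rw [show (Nat.land b _).testBit j = _ from Nat.testBit_and _ _ _, Bool.and_eq_true] at h9
      rw [← h6 ⟨j, hj⟩ h9.2, ← mem_dc, e]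
      exact mem_image_of_mem _ (mem_dc.2 h9.1)
    rw [h7, h8] at h5
    refine ih _ _ _ h6 (fun y hy => ?_) h5
    rcases (testBit_lor _ _ _).1 hy with hy | hy
    · obtain ⟨x, hx, e⟩ := h2 y hy
      exact ⟨x, (testBit_lor _ _ _).2 (Or.inl hx), e⟩
    · exact ⟨⟨c.1, hi⟩, (testBit_lor _ _ _).2 (Or.inr rfl), hy⟩

theorem aut_fix {v i : ℕ} {S : List ℕ} {f : (ℕ → ℕ) → Bool} (C : List (ℕ × List ℕ))
    (h : (Nat.ble i v && aut v S f C (Nat.sub (Nat.pow 2 i) 1) (fun j => j) (Nat.sub (Nat.pow 2 i) 1)) = true)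
    {σ : Equiv.Perm (Fin v)} (hσ : ∀ b ∈ fam v S, b.image σ ∈ fam v S) (h1 : ∀ x : Fin v, x.1 < i → σ x = x) :
    ∃ g', (∀ x, (σ x).1 = g' x) ∧ f g' = true := by
  simp only [Bool.and_eq_true, Nat.ble_eq] at h
  have h2 : ∀ y, (Nat.sub (Nat.pow 2 i) 1).testBit y = true → y < i := fun y hy => by
    simpa using (Nat.testBit_two_pow_sub_one i y).symm.trans hy
  exact aut_spec hσ C _ _ _ (fun x hx => by rw [h1 x (h2 _ hx)])
    (fun y hy => ⟨⟨y, (h2 y hy).trans_le h.1⟩, hy, by rw [h1 _ (h2 y hy)]⟩) h.2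

theorem mem_of {y : ℕ} {K : List ℕ} (h : y ∈ K) : mem y K = true := anyL_iff.2 ⟨y, h, Nat.beq_refl y⟩

end H0.St
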