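import Cfsg.Agent.H0.Stein
import Cfsg.Agent.H6.More
import Cfsg.Agent.H6.Trio

/-! Transport along isomorphisms of set systems; automorphism groups inside `M24`. -/

namespace H0.St
open Finset Cfsg H6 MulAction
open scoped Pointwise

section
variable {γ α : Type*} [DecidableEq γ] [DecidableEq α] (e : γ ≃ α)

theorem im_inj : Function.Injective fun b : Finset γ => b.image e := image_injective e.injective
theorem card_im (b : Finset γ) : (b.image e).card = b.card := card_image_of_injective _ e.injective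
theorem inter_im (b c : Finset γ) : b.image e ∩ c.image e = (b ∩ c).image e := (image_inter _ _ e.injective).symm
theorem card_inter_im (b c : Finset γ) : (b.image e ∩ c.image e).card = (b ∩ c).card := by rw [inter_im, card_im]
theorem exists_im (Y : Finset α) : ∃ b : Finset γ, b.image e = Y := ⟨Y.image e.symm, by simp [image_image]⟩
theorem mem_im {b : Finset γ} {x : γ} : e x ∈ b.image e ↔ x ∈ b := e.injective.mem_finset_image
theorem im_mem {D : Set (Finset γ)} {b : Finset γ} : b.image e ∈ (fun b : Finset γ => b.image e) '' D ↔ b ∈ D :=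
  (im_inj e).mem_set_image
theorem disjoint_im {b c : Finset γ} : Disjoint (b.image e) (c.image e) ↔ Disjoint b c := disjoint_image e.injective
theorem subset_im {b c : Finset γ} : b.image e ⊆ c.image e ↔ b ⊆ c := image_subset_image_iff e.injective
theorem ncard_im (P : Finset α → Prop) : {c | P c}.ncard = {b : Finset γ | P (b.image e)}.ncard := by
  rw [← Set.ncard_image_of_injective _ (im_inj e)]
  congr 1; ext c
  obtain ⟨b, rfl⟩ := exists_im e c
  exact (im_mem e (D := {b : Finset γ | P (b.image e)})).symm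
end

noncomputable def cnt (q : ℕ → Bool) (l : List ℕ) : ℕ :=
  List.rec (motive := fun _ => ℕ) 0 (fun a _ ih => Bool.rec ih (Nat.succ ih) (q a)) l
theorem cnt_eq (q : ℕ → Bool) (l : List ℕ) : cnt q l = l.countP q := by
  induction l with
  | nil => rfl
  | cons a l ih =>
    have : cnt q (a :: l) = Bool.rec (cnt q l) (Nat.succ (cnt q l)) (q a) := rfl
    rw [this, List.countP_cons, ih]; cases q a <;> rfl

theorem ok_spec {v t k : ℕ} {S : List ℕ} (h : stChk v t k S = true) :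
    v ≤ 24 ∧ (∀ m ∈ S, m < 2 ^ v) ∧ S.Nodup := by
  simp only [stChk, Bool.and_eq_true, Nat.ble_eq, allL_iff, Nat.blt_eq, Nat.beq_eq] at h
  obtain ⟨⟨⟨⟨hv, htk⟩, h1⟩, h2⟩, -⟩ := h
  refine ⟨hv, fun m hm => (h1 m hm).1, (pw_spec h2).imp_of_mem fun {a b} ha _ hab e => ?_⟩
  rw [← e, show Nat.land a a = a from Nat.and_self a, (h1 a ha).2, Nat.blt_eq] at hab
  omega

theorem ncard_fam {v t k : ℕ} {S : List ℕ} (h : stChk v t k S = true) (P : Finset (Fin v) → Prop) (q : ℕ → Bool)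
    (hq : ∀ m ∈ S, (P (dc v m) ↔ q m = true)) : {c | c ∈ fam v S ∧ P c}.ncard = cnt q S := by
  obtain ⟨-, h1, h2⟩ := ok_spec h
  rw [cnt_eq, List.countP_eq_length_filter, ← List.toFinset_card_of_nodup (h2.filter _), ← Set.ncard_coe_finset,
    ← Set.InjOn.ncard_image (f := dc v) fun a ha b hb => dc_inj (h1 a (by simp at ha; exact ha.1))
      (h1 b (by simp at hb; exact hb.1))]
  congr 1; ext c
  simp only [fam, Set.mem_setOf_eq, Set.mem_image, mem_coe, List.mem_toFinset, List.mem_filter]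
  exact ⟨fun ⟨⟨m, hm, e⟩, hp⟩ => ⟨m, ⟨hm, (hq m hm).1 (e ▸ hp)⟩, e⟩,
    fun ⟨m, ⟨hm, hp⟩, e⟩ => ⟨⟨m, hm, e⟩, e ▸ (hq m hm).2 hp⟩⟩

theorem exists_dc {v : ℕ} (Y : Finset (Fin v)) : ∃ m < 2 ^ v, dc v m = Y := by
  have : Function.Surjective fun m : Fin (2 ^ v) => dc v m :=
    ((Fintype.bijective_iff_injective_and_card _).2 ⟨fun a b h => Fin.ext (dc_inj a.2 b.2 h), by simp⟩).2
  obtain ⟨m, hm⟩ := this Y
  exact ⟨m, m.2, hm⟩

theorem dc_and (v a b : ℕ) : dc v (Nat.land a b) = dc v a ∩ dc v b := by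
  ext x
  simp only [mem_inter, mem_dc]
  rw [show (Nat.land a b).testBit x = (a.testBit x && b.testBit x) from Nat.testBit_and _ _ _, Bool.and_eq_true]

theorem card_pc {v m : ℕ} (hv : v ≤ 24) (h : m < 2 ^ v) : (dc v m).card = pc m := by rw [card_dc, popc_pc hv h]

/-! ### restriction of subgroups of `M24` -/

noncomputable def pull (v : ℕ) (L : ℕ → ℕ) (m : ℕ) : ℕ :=
  Nat.rec (motive := fun _ => ℕ) 0 (fun j ih => Bool.rec ih (Nat.lor ih (Nat.pow 2 j)) (tb m (L j))) v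

theorem testBit_pull (v : ℕ) (L : ℕ → ℕ) (m y : ℕ) : (pull v L m).testBit y = true ↔ y < v ∧ m.testBit (L y) = true := by
  induction v with
  | zero => simp [pull]
  | succ v ih =>
    have e : pull (v + 1) L m = Bool.rec (pull v L m) (Nat.lor (pull v L m) (Nat.pow 2 v)) (tb m (L v)) := rfl
    have e2 : (Nat.lor (pull v L m) (Nat.pow 2 v)).testBit y = ((pull v L m).testBit y || decide (v = y)) := by
      rw [← Nat.testBit_two_pow]; exact Nat.testBit_or _ _ _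
    rw [e, tb_eq, Nat.lt_succ_iff_lt_or_eq, or_and_right, ← ih]
    cases hm : m.testBit (L v)
    · exact ⟨Or.inl, fun h => h.elim id fun h => by rw [h.1, hm] at h; cases h.2⟩
    · dsimp only; rw [e2, Bool.or_eq_true, decide_eq_true_eq]
      exact or_congr Iff.rfl ⟨fun h => h ▸ ⟨rfl, hm⟩, fun h => h.1.symm⟩

noncomputable def famChk (v : ℕ) (L : ℕ → ℕ) (q : ℕ → Bool) (S S' : List ℕ) : Bool :=
  allLt v (fun j => Nat.blt (L j) 24 && allLt j fun i => !Nat.beq (L i) (L j)) &&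
  allLt 4096 (fun n => force (cw n) fun c => Bool.rec true (force (pull v L c) (mem · S)) (q c)) &&
  allL (fun c => isCw c && q c) S' && decide (S'.map (pull v L) = S)

theorem famChk_spec {v : ℕ} {L : ℕ → ℕ} {q : ℕ → Bool} {S S' : List ℕ} (h : famChk v L q S S' = true) :
    (∀ j < v, L j < 24) ∧ (Function.Injective fun x : Fin v => pt (L x)) ∧
      ∀ b, b ∈ fam v S ↔ ∃ o ∈ CC, q (enc o) = true ∧ ∀ x : Fin v, x ∈ b ↔ pt (L x) ∈ o := by
  simp only [famChk, Bool.and_eq_true, allLt_iff, allL_iff, Nat.blt_eq, Bool.not_eq_true', force_eq,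
    decide_eq_true_eq] at h
  obtain ⟨⟨⟨h1, h2⟩, h3⟩, h4⟩ := h
  have h5 : ∀ (o : Finset GolayPt) (x : Fin v), x ∈ dc v (pull v L (enc o)) ↔ pt (L x) ∈ o := fun o x => by
    rw [mem_dc, testBit_pull, testBit_enc]; simp [(h1 x x.2).1]
  refine ⟨fun j hj => (h1 j hj).1, fun x y e => ?_, fun b => ⟨?_, ?_⟩⟩
  · have := pt_inj (h1 x x.2).1 (h1 y y.2).1 e
    rcases lt_trichotomy x.1 y.1 with h | h | h
    · exact absurd this (Nat.ne_of_beq_eq_false ((h1 y y.2).2 x h))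
    · exact Fin.ext h
    · exact absurd this.symm (Nat.ne_of_beq_eq_false ((h1 x x.2).2 y h))
  · rintro ⟨m, hm, rfl⟩
    obtain ⟨c, hc, rfl⟩ := List.mem_map.1 (h4 ▸ hm)
    obtain ⟨n, hn, rfl⟩ := isCw_iff.1 (h3 c hc).1
    have := enc_dec (cw_spec hn).2.2
    exact ⟨_, dec_cw_mem hn, this.symm ▸ (h3 _ hc).2, fun x => by rw [← h5, this]⟩
  · rintro ⟨o, ho, hq, hb⟩
    obtain ⟨n, hn, e⟩ := mem_CC_iff.1 ho
    have := h2 n hn
    rw [e, hq] at this
    exact ⟨_, mem_spec this, Finset.ext fun x => (h5 o x).trans (hb x).symm⟩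

theorem exists_res {α : Type*} (K : Subgroup M24) {p : α → GolayPt} (hp : Function.Injective p)
    (h : ∀ g ∈ K, ∀ x, ∃ y, p y = g • p x) : ∃ ρ : K →* Equiv.Perm α, ∀ g x, p (ρ g x) = (g : M24) • p x := by
  choose f hf using h
  letI : MulAction K α :=
    { smul := fun g x => f g g.2 x
      one_smul := fun x => hp ((hf _ _ x).trans (one_smul _ _))
      mul_smul := fun a b x => hp ((hf _ _ x).trans (((mul_smul _ _ _).trans (congrArg ((a : M24) • ·) (hf _ b.2 x).symm)).trans (hf _ _ _).symm)) }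
  exact ⟨toPermHom K α, fun g x => hf _ g.2 x⟩

theorem mem_aut {α : Type*} [DecidableEq α] [Finite α] {B : Set (Finset α)} {σ : Equiv.Perm α} :
    σ ∈ setSystemAut B ↔ ∀ b ∈ B, b.image σ ∈ B :=
  ⟨fun h b hb => by rw [← (h : σ • B = B)]; exact Set.smul_mem_smul_set hb,
    fun h => smul_set_eq_of_maps (Set.toFinite _) h⟩

/-- the automorphism group of a system isomorphic to `fam v S` is the restriction of `K` -/
theorem aut_main {v i : ℕ} {L : ℕ → ℕ} {q : ℕ → Bool} {S S' : List ℕ} (h : famChk v L q S S' = true)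
    {K : Subgroup M24} {c : ℕ → Bool} (hc : Ck c K) (A : Set GolayPt) (hA : ∀ y, y ∈ A ↔ ∃ j < v, pt (L j) = y)
    (hK : ∀ g ∈ K, ∀ y ∈ A, g • y ∈ A) (hq : ∀ g ∈ K, ∀ o, q (enc o) = true → q (enc (g • o)) = true)
    (htr : ∀ x y : Fin i ↪ GolayPt, (∀ j, x j ∈ A) → (∀ j, y j ∈ A) → ∃ g ∈ K, ∀ j, g • x j = y j)
    (TL : List ℕ) (C : List (ℕ × List ℕ)) (hT : allL c TL = true)
    (ha : (Nat.ble i v && aut v S (fun g => anyL (fun t => allLt v fun j => Nat.beq (ap t (L j)) (L (g j))) TL) C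
      (Nat.sub (Nat.pow 2 i) 1) (fun j => j) (Nat.sub (Nat.pow 2 i) 1)) = true)
    {α : Type*} [Fintype α] [DecidableEq α] {B : Set (Finset α)}
    (hB : ∃ e : Fin v ≃ α, (fun b => b.image e) '' fam v S = B) :
    ∃ p : α → GolayPt, Function.Injective p ∧ Set.range p = A ∧
      (∀ b, b ∈ B ↔ ∃ o ∈ CC, q (enc o) = true ∧ ∀ x, x ∈ b ↔ p x ∈ o) ∧ ∃ ρ : K →* Equiv.Perm α,
      (∀ g x, p (ρ g x) = (g : M24) • p x) ∧ ρ.range = setSystemAut B ∧
        IsMultiplyPretransitive (setSystemAut B) α i := by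
  obtain ⟨e, rfl⟩ := hB
  obtain ⟨h1, h2, h3⟩ := famChk_spec h
  let p : α → GolayPt := fun x => pt (L (e.symm x))
  have hp : Function.Injective p := h2.comp e.symm.injective
  have hr : Set.range p = A := Set.ext fun y => (hA y).trans ⟨fun ⟨j, hj, h⟩ => ⟨e ⟨j, hj⟩, by simpa [p] using h⟩,
    fun ⟨x, h⟩ => ⟨_, (e.symm x).2, h⟩⟩ |>.symm
  have h4 : ∀ b, b ∈ (fun b : Finset (Fin v) => b.image e) '' fam v S ↔
      ∃ o ∈ CC, q (enc o) = true ∧ ∀ x, x ∈ b ↔ p x ∈ o := fun b => by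
    obtain ⟨b, rfl⟩ := exists_im e b
    rw [im_mem, h3]
    refine exists_congr fun o => and_congr_right fun _ => and_congr_right fun _ => ?_
    rw [e.surjective.forall]
    simp only [mem_im, p, e.symm_apply_apply]
  obtain ⟨ρ, hρ⟩ := exists_res K hp fun g hg x => (hr ▸ hK g hg _ (hr ▸ ⟨x, rfl⟩) : g • p x ∈ Set.range p)
  have h5 : ∀ g, ρ g ∈ setSystemAut ((fun b : Finset (Fin v) => b.image e) '' fam v S) := fun g =>
    mem_aut.2 fun b hb => by
      obtain ⟨o, ho, h6, h7⟩ := (h4 b).1 hb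
      refine (h4 _).2 ⟨(g : M24) • o, (smul_mem_CC' _ _).2 ho, hq _ g.2 o h6, (ρ g).surjective.forall.2 fun x => ?_⟩
      rw [mem_im, hρ, smul_mem_smul_finset_iff, h7]
  have h6 : ∀ x y : Fin i ↪ α, ∃ g : K, ∀ j, ρ g (x j) = y j := fun x y => by
    obtain ⟨g, hg, h7⟩ := htr (x.trans ⟨p, hp⟩) (y.trans ⟨p, hp⟩) (fun j => hr ▸ ⟨_, rfl⟩) (fun j => hr ▸ ⟨_, rfl⟩)
    exact ⟨⟨g, hg⟩, fun j => hp ((hρ _ _).trans (h7 j))⟩
  refine ⟨p, hp, hr, h4, ρ, hρ, le_antisymm (by rintro _ ⟨g, rfl⟩; exact h5 g) fun σ hσ => ?_,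
    isMultiplyPretransitive_iff.2 fun x y => ?_⟩
  · have hi : i ≤ v := by simp only [Bool.and_eq_true, Nat.ble_eq] at ha; exact ha.1
    obtain ⟨g, hg⟩ := h6 ((Fin.castLEEmb hi).trans e.toEmbedding)
      (((Fin.castLEEmb hi).trans e.toEmbedding).trans σ.toEmbedding)
    have h7 := mem_aut.1 (mul_mem (inv_mem (h5 g)) hσ)
    obtain ⟨f, hf, h8⟩ := aut_fix C ha (σ := e.trans (((ρ g)⁻¹ * σ).trans e.symm)) (fun b hb => by
      rw [← im_mem e]; convert h7 _ ((im_mem e).2 hb) using 1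
      simp only [image_image]; congr 1; funext x; simp) (fun x hx => by
      have := hg ⟨x, hx⟩
      simp only [Function.Embedding.trans_apply, Fin.castLEEmb_apply, Equiv.toEmbedding_apply, Fin.castLE_mk,
        Fin.eta] at this
      simp [← this])
    obtain ⟨t, ht, h9⟩ := anyL_iff.1 h8
    obtain ⟨gt, hK⟩ := hc t (allL_iff.1 hT t ht)
    refine ⟨g * ⟨_, hK⟩, ?_⟩
    rw [map_mul, ← eq_inv_mul_iff_mul_eq]
    refine Equiv.ext fun x => hp ?_
    rw [hρ]
    show E t • pt (L (e.symm x)) = pt (L (e.symm _))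
    rw [gt.smul_pt (h1 _ (e.symm x).2), Nat.eq_of_beq_eq_true (allLt_iff.1 h9 _ (e.symm x).2), ← hf]
    simp
  · obtain ⟨g, hg⟩ := h6 x y
    exact ⟨⟨_, h5 g⟩, Function.Embedding.ext hg⟩

theorem equiv_of_res {α : Type*} {K : Subgroup M24} {p : α → GolayPt} {ρ : K →* Equiv.Perm α}
    (hρ : ∀ g x, p (ρ g x) = (g : M24) • p x) {X : Subgroup (Equiv.Perm α)} (hX : ρ.range = X)
    (hf : ∀ g ∈ K, (∀ y ∈ Set.range p, g • y = y) → g = 1) : Nonempty (K ≃* X) :=
  ⟨(MonoidHom.ofInjective ((injective_iff_map_eq_one ρ).2 fun g hg => Subtype.ext (hf _ g.2 (by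
    rintro _ ⟨x, rfl⟩; rw [← hρ, hg]; rfl)))).trans (MulEquiv.subgroupCongr hX)⟩

theorem sharp_of_card {G α : Type*} [Group G] [Finite G] [MulAction G α] [Fintype α] {n : ℕ}
    (h : IsMultiplyPretransitive G α n) (hc : Nat.card G = (Fintype.card α).descFactorial n) (x : Fin n ↪ α) :
    stabilizer G x = ⊥ := by
  classical
  have h1 := (stabilizer G x).card_mul_index
  rw [index_stabilizer_of_transitive, Nat.card_eq_fintype_card (α := Fin n ↪ α), Fintype.card_embedding_eq,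
    Fintype.card_fin, ← hc] at h1
  exact Subgroup.eq_bot_of_card_eq _ (Nat.eq_of_mul_eq_mul_right Nat.card_pos (h1.trans (one_mul _).symm))

theorem map_app {n : ℕ} {Y : List GolayPt} {x y : Fin n ↪ GolayPt} {g : M24}
    (h : (Y ++ List.ofFn x).map (g • ·) = Y ++ List.ofFn y) : (∀ a ∈ Y, g • a = a) ∧ ∀ j, g • x j = y j := by
  rw [List.map_append, List.map_ofFn] at h
  obtain ⟨h1, h2⟩ := List.append_inj h (by simp)
  exact ⟨List.map_eq_map_iff.1 (h1.trans (List.map_id Y).symm), congrFun (List.ofFn_injective h2)⟩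

theorem nodup_app {n : ℕ} {Y : List GolayPt} (hY : Y.Nodup) {x : Fin n ↪ GolayPt} (h : ∀ j, x j ∉ Y) :
    (Y ++ List.ofFn x).Nodup :=
  hY.append (List.nodup_ofFn.2 x.injective) fun a ha hb => by
    obtain ⟨j, rfl⟩ := List.mem_ofFn.1 hb; exact h j ha

theorem tr_emb {n : ℕ} {Y : List GolayPt} (hY : Y.Nodup) (hn : Y.length + n ≤ 5) (x y : Fin n ↪ GolayPt)
    (hx : ∀ j, x j ∉ Y) (hy : ∀ j, y j ∉ Y) : ∃ g : M24, (∀ a ∈ Y, g • a = a) ∧ ∀ j, g • x j = y j := by
  obtain ⟨g, hg⟩ := exists_list (nodup_app hY hx) (nodup_app hY hy) (by simp) (by simpa using hn)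
  exact ⟨g, map_app hg⟩

theorem tr_embD {n : ℕ} {Y : List GolayPt} (hY : Y.Nodup) (hn : Y.length + n ≤ 5) (hD : ∀ a ∈ Y, a ∈ D0)
    (x y : Fin n ↪ GolayPt) (hx : ∀ j, x j ∉ Y ∧ x j ∈ D0) (hy : ∀ j, y j ∉ Y ∧ y j ∈ D0) :
    ∃ g ∈ stabilizer M24 D0, (∀ a ∈ Y, g • a = a) ∧ ∀ j, g • x j = y j := by
  obtain ⟨g, h, hg⟩ := exists_list_dodecad D0_mem (nodup_app hY fun j => (hx j).1) (nodup_app hY fun j => (hy j).1)
    (by simp) (by simpa using hn) (fun a ha => (List.mem_append.1 ha).elim (hD a) fun h => by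
      obtain ⟨j, rfl⟩ := List.mem_ofFn.1 h; exact (hx j).2) (fun a ha => (List.mem_append.1 ha).elim (hD a) fun h => by
      obtain ⟨j, rfl⟩ := List.mem_ofFn.1 h; exact (hy j).2)
  exact ⟨g, h, map_app hg⟩

def qq (M n m : ℕ) : Bool := Nat.beq (pc m) 8 && Nat.beq (pc (Nat.land M m)) n
theorem qq_iff (M n : ℕ) (o : Finset GolayPt) : qq M n (enc o) = true ↔ o.card = 8 ∧ (dec M ∩ o).card = n := by
  rw [qq, Bool.and_eq_true, ← card_dec_inter_eq, ← card_eq_pc, Nat.beq_eq]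
theorem qq_inv {M n : ℕ} {g : M24} (hg : g ∈ stabilizer M24 (dec M)) (o : Finset GolayPt)
    (h : qq M n (enc o) = true) : qq M n (enc (g • o)) = true := by
  rwa [qq_iff, card_smul_finset, card_inter_of_stab hg, ← qq_iff]

end H0.St
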