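import Cfsg.Agent.H0.StA

/-! Enumeration of arcs; strongly regular graphs given by bit masks; the Higman–Sims graph. -/

set_option maxRecDepth 100000
namespace H0.St
open Finset Cfsg H6 MulAction
open scoped Pointwise

theorem enum {v t k : ℕ} {K : List ℕ} {f : ℕ → Bool} (h : (Nat.ble t 8 && dfs (lanes K fun _ => 8) f
    ((List.range v).map fun x => (x, lanes K fun a => bit a x)) k 0 (lanes K fun _ => 8 - t)) = true)
    {b : Finset (Fin v)} (hb : b.card = k) (h2 : ∀ a ∈ K, (b ∩ dc v a).card < t) : ∃ m, dc v m = b ∧ f m = true := by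
  have h0 : dc v 0 = ∅ := by ext; simp
  rw [Bool.and_eq_true, Nat.ble_eq] at h
  refine dfs_spec h.1 h2 _ (fun e he => ?_) k 0 _ (by unfold Inv; congr 1; funext b; rw [h0]; simp) (by simp [h0])
    (by simpa [h0] using hb) (fun x _ => ⟨_, List.mem_map_of_mem (List.mem_range.2 x.2), rfl⟩) h.2
  obtain ⟨y, hy, rfl⟩ := List.mem_map.1 he
  exact ⟨List.mem_range.1 hy, rfl⟩

noncomputable def srt (l : List ℕ) : ℕ → Bool :=
  List.rec (motive := fun _ => ℕ → Bool) (fun _ => true) (fun a _ ih n => Nat.blt a n && ih a) l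
theorem srt_spec {l : List ℕ} {n : ℕ} (h : srt l n = true) : (∀ a ∈ l, a < n) ∧ l.Nodup := by
  induction l generalizing n with
  | nil => simp
  | cons a l ih =>
    have : (Nat.blt a n && srt l a) = true := h
    rw [Bool.and_eq_true, Nat.blt_eq] at this
    obtain ⟨h1, h2⟩ := ih this.2
    exact ⟨List.forall_mem_cons.2 ⟨this.1, fun b hb => (h1 b hb).trans this.1⟩,
      List.nodup_cons.2 ⟨fun h => lt_irrefl _ (h1 a h), h2⟩⟩

theorem ncard_fam' {v : ℕ} {S : List ℕ} (h : srt S (2 ^ v) = true) (P : Finset (Fin v) → Prop) (q : ℕ → Bool)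
    (hq : ∀ m ∈ S, (P (dc v m) ↔ q m = true)) : {c | c ∈ fam v S ∧ P c}.ncard = cnt q S := by
  obtain ⟨h1, h2⟩ := srt_spec h
  rw [cnt_eq, List.countP_eq_length_filter, ← List.toFinset_card_of_nodup (h2.filter _), ← Set.ncard_coe_finset,
    ← Set.InjOn.ncard_image (f := dc v) fun a ha b hb => dc_inj (h1 a (by simp at ha; exact ha.1))
      (h1 b (by simp at hb; exact hb.1))]
  congr 1; ext c
  simp only [fam, Set.mem_setOf_eq, Set.mem_image, mem_coe, List.mem_toFinset, List.mem_filter]
  exact ⟨fun ⟨⟨m, hm, e⟩, hp⟩ => ⟨m, ⟨hm, (hq m hm).1 (e ▸ hp)⟩, e⟩,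
    fun ⟨m, ⟨hm, hp⟩, e⟩ => ⟨⟨m, hm, e⟩, e ▸ (hq m hm).2 hp⟩⟩

/-- the `k`-sets meeting every member of `K` in fewer than `t` points -/
theorem arcs {v t k : ℕ} {K A : List ℕ} (h : (Nat.ble t 8 && dfs (lanes K fun _ => 8) (mem · A)
    ((List.range v).map fun x => (x, lanes K fun a => bit a x)) k 0 (lanes K fun _ => 8 - t)) = true)
    (h1 : (Nat.ble v 24 && srt A (2 ^ v) && allL (fun m => Nat.beq (pc m) k &&
      allL (fun a => Nat.blt (pc (Nat.land m a)) t) K) A) = true) (b : Finset (Fin v)) :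
    (b.card = k ∧ ∀ l ∈ fam v K, (l ∩ b).card < t) ↔ b ∈ fam v A := by
  simp only [Bool.and_eq_true, Nat.ble_eq, allL_iff, Nat.beq_eq, Nat.blt_eq] at h1
  constructor
  · rintro ⟨h2, h3⟩
    obtain ⟨m, h4, h5⟩ := enum h h2 fun a ha => inter_comm b _ ▸ h3 _ ⟨a, ha, rfl⟩
    exact ⟨m, mem_spec h5, h4⟩
  · rintro ⟨m, hm, rfl⟩
    have h2 := (srt_spec h1.1.2).1 m hm
    refine ⟨(card_pc h1.1.1 h2).trans (h1.2 m hm).1, ?_⟩
    rintro _ ⟨a, ha, rfl⟩
    rw [inter_comm, inter_pc a h1.1.1 h2]
    exact (h1.2 m hm).2 a ha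

theorem subset_dc {v a : ℕ} (ha : a < 2 ^ v) (b : ℕ) : dc v a ⊆ dc v b ↔ Nat.beq (Nat.land a b) a = true := by
  rw [← inter_eq_left, ← dc_and, Nat.beq_eq]
  exact ⟨dc_inj (lt_of_le_of_lt Nat.and_le_left ha) ha, fun h => by rw [h]⟩

theorem forall_im {γ α : Type*} [DecidableEq α] (e : γ ≃ α) {D : Set (Finset γ)} {P : Finset α → Prop} :
    (∀ l ∈ (fun b : Finset γ => b.image e) '' D, P l) ↔ ∀ l ∈ D, P (l.image e) := Set.forall_mem_image

/-! ### strongly regular graphs -/

noncomputable def srgChk (n k l m : ℕ) (A : ℕ → ℕ) : Bool :=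
  allLt n fun i => force (A i) fun a => Nat.beq (popc n a) k && allLt n fun j =>
    force (Nat.land a (A j)) fun c => Nat.beq i j || Nat.beq (popc n c) (Bool.rec m l (tb a j))

theorem srg_of {V : Type*} [Fintype V] {G : SimpleGraph V} [DecidableRel G.Adj] {n k l m : ℕ} (φ : Fin n ≃ V)
    {A : ℕ → ℕ} (hA : ∀ i j, G.Adj (φ i) (φ j) ↔ (A i).testBit j = true) (h : srgChk n k l m A = true) :
    G.IsSRGWith n k l m := by
  classical
  simp only [srgChk, allLt_iff, force_eq, Bool.and_eq_true, Bool.or_eq_true, Nat.beq_eq, tb_eq] at h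
  have h1 : ∀ i j, Fintype.card (G.commonNeighbors (φ i) (φ j)) = popc n (Nat.land (A i) (A j)) := fun i j => by
    rw [← card_dc, dc_and, ← Fintype.card_coe]
    exact Fintype.card_congr (φ.subtypeEquiv fun x => by simp [SimpleGraph.mem_commonNeighbors, hA]).symm
  refine ⟨(Fintype.card_congr φ.symm).trans (Fintype.card_fin n), φ.surjective.forall.2 fun i => ?_,
    φ.surjective.forall₂.2 fun i j hij => ?_, φ.surjective.forall₂.2 fun i j hne hij => ?_⟩
  · rw [← (h i i.2).1, ← card_dc, ← SimpleGraph.card_neighborSet_eq_degree, ← Fintype.card_coe]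
    exact Fintype.card_congr (φ.subtypeEquiv fun x => by simp [hA]).symm
  · rw [h1, ((h i i.2).2 j j.2).resolve_left fun e => hij.ne (congrArg φ (Fin.ext e)), (hA i j).1 hij]
  · rw [h1, ((h i i.2).2 j j.2).resolve_left fun e => hne (congrArg φ (Fin.ext e)),
      Bool.eq_false_iff.2 fun e => hij ((hA i j).2 e)]

theorem iso_of_masks {V W : Type*} {G : SimpleGraph V} {H : SimpleGraph W} {n : ℕ} (φ : Fin n ≃ V) (ψ : Fin n ≃ W)
    {A : ℕ → ℕ} (hA : ∀ i j, G.Adj (φ i) (φ j) ↔ (A i).testBit j = true)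
    (hB : ∀ i j, H.Adj (ψ i) (ψ j) ↔ (A i).testBit j = true) : ∃ f : G ≃g H, ∀ i, f (φ i) = ψ i :=
  ⟨⟨φ.symm.trans ψ, fun {a b} => by
    obtain ⟨i, rfl⟩ := φ.surjective a
    obtain ⟨j, rfl⟩ := φ.surjective b
    simp [hA, hB]⟩, fun i => by simp [RelIso.coe_fn_mk]⟩

def blk (i : ℕ) : ℕ := St22.S.getD i 0

theorem blocks22 {α : Type*} [DecidableEq α] (e : Fin 22 ≃ α) :
    ∃ β : Fin 77 ≃ ((fun b : Finset (Fin 22) => b.image e) '' fam 22 St22.S), ∀ i, (β i).1 = (dc 22 (blk i)).image e := by
  have hl : St22.S.length = 77 := by decide +kernel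
  have hm : ∀ i : Fin 77, blk i ∈ St22.S := fun i => by
    rw [blk, List.getD_eq_getElem _ _ (i.2.trans_eq hl.symm)]; exact List.getElem_mem _
  obtain ⟨-, h1, h2⟩ := ok_spec St22.ok
  refine ⟨Equiv.ofBijective (fun i => ⟨_, _, ⟨_, hm i, rfl⟩, rfl⟩) ⟨fun i j h => ?_, ?_⟩, fun _ => rfl⟩
  · have := dc_inj (h1 _ (hm i)) (h1 _ (hm j)) (im_inj e (congrArg Subtype.val h))
    rw [blk, blk, List.getD_eq_getElem _ _ (i.2.trans_eq hl.symm), List.getD_eq_getElem _ _ (j.2.trans_eq hl.symm)] at this
    exact Fin.ext (h2.getElem_inj_iff.1 this)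
  · rintro ⟨_, _, ⟨m, hm, rfl⟩, rfl⟩
    obtain ⟨i, hi, rfl⟩ := List.getElem_of_mem hm
    exact ⟨⟨i, hl ▸ hi⟩, Subtype.ext (by simp only [blk, List.getD_eq_getElem _ _ hi])⟩

theorem disjoint_dc (v a b : ℕ) : Disjoint (dc v a) (dc v b) ↔ popc v (Nat.land a b) = 0 := by
  rw [disjoint_iff_inter_eq_empty, ← card_eq_zero, card_inter_dc]

def ix : Fin 100 ≃ Option (Fin 22 ⊕ Fin 77) where
  toFun i := if h : i.1 = 0 then none else if h' : i.1 < 23 then some (.inl ⟨i.1 - 1, by omega⟩)
    else some (.inr ⟨i.1 - 23, by omega⟩)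
  invFun u := match u with
    | none => 0
    | some (.inl a) => ⟨a.1 + 1, by omega⟩
    | some (.inr a) => ⟨a.1 + 23, by omega⟩
  left_inv := by decide +kernel
  right_inv := by decide +kernel

noncomputable def rH : Option (Fin 22 ⊕ Fin 77) → Option (Fin 22 ⊕ Fin 77) → Bool
  | none, some (Sum.inl _) => true
  | some (Sum.inl a), some (Sum.inr b) => (blk b).testBit a
  | some (Sum.inr b), some (Sum.inr c) => Nat.beq (popc 22 (Nat.land (blk b) (blk c))) 0
  | _, _ => false

def AH (i : ℕ) : ℕ := lane 100 0x7dbf6805e0800000000031e0d80cb10419060000000004aca68e048a118900000000004d3594310c483840000000000361f23060312982000000029e0001e00a0dd015100000002e1800618501b0494c000000052c8004aaa52009142200000055300035524c0223404000003015819800075801b30000000482702b0013021c012a4000004858854802608502125200000306a0660048c0a3c1200000001b0298503000660a11880000029892829080182a051600000051c4502c418014107082000006330605286001091104c0000064829c82809280043038000002e4453010a184008d014000001cb06480314900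60900a0000056092b044442204750000031c80000001380d4a288d00004ae00000004716025420c82004d1800000038a3081800c740036300000006c48618152c00018078000007800001f900bc00604a800004a801a580202a220187800000780005a09448a1006035000003500624600b0a040299200002890a00320c1092803289000019094002c402691004d0900001a240890220c48a0051a08000509211105000a88c0561200002c4214408226084804ac40000610c0a411001c84202e2080005440a2880418081a0354400006221450800f048043001b000b80000006a3060720480298046800000b04c0826904805600390000046108e106403006480740000030c111086061818503050000480070814584282828190800090019400254a5050281a20002218002b004a860605034800050600061a4440601c80485000501130040e420502b0061080022242400384181864804c8000048c88024441228530062200009418204c040c1b010a81200c00008c0a0031c2a80c180c01200009244843021c822502080c000c03005028a5500c1841020801404222c28064810a82084100211020882682d0416041012004109004624452841600c0208028200914230630225012041005020452220890888888490882800010081b28910a108308a050000864218088a11220889408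800080d0150a10940a112111100001428144a2101a106103180040018212431b0032803000000a1214c1089220611182048600400330102c40834101881e0020000320e049c804a804800005004c040d88c404896040601820002800c69142142421242400001160094c092412244214200008598080a0c4240a82424800001540062c1240a0d0440b00000830a050c24180c0a0e012020006a0030364804d0030000300a002402e94150242122820804002580248a0e044144180c020004120164e30035004800048140296008a4228144095041004000ea00214201a140904a0a84d2000001208a1420491148212350000010c0980c0189801871e0000001110c24091208a414291800001420848914401923214480000108940a0a440a08899188000012140888c214211118870000010a403410a0860c4a0a480000180032803284d2b0240900000110c140a2822402a4823800001fffff80000000000000000001f80007fff80000000000000018780078007ff80000000000018078007807807f80000000001444604460460607f0000000012225024182501860f800000011212814061280618e60000001092241250414054485c00000124106112120341505320000018004d004d032d48240900000140a0a10888c0c20c30e0000014111122030a1304124a80000100000000000000000007ffffe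 i
def AB (i : ℕ) : ℕ := Nat.shiftRight (AH (i + 23)) 23

variable {α : Type*} [Fintype α] {B : Set (Finset α)}

theorem hs_iso (hα : Fintype.card α = 22) (hB : IsSteinerSystem 3 6 B) : ∃ φ : Fin 100 ≃ Option (α ⊕ B),
    φ 0 = none ∧ ∀ i j, (pointBlockGraph B).Adj (φ i) (φ j) ↔ (AH i).testBit j = true := by
  classical
  obtain ⟨e, rfl⟩ := St22.uniq hα hB
  obtain ⟨β, hβ⟩ := blocks22 e
  refine ⟨ix.trans (e.sumCongr β).optionCongr, rfl, fun i j => ?_⟩
  have h1 : ∀ u w, pointBlockRel _ ((e.sumCongr β).optionCongr u) ((e.sumCongr β).optionCongr w) ↔ rH u w = true := by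
    rintro (_ | a | a) (_ | b | b) <;> simp [pointBlockRel, rH, hβ, disjoint_im, disjoint_dc]
  rw [pointBlockGraph, SimpleGraph.fromRel_adj, Equiv.trans_apply, Equiv.trans_apply, h1, h1, (Equiv.injective _).ne_iff,
    (Equiv.injective _).ne_iff]
  revert i j
  decide +kernel

theorem m22_iso (hα : Fintype.card α = 22) (hB : IsSteinerSystem 3 6 B) : ∃ φ : Fin 77 ≃ B,
    ∀ i j, (blockGraph B).Adj (φ i) (φ j) ↔ (AB i).testBit j = true := by
  classical
  obtain ⟨e, rfl⟩ := St22.uniq hα hB
  obtain ⟨β, hβ⟩ := blocks22 e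
  refine ⟨β, fun i j => ?_⟩
  rw [blockGraph, SimpleGraph.fromRel_adj, hβ, hβ, disjoint_im, disjoint_im, disjoint_dc, disjoint_dc,
    (Equiv.injective _).ne_iff]
  revert i j
  decide +kernel

theorem stein_count {κ α : Type*} [Fintype α] [DecidableEq α] {t k : ℕ} (T : Finset κ) (f : κ → Finset α)
    (hc : ∀ a ∈ T, (f a).card = k) (h5 : ∀ a ∈ T, ∀ b ∈ T, a ≠ b → (f a ∩ f b).card < t)
    (h3 : (Fintype.card α).choose t ≤ T.card * k.choose t) : IsSteinerSystem t k (f '' T) := by
  refine stein_of ?_ (fun s hs => ?_) ?_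
  · rintro _ ⟨m, hm, rfl⟩; exact hc m hm
  · have h6 : T.biUnion (fun m => powersetCard t (f m)) = powersetCard t univ := by
      refine eq_of_subset_of_card_le (fun x hx => ?_) ?_
      · obtain ⟨m, -, hm⟩ := mem_biUnion.1 hx
        exact mem_powersetCard_univ.2 (mem_powersetCard.1 hm).2
      · rw [card_biUnion, sum_const_nat (m := k.choose t) fun m hm => by rw [card_powersetCard, hc m hm]]
        · simpa using h3
        · intro a ha b hb hab
          refine disjoint_left.2 fun x h7 h8 => ?_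
          rw [mem_powersetCard] at h7 h8
          have := (card_le_card (subset_inter h7.1 h8.1)).trans_lt (h5 a ha b hb hab)
          omega
    obtain ⟨m, hm, h7⟩ := mem_biUnion.1 (h6 ▸ mem_powersetCard_univ.2 hs)
    exact ⟨_, ⟨m, hm, rfl⟩, (mem_powersetCard.1 h7).1⟩
  · rintro _ ⟨a, ha, rfl⟩ _ ⟨b, hb, rfl⟩ ht
    by_contra hne
    exact absurd (h5 a ha b hb fun e => hne (e ▸ rfl)) (not_lt.2 ht)

section
variable {V : Type*} [Fintype V] [DecidableEq V] {G : SimpleGraph V} [DecidableRel G.Adj]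

theorem card_common (a b : V) : #{u | G.Adj a u ∧ G.Adj b u} = Fintype.card (G.commonNeighbors a b) :=
  (Fintype.card_of_subtype _ fun x => by simp [SimpleGraph.mem_commonNeighbors]).symm

theorem srg_no_tri {n k m : ℕ} (h : G.IsSRGWith n k 0 m) {a b c : V} (h1 : G.Adj a b) (h2 : G.Adj a c) (h3 : G.Adj b c) :
    False := by
  have := h.of_adj a b h1
  rw [← card_common, card_eq_zero] at this
  exact notMem_empty c (this ▸ mem_filter.2 ⟨mem_univ _, h2, h3⟩)

theorem srg_two (h : G.IsSRGWith 100 22 0 6) {v w u : V} (h1 : v ≠ w) (h2 : ¬ G.Adj v w) (h3 : u ≠ v) (h4 : u ≠ w)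
    (h5 : ¬ G.Adj v u) (h6 : ¬ G.Adj w u) : #{a | (G.Adj v a ∧ G.Adj w a) ∧ G.Adj u a} = 2 := by
  have hμ : ∀ {a b : V}, a ≠ b → ¬ G.Adj a b → #{u | G.Adj a u ∧ G.Adj b u} = 6 := fun h1 h2 =>
    (card_common _ _).trans (h.of_not_adj h1 h2)
  have hk : ∀ a : V, #{u | G.Adj a u} = 22 := fun a => by
    rw [← h.regular a, ← SimpleGraph.card_neighborFinset_eq_degree, SimpleGraph.neighborFinset_eq_filter]
  obtain ⟨C, hC⟩ : ∃ C : Finset V, C = ({a | G.Adj v a ∧ G.Adj w a} : Finset V) := ⟨_, rfl⟩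
  have hm : ∀ a, a ∈ C ↔ G.Adj v a ∧ G.Adj w a := by simp [hC]
  have c6 : C.card = 6 := hC ▸ hμ h1 h2
  let x : V → ℤ := fun u => ∑ a ∈ C, if G.Adj a u then 1 else 0
  have e0 : ∀ u, x u = #{a ∈ C | G.Adj a u} := fun u => by simp [x]
  have e1 : ∑ u, x u = 132 := by
    rw [sum_comm, sum_congr rfl fun a _ => (show _ = (22 : ℤ) by simpa using congrArg Nat.cast (hk a))]
    simp [c6]
  have e2 : ∑ u, x u ^ 2 = 312 := by
    simp only [x, pow_two, sum_mul_sum]
    rw [sum_comm, sum_congr rfl fun a ha => (show _ = (52 : ℤ) from ?_)]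
    · simp [c6]
    rw [sum_comm, ← add_sum_erase _ _ ha, sum_congr (s₁ := C.erase a) rfl fun b hb => (show _ = (6 : ℤ) from ?_)]
    · have := congrArg (Nat.cast : ℕ → ℤ) (hk a)
      simp only [ite_mul, one_mul, zero_mul, ← ite_and, and_self, sum_boole, this, sum_const, card_erase_of_mem ha, c6]
      rfl
    · obtain ⟨hb1, hb2⟩ := mem_erase.1 hb
      have := congrArg (Nat.cast : ℕ → ℤ) (hμ hb1.symm fun e => srg_no_tri h ((hm a).1 ha).1 ((hm b).1 hb2).1 e)
      simpa only [ite_mul, one_mul, zero_mul, ← ite_and, sum_boole, Nat.cast_ofNat] using this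
  have e3 : ∑ u, (x u - 2) ^ 2 = 184 := by
    simp only [sub_sq, sum_add_distrib, sum_sub_distrib, e2, ← sum_mul, ← mul_sum, e1, sum_const, card_univ, h.card]
    rfl
  let R : Finset V := ({u | G.Adj v u} : Finset V) ∪ ({u | G.Adj w u} : Finset V)
  have e4 : R.card = 38 := by
    have := card_union_add_card_inter ({u | G.Adj v u} : Finset V) {u | G.Adj w u}
    rw [hk, hk, ← filter_and, hμ h1 h2] at this
    simp only [R]; omega
  have e5 : ∑ u ∈ insert v (insert w R), (x u - 2) ^ 2 = 184 := by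
    rw [sum_insert (by simp [R, h1, G.adj_comm w v, h2]), sum_insert (by simp [R, h2]),
      sum_congr rfl fun u hu => (show _ = (4 : ℤ) from ?_), e0, e0, filter_true_of_mem fun a ha => ((hm a).1 ha).1.symm,
      filter_true_of_mem fun a ha => ((hm a).1 ha).2.symm, c6, sum_const, e4]
    · rfl
    · rw [e0, filter_false_of_mem fun a ha e => ?_]
      · rfl
      · rcases mem_union.1 hu with hu | hu
        · exact srg_no_tri h ((hm a).1 ha).1 (mem_filter.1 hu).2 e
        · exact srg_no_tri h ((hm a).1 ha).2 (mem_filter.1 hu).2 e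
  rw [← sum_add_sum_compl (insert v (insert w R)), e5, add_eq_left, sum_eq_zero_iff_of_nonneg fun _ _ => sq_nonneg _]
    at e3
  have := e3 u (by simp [R, h3, h4, h5, h6])
  rw [sq_eq_zero_iff, sub_eq_zero, e0, hC, filter_filter] at this
  simp only [G.adj_comm u]
  exact_mod_cast this

theorem srg_iso (h : G.IsSRGWith 100 22 0 6) (v : V) :
    ∃ φ : Fin 100 ≃ V, φ 0 = v ∧ ∀ i j, G.Adj (φ i) (φ j) ↔ (AH i).testBit j = true := by
  let W : Finset V := {w | w ≠ v ∧ ¬ G.Adj v w}
  let bl : V → Finset (G.neighborSet v) := fun w => {a | G.Adj w a}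
  have hα : Fintype.card (G.neighborSet v) = 22 := (G.card_neighborSet_eq_degree v).trans (h.regular v)
  have hc : ∀ (P : V → Prop) [DecidablePred P], #{a : G.neighborSet v | P a} = #{a | G.Adj v a ∧ P a} := fun P _ =>
    card_bij (fun a _ => a.1) (fun a ha => by simpa using ⟨a.2, (mem_filter.1 ha).2⟩) (fun _ _ _ _ => Subtype.ext)
      fun b hb => ⟨⟨b, (mem_filter.1 hb).2.1⟩, by simpa using (mem_filter.1 hb).2.2, rfl⟩
  have h1 : ∀ w ∈ W, (bl w).card = 6 := fun w hw => by
    rw [hc, card_common]; exact h.of_not_adj (mem_filter.1 hw).2.1.symm (mem_filter.1 hw).2.2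
  have h2 : ∀ w ∈ W, ∀ u ∈ W, w ≠ u → ¬ G.Adj w u → (bl w ∩ bl u).card = 2 := fun w hw u hu hn ha => by
    rw [← filter_and, hc fun a => G.Adj w a ∧ G.Adj u a]
    simp only [← and_assoc]
    exact srg_two h (mem_filter.1 hw).2.1.symm (mem_filter.1 hw).2.2 (mem_filter.1 hu).2.1 hn.symm
      (mem_filter.1 hu).2.2 ha
  have h3 : ∀ w u, G.Adj w u → Disjoint (bl w) (bl u) := fun w u ha => disjoint_left.2 fun a h1 h2 =>
    srg_no_tri h ha (mem_filter.1 h1).2 (mem_filter.1 h2).2
  have h4 : ∀ w ∈ W, ∀ u ∈ W, w ≠ u → (bl w ∩ bl u).card < 3 := fun w hw u hu hn => by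
    by_cases ha : G.Adj w u
    · rw [disjoint_iff_inter_eq_empty.1 (h3 w u ha)]; exact three_pos
    · rw [h2 w hw u hu hn ha]; decide
  have h5 : W.card = 77 := by
    have : W = (insert v (G.neighborFinset v))ᶜ := by ext; simp [W]
    rw [this, card_compl, card_insert_of_notMem (by simp), G.card_neighborFinset_eq_degree, h.regular, h.card]
  have hB := stein_count W bl h1 h4 (by rw [hα, h5]; decide)
  obtain ⟨φ, h6, h7⟩ := hs_iso hα hB
  have h8 : Set.InjOn bl W := fun w hw u hu e => by
    by_contra hn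
    have := h4 w hw u hu hn
    rw [← e, inter_self, h1 w hw] at this
    omega
  let β := (h8.bijOn_image.equiv bl).symm
  have hβ : ∀ b, bl (β b) = b := fun b => congrArg Subtype.val ((h8.bijOn_image.equiv bl).apply_symm_apply b)
  have hW : ∀ b, (β b).1 ≠ v ∧ ¬ G.Adj v (β b) := fun b => (mem_filter.1 (β b).2).2
  let f : Option (G.neighborSet v ⊕ (bl '' W)) → V := fun u => u.elim v (Sum.elim (↑) fun b => β b)
  have hf : Function.Surjective f := fun u => by
    by_cases e : u = v
    · exact ⟨none, e.symm⟩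
    by_cases ha : G.Adj v u
    · exact ⟨some (.inl ⟨u, ha⟩), rfl⟩
    · exact ⟨some (.inr (β.symm ⟨u, by simp [W, e, ha]⟩)), by simp [f]⟩
  have hf2 : Function.Bijective f := (Nat.bijective_iff_surjective_and_card f).2 ⟨hf, by
    rw [← Nat.card_congr φ, Nat.card_eq_fintype_card (α := V), h.card]; simp⟩
  refine ⟨φ.trans (Equiv.ofBijective f hf2), by simp [h6, f], fun i j => ?_⟩
  rw [← h7, pointBlockGraph, SimpleGraph.fromRel_adj]
  show G.Adj (f (φ i)) (f (φ j)) ↔ _
  have h9 : ∀ (a : G.neighborSet v) (b : bl '' W), a ∈ b.1 ↔ G.Adj (β b) a := fun a b => by rw [← hβ b]; simp [bl]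
  have hN : ∀ a : G.neighborSet v, G.Adj v a := fun a => a.2
  rcases φ i with _ | a | a <;> rcases φ j with _ | b | b <;> simp only [f, Option.elim, Sum.elim_inl, Sum.elim_inr,
    pointBlockRel, h9, ne_eq, reduceCtorEq, not_false_iff, true_and, or_false, false_or, and_false, iff_false, iff_true,
    Option.some.injEq, or_self, G.irrefl, hN, hW, (hN _).symm, G.adj_comm (β _) v]
  · exact srg_no_tri h (hN a) (hN b)
  · exact G.adj_comm _ _
  · refine ⟨fun e => ⟨fun e' => e.ne (by rw [Sum.inr.inj e']), Or.inl (hβ a ▸ hβ b ▸ h3 _ _ e)⟩, fun e => ?_⟩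
    by_contra hn
    have := h2 _ (β a).2 _ (β b).2 (fun e' => e.1 (by rw [β.injective (Subtype.ext e')])) hn
    rw [hβ, hβ, disjoint_iff_inter_eq_empty.1 (e.2.elim id fun h => h.symm)] at this
    cases this
end

end H0.St
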